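import Cfsg.Agent.Lib.LocalEven.MovesFixed.SymFamily
import Cfsg.Agent.Lib.Fusion.Thompson
import Cfsg.Prelude.Def_BaumannBlocks

/-!
A `p`-minimal group of characteristic `p` with `C**(G,T) ≠ G`, acting on `Ω₁(Z(O_p(G)))`: the images of the
elementary abelian subgroups of maximal order give a family of blocks.
-/

set_option autoImplicit false
set_option linter.unusedSectionVars false
set_option linter.style.haveILetI false

open scoped IsMulCommutative commutatorElement

namespace CfsgLib.LocalEven.MovesFixed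

open Cfsg CfsgLib.LocalEven.RankOneFF CfsgLib.LocalEven.SylowIn CfsgLib.Fusion.Thompson

variable {G : Type*} [Group G] [Finite G] {p : ℕ} [Fact p.Prime]

theorem omc_le (X : Subgroup G) : omegaOneCenter p X ≤ X ⊓ Subgroup.centralizer (X : Set G) :=
  (Subgroup.closure_le _).2 fun _ h => h.1

theorem mem_omc {X : Subgroup G} {x : G} (hx : x ∈ X) (hc : ∀ y ∈ X, y * x = x * y) (hpow : x ^ p = 1) :
    x ∈ omegaOneCenter p X :=
  Subgroup.subset_closure ⟨Subgroup.mem_inf.2 ⟨hx, Subgroup.mem_centralizer_iff.2 hc⟩, hpow⟩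

theorem omc_pow (X : Subgroup G) {u : G} (hu : u ∈ omegaOneCenter p X) : u ^ p = 1 := by
  induction hu using Subgroup.closure_induction with
  | mem x hx => exact hx.2
  | one => exact one_pow p
  | mul x y hx hy ix iy =>
    have hc : Commute x y :=
      Subgroup.mem_centralizer_iff.1 ((omc_le X hy).2) x (omc_le X hx).1
    rw [hc.mul_pow, ix, iy, one_mul]
  | inv x _ ix => rw [inv_pow, ix, inv_one]

theorem omc_isEA (X : Subgroup G) : IsElementaryAbelian p (omegaOneCenter p X) :=
  ⟨IsMulCommutative.of_comm fun a b => Subtype.ext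
    (Subgroup.mem_centralizer_iff.1 (omc_le X b.2).2 _ (omc_le X a.2).1), fun _ h => omc_pow X h⟩

theorem omc_normal (X : Subgroup G) [X.Normal] : (omegaOneCenter p X).Normal := by
  rw [← Subgroup.normalizer_eq_top_iff, eq_top_iff]
  refine le_normalizer_of_map_conj fun g _ => ?_
  rw [omegaOneCenter, omegaOne_map, Subgroup.map_inf _ _ _ (MulAut.conj g).injective, ← centralizer_map_conj,
    map_conj_eq_iff.2 ((Subgroup.normalizer_eq_top_iff.2 ‹X.Normal›).symm ▸ Subgroup.mem_top g)]

/-- The module. -/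
abbrev Vp (p : ℕ) (G : Type*) [Group G] : Subgroup G := omegaOneCenter p (pCore p G)

/-- Its centralizer. -/
abbrev Cp (p : ℕ) (G : Type*) [Group G] : Subgroup G := Subgroup.centralizer (Vp p G : Set G)

theorem Vp_normal : (Vp p G).Normal := by
  haveI := pCore_normal G p
  exact omc_normal _

theorem Cp_normal : (Cp p G).Normal := by
  haveI := Vp_normal (p := p) (G := G)
  infer_instance

theorem pCore_le_Cp : pCore p G ≤ Cp p G := fun r hr =>
  Subgroup.mem_centralizer_iff.2 fun v hv => (Subgroup.mem_centralizer_iff.1 (omc_le _ hv).2 r hr).symm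

/-- The action of the quotient on the module, with its family of blocks. -/
structure CStarFamily (p : ℕ) [Fact p.Prime] (G : Type*) [Group G] [Finite G] [hC : (Cp p G).Normal]
    [IsMulCommutative (Vp p G)]
    (T : Sylow p (G ⧸ Cp p G)) (ρ : G ⧸ Cp p G →* AddMonoid.End (Additive (Vp p G))) {r : ℕ}
    (E : Fin r → Subgroup (G ⧸ Cp p G)) : Prop where
  act : ∀ (g : G) (v : Additive (Vp p G)),
    ((Additive.toMul (ρ (g : G ⧸ Cp p G) v) : Vp p G) : G) = g * ((Additive.toMul v : Vp p G) : G) * g⁻¹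
  family : Family ρ T E
  image : (thompsonSubgroup p G).map (QuotientGroup.mk' (Cp p G)) = ⨆ i, E i
  pos : 0 < r

theorem exists_cStarFamily [hC : (Cp p G).Normal] [IsMulCommutative (Vp p G)] (hmin : IsPMinimal p G)
    (hG : Subgroup.centralizer (pCore p G : Set G) ≤ pCore p G) (T : Sylow p G)
    (hne : cStarStarOf p (T : Subgroup G) ≠ ⊤) :
    ∃ (ρ : G ⧸ Cp p G →* AddMonoid.End (Additive (Vp p G))) (r : ℕ) (E : Fin r → Subgroup (G ⧸ Cp p G)),
      CStarFamily p G (T.mapSurjective (QuotientGroup.mk'_surjective (Cp p G))) ρ E := by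
  classical
  haveI hVn := Vp_normal (p := p) (G := G)
  haveI hQn := pCore_normal G p
  set V := Vp p G
  set C := Cp p G
  have hV : IsElementaryAbelian p V := omc_isEA _
  have hVN : (⊤ : Subgroup G) ≤ Subgroup.normalizer (V : Set G) := (Subgroup.normalizer_eq_top_iff.2 hVn).ge
  set π := QuotientGroup.mk' C
  have hπ : Function.Surjective π := QuotientGroup.mk'_surjective C
  -- the action
  set ρG : G →* AddMonoid.End (Additive V) :=
    (conjV hVN).comp (Subgroup.topEquiv (G := G)).symm.toMonoidHom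
  have hρG : ∀ g v, ((Additive.toMul (ρG g v) : V) : G) = g * ((Additive.toMul v : V) : G) * g⁻¹ := fun g v => rfl
  have hker : C ≤ ρG.ker := fun c hc => by
    refine MonoidHom.mem_ker.2 (AddMonoidHom.ext fun v => Additive.toMul.injective (Subtype.ext ?_))
    show c * ((Additive.toMul v : V) : G) * c⁻¹ = _
    rw [← Subgroup.mem_centralizer_iff.1 hc _ (Additive.toMul v).2, mul_inv_cancel_right]
    rfl
  set ρ : G ⧸ C →* AddMonoid.End (Additive V) := QuotientGroup.lift C ρG hker
  have hρ : ∀ (g : G) v, ((Additive.toMul (ρ (g : G ⧸ C) v) : V) : G) =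
      g * ((Additive.toMul v : V) : G) * g⁻¹ := fun g v => hρG g v
  have hamb : Ambient ρ p := by
    refine ⟨(injective_iff_map_eq_one ρ).2 fun x hx => ?_, fun v => Additive.toMul.injective (Subtype.ext ?_)⟩
    · obtain ⟨g, rfl⟩ := QuotientGroup.mk_surjective x
      refine (QuotientGroup.eq_one_iff g).2 (Subgroup.mem_centralizer_iff.2 fun v hv => ?_)
      have h : g * v * g⁻¹ = v := by
        have h1 := hρ g (Additive.ofMul (⟨v, hv⟩ : V))
        rw [hx] at h1
        exact h1.symm
      exact (mul_inv_eq_iff_eq_mul.1 h).symm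
    · rw [toMul_nsmul, Subgroup.coe_pow]
      exact hV.2 _ (Additive.toMul v).2
  -- the maximal subgroup over `T`
  have hQT : pCore p G ≤ (T : Subgroup G) := by
    obtain ⟨P, hP⟩ := (isPGroup_pCore G p).exists_le_sylow
    obtain ⟨g, hg⟩ := MulAction.exists_smul_eq G P T
    intro x hx
    rw [← hg]
    exact ⟨g⁻¹ * x * g, hP (by simpa [mul_assoc] using hQn.conj_mem x hx g⁻¹),
      show g * (g⁻¹ * x * g) * g⁻¹ = x by group⟩
  have hTC : (T : Subgroup G) ≤ cStarStarOf p (T : Subgroup G) := by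
    refine le_sup_of_le_right (le_normalizer_of_map_conj fun t ht => ?_)
    rw [← thompsonSubgroupOf_map_conj, map_conj_eq_iff.2 (Subgroup.le_normalizer ht)]
  obtain ⟨hnT, M, ⟨hM, hTM⟩, huniq⟩ := hmin T
  have hover : ∀ K : Subgroup G, (T : Subgroup G) ≤ K → K ≠ ⊤ → K ≤ M := fun K hK hK' => by
    obtain ⟨M', hM', hle⟩ := (eq_top_or_exists_le_coatom K).resolve_left hK'
    exact hle.trans (huniq M' ⟨hM', hK.trans hle⟩).le
  have hstarM : cStarStarOf p (T : Subgroup G) ≤ M := hover _ hTC hne
  have hZV : omegaOneCenter p (T : Subgroup G) ≤ V := (Subgroup.closure_le _).2 fun x hx => by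
    obtain ⟨⟨hxT, hxc⟩, hxp⟩ := hx
    refine mem_omc (hG (Subgroup.mem_centralizer_iff.2 fun y hy => Subgroup.mem_centralizer_iff.1 hxc y (hQT hy)))
      (fun y hy => Subgroup.mem_centralizer_iff.1 hxc y (hQT hy)) hxp
  have hCM : C ≤ M := (Subgroup.centralizer_le hZV).trans (le_sup_left.trans hstarM)
  set TT := T.mapSurjective hπ
  have hTT : (TT : Subgroup (G ⧸ C)) = (T : Subgroup G).map π := rfl
  have hbase : Base ρ TT (M.map π) := by
    refine ⟨hamb, hTT.le.trans (Subgroup.map_mono hTM), fun h => hM.1 ?_, fun K hK hK' => ?_,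
      fun U hU hUp => ?_, ?_⟩
    · have h1 := congrArg (Subgroup.comap π) h
      rwa [Subgroup.comap_map_eq, QuotientGroup.ker_mk', sup_eq_left.2 hCM, Subgroup.comap_top] at h1
    · refine (Subgroup.map_comap_eq_self_of_surjective hπ K).ge.trans (Subgroup.map_mono (hover _ ?_ fun e => hK' ?_))
      · exact Subgroup.map_le_iff_le_comap.1 (hTT.ge.trans hK)
      · rw [← Subgroup.map_comap_eq_self_of_surjective hπ K, e, Subgroup.map_top_of_surjective _ hπ]
    · -- the core is trivial
      set K := U.comap π with hK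
      haveI : K.Normal := hU.comap π
      set S := (T : Subgroup G) ⊓ K with hS
      have hUT : U ≤ (TT : Subgroup (G ⧸ C)) := by
        obtain ⟨P, hP⟩ := hUp.exists_le_sylow
        obtain ⟨g, hg⟩ := MulAction.exists_smul_eq (G ⧸ C) P TT
        intro x hx
        rw [← hg]
        exact ⟨g⁻¹ * x * g, hP (by simpa [mul_assoc] using hU.conj_mem x hx g⁻¹),
          show g * (g⁻¹ * x * g) * g⁻¹ = x by group⟩
      have hKSC : K ≤ S ⊔ C := fun x hx => by
        obtain ⟨t, ht, he⟩ : π x ∈ (T : Subgroup G).map π := hTT ▸ hUT hx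
        have hc : t⁻¹ * x ∈ C := QuotientGroup.eq.1 he
        have htK : t ∈ K := Subgroup.mem_comap.2 (he ▸ hx)
        simpa using mul_mem (Subgroup.mem_sup_left (T := C) (show t ∈ S from Subgroup.mem_inf.2 ⟨ht, htK⟩)) (Subgroup.mem_sup_right hc)
      have hSs : IsSylowIn p S K := by
        refine ⟨inf_le_right, T.2.to_le inf_le_left, fun X hX hXp hle => ?_⟩
        obtain ⟨P, hP⟩ := hXp.exists_le_sylow
        obtain ⟨g, hg⟩ := MulAction.exists_smul_eq G P T
        have hle' : RankOneFF.cj g X ≤ S := le_inf (hg ▸ Subgroup.map_mono hP) fun z hz => by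
          have := ‹K.Normal›.conj_mem _ (hX (mem_cj.1 hz)) g
          simpa [mul_assoc] using this
        exact (Subgroup.eq_of_le_of_card_ge hle ((card_cj g X).ge.trans (Subgroup.card_le_of_le hle'))).symm
      have hgen : ∀ g : G, g ∈ Subgroup.normalizer (S : Set G) ⊔ C := fun g => by
        obtain ⟨l, hl, n, hn, rfl⟩ := frattini_argument (H := ⊤) hSs
          (Subgroup.normalizer_eq_top_iff.2 ‹K.Normal›).ge le_top (Subgroup.mem_top g)
        exact mul_mem (sup_le_sup_right Subgroup.le_normalizer C (hKSC hl)) (Subgroup.mem_sup_left (Subgroup.mem_inf.1 hn).2)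
      have hTS : (T : Subgroup G) ≤ Subgroup.normalizer (S : Set G) := le_normalizer_of_map_conj fun t ht =>
        Subgroup.eq_of_le_of_card_ge (le_inf (RankOneFF.cj_le inf_le_left ht) fun z hz => by
          have := ‹K.Normal›.conj_mem _ (Subgroup.mem_inf.1 (mem_cj.1 hz)).2 t
          simpa [mul_assoc] using this) (card_cj t S).ge
      have hStop : Subgroup.normalizer (S : Set G) = ⊤ := by
        by_contra hne'
        exact hM.1 (eq_top_iff.2 fun g _ => sup_le (hover _ hTS hne') hCM (hgen g))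
      haveI : S.Normal := Subgroup.normalizer_eq_top_iff.1 hStop
      have hSC : S ≤ C := (SylowIn.le_pCore (T.2.to_le inf_le_left)).trans pCore_le_Cp
      refine eq_bot_iff.2 fun u hu => ?_
      obtain ⟨x, rfl⟩ := hπ u
      exact (Subgroup.mem_bot).2 ((QuotientGroup.eq_one_iff x).2 (sup_le hSC le_rfl (hKSC hu)))
    · by_contra hall
      push Not at hall
      refine hne (eq_top_iff.2 fun g _ => Subgroup.mem_sup_left (Subgroup.mem_centralizer_iff.2 fun z hz => ?_))
      have hfix : Additive.ofMul (⟨z, hZV hz⟩ : V) ∈ fx ρ (TT : Subgroup (G ⧸ C)) := by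
        intro x hx
        obtain ⟨t, ht, rfl⟩ : x ∈ (T : Subgroup G).map π := hTT ▸ hx
        refine Additive.toMul.injective (Subtype.ext ?_)
        rw [show π t = (t : G ⧸ C) from rfl, hρ]
        show t * z * t⁻¹ = z
        rw [Subgroup.mem_centralizer_iff.1 (omc_le _ hz).2 t ht, mul_inv_cancel_right]
      have h1 := hall _ hfix (g : G ⧸ C) (Subgroup.mem_top _)
      have h2 : g * z * g⁻¹ = z := by
        have h3 := hρ g (Additive.ofMul (⟨z, hZV hz⟩ : V))
        rw [h1] at h3
        exact h3.symm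
      exact (mul_inv_eq_iff_eq_mul.1 h2).symm
  -- elementary abelian subgroups of maximal order
  have hoff : ∀ A ∈ maxElementaryAbelianSubgroups p G, (∀ a ∈ A.map π, ∀ b ∈ A.map π, a * b = b * a) ∧
      (∀ a ∈ A.map π, a ^ p = 1) ∧ Nat.card (Additive V) ≤ Nat.card (A.map π) * Nat.card (fx ρ (A.map π)) := by
    intro A hA
    refine ⟨fun a ha b hb => mul_comm_of_isEA (isEA_map π hA.1) ha hb, (isEA_map π hA.1).2, ?_⟩
    set B := A ⊓ C
    have hBV : V ≤ Subgroup.normalizer (B : Set G) := fun v hv => Subgroup.centralizer_le_normalizer _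
      (Subgroup.mem_centralizer_iff.2 fun b hb => (Subgroup.mem_centralizer_iff.1 hb.2 v hv).symm)
    have hEA : IsElementaryAbelian p (B ⊔ V : Subgroup G) := by
      have hc : B ⊔ V ≤ Subgroup.centralizer ((B ⊔ V : Subgroup G) : Set G) := by
        refine sup_le (fun b hb => ?_) fun v hv => ?_
        · have h : B ⊔ V ≤ Subgroup.centralizer ({b} : Set G) := sup_le
            (fun b' hb' => Subgroup.mem_centralizer_singleton_iff.2 (mul_comm_of_isEA hA.1 hb'.1 hb.1))
            fun v hv => Subgroup.mem_centralizer_singleton_iff.2 (Subgroup.mem_centralizer_iff.1 hb.2 v hv)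
          exact Subgroup.mem_centralizer_iff.2 fun x hx => Subgroup.mem_centralizer_singleton_iff.1 (h hx)
        · have h : B ⊔ V ≤ Subgroup.centralizer ({v} : Set G) := sup_le
            (fun b' hb' => Subgroup.mem_centralizer_singleton_iff.2 (Subgroup.mem_centralizer_iff.1 hb'.2 v hv).symm)
            fun v' hv' => Subgroup.mem_centralizer_singleton_iff.2 (mul_comm_of_isEA hV hv' hv)
          exact Subgroup.mem_centralizer_iff.2 fun x hx => Subgroup.mem_centralizer_singleton_iff.1 (h hx)
      refine ⟨IsMulCommutative.of_comm fun a b => Subtype.ext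
        (Subgroup.mem_centralizer_iff.1 (hc b.2) _ a.2), fun x hx => ?_⟩
      obtain ⟨v, hv, b, hb, rfl⟩ := Subgroup.mem_sup_of_normal_left.1 (sup_comm B V ▸ hx : x ∈ V ⊔ B)
      rw [(show Commute v b from (Subgroup.mem_centralizer_iff.1 hb.2 v hv)).mul_pow, hV.2 v hv, hA.1.2 b hb.1,
        one_mul]
    have h1 : Nat.card (B ⊔ V : Subgroup G) ≤ Nat.card A := hA.2 _ hEA
    have h2 := CfsgLib.Fusion.Thompson.card_sup_mul_card_inf hBV
    have h3 : Nat.card (B ⊓ V : Subgroup G) ≤ Nat.card (fx ρ (A.map π)) := by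
      refine Nat.card_le_card_of_injective (fun x => (⟨Additive.ofMul (⟨(x : G), x.2.2⟩ : V), ?_⟩ : fx ρ (A.map π)))
        fun x y e => Subtype.ext (congrArg (fun z : fx ρ (A.map π) => ((Additive.toMul (z : Additive V) : V) : G)) e)
      rintro _ ⟨a, ha, rfl⟩
      refine Additive.toMul.injective (Subtype.ext ?_)
      rw [show π a = (a : G ⧸ C) from rfl, hρ]
      show a * (x : G) * a⁻¹ = x
      rw [mul_comm_of_isEA hA.1 ha x.2.1.1, mul_inv_cancel_right]
    have h4 : Nat.card A = Nat.card (A.map π) * Nat.card B := by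
      have := Subgroup.card_eq_card_quotient_mul_card_subgroup (π.comp A.subtype).ker
      rw [Nat.card_congr (QuotientGroup.quotientKerEquivRange (π.comp A.subtype)).toEquiv,
        MonoidHom.range_comp, Subgroup.range_subtype, show (π.comp A.subtype).ker = B.subgroupOf A by
          ext a
          exact ⟨fun h => Subgroup.mem_inf.2 ⟨a.2, (QuotientGroup.eq_one_iff _).1 h⟩,
            fun h => (QuotientGroup.eq_one_iff _).2 (Subgroup.mem_inf.1 h).2⟩,
        Nat.card_congr (Subgroup.subgroupOfEquivOfLe inf_le_left).toEquiv] at this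
      exact this
    refine Nat.le_of_mul_le_mul_left ?_ (Nat.card_pos (α := B))
    calc Nat.card B * Nat.card (Additive V) = Nat.card (B ⊔ V : Subgroup G) * Nat.card (B ⊓ V : Subgroup G) := h2.symm
      _ ≤ Nat.card A * Nat.card (fx ρ (A.map π)) := Nat.mul_le_mul h1 h3
      _ = _ := by rw [h4]; ring
  -- one of them is not in `C`
  obtain ⟨A₁, hA₁, hA₁C⟩ : ∃ A ∈ maxElementaryAbelianSubgroups p G, ¬ A ≤ C := by
    by_contra hall
    push Not at hall
    obtain ⟨A₀, hA₀, hA₀T⟩ := exists_maxEA_le_sylow T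
    set S := (T : Subgroup G) ⊓ C with hS
    have hJ : thompsonSubgroupOf p (T : Subgroup G) = thompsonSubgroupOf p S := by
      rw [thompsonSubgroupOf_eq hA₀ hA₀T, thompsonSubgroupOf_eq hA₀ (le_inf hA₀T (hall A₀ hA₀))]
      congr 1
      ext A
      exact ⟨fun h => ⟨h.1, le_inf h.2 (hall A h.1)⟩, fun h => ⟨h.1, h.2.trans inf_le_left⟩⟩
    have hSs : IsSylowIn p S C := by
      refine ⟨inf_le_right, T.2.to_le inf_le_left, fun X hX hXp hle => ?_⟩
      obtain ⟨P, hP⟩ := hXp.exists_le_sylow
      obtain ⟨g, hg⟩ := MulAction.exists_smul_eq G P T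
      have hle' : RankOneFF.cj g X ≤ S := le_inf (hg ▸ Subgroup.map_mono hP) fun z hz => by
        have := hC.conj_mem _ (hX (mem_cj.1 hz)) g
        simpa [mul_assoc] using this
      exact (Subgroup.eq_of_le_of_card_ge hle ((card_cj g X).ge.trans (Subgroup.card_le_of_le hle'))).symm
    refine hM.1 (eq_top_iff.2 fun g _ => ?_)
    obtain ⟨l, hl, n, hn, rfl⟩ := frattini_argument (H := ⊤) hSs (Subgroup.normalizer_eq_top_iff.2 hC).ge le_top
      (Subgroup.mem_top g)
    refine mul_mem (hCM hl) (hstarM (Subgroup.mem_sup_right ?_))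
    rw [hJ]
    refine map_conj_eq_iff.1 ?_
    rw [← thompsonSubgroupOf_map_conj, map_conj_eq_iff.2 (Subgroup.mem_inf.1 hn).2]
  obtain ⟨hcomm, hpow, hwt⟩ := hoff A₁ hA₁
  have hne₁ : A₁.map π ≠ ⊥ := fun e => hA₁C fun a ha =>
    (QuotientGroup.eq_one_iff a).1 ((Subgroup.mem_bot).1 (e ▸ Subgroup.mem_map_of_mem π ha))
  obtain ⟨B, hBD, hB, -⟩ := exists_off_sub hamb hne₁ hcomm hpow hwt
  obtain ⟨A, hAB, hA, -⟩ := exists_good hbase hB
  obtain ⟨r, E, hF⟩ := exists_family hbase hA
  have hJn : ((thompsonSubgroup p G).map π).Normal := by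
    haveI : (thompsonSubgroup p G).Normal := Subgroup.normal_of_characteristic _
    exact Subgroup.Normal.map inferInstance π hπ
  refine ⟨ρ, r, E, hρ, hF, le_antisymm ?_ (iSup_le fun i => ?_), hF.pos hbase.le hbase.ne_top⟩
  · rw [thompsonSubgroup, Subgroup.map_le_iff_le_comap]
    refine sSup_le fun A hA => Subgroup.map_le_iff_le_comap.1 ?_
    obtain ⟨h1, h2, h3⟩ := hoff A hA
    exact hF.off_le _ h1 h2 h3
  · exact hF.le_normal _ hJn A hA ((hAB.trans hBD).trans (Subgroup.map_mono (le_sSup hA₁))) i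

end CfsgLib.LocalEven.MovesFixed
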