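import Cfsg.Agent.Lib.LocalEven.RankOneFF.MinimalPair

/-!
A minimal parabolic acting on an elementary abelian group with no fixed points: definitions, stabilisers of
two-step chains and fixed points of `p`-groups on quotients.
-/

set_option autoImplicit false
set_option linter.unusedSectionVars false
set_option linter.style.haveILetI false

namespace CfsgLib.LocalEven.MovesFixed

open CfsgLib.LocalEven.RankOneFF CfsgLib.LocalEven.SylowIn

variable {H : Type*} [Group H] [Finite H] {W : Type*} [AddCommGroup W] [Finite W] {p : ℕ} [Fact p.Prime]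

/-- The configuration needed for the offenders: some fixed point of `T` is moved. -/
structure Base (ρ : H →* AddMonoid.End W) (T : Sylow p H) (N : Subgroup H) : Prop where
  amb : Ambient ρ p
  le : (T : Subgroup H) ≤ N
  ne_top : N ≠ ⊤
  overgroup : ∀ K : Subgroup H, (T : Subgroup H) ≤ K → K ≠ ⊤ → K ≤ N
  core : ∀ U : Subgroup H, U.Normal → IsPGroup p U → U = ⊥
  moved : ∃ v ∈ fx ρ (T : Subgroup H), v ∉ fx ρ (⊤ : Subgroup H)

/-- The configuration without fixed points. -/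
structure Ctx (ρ : H →* AddMonoid.End W) (T : Sylow p H) (N : Subgroup H) : Prop where
  amb : Ambient ρ p
  le : (T : Subgroup H) ≤ N
  ne_top : N ≠ ⊤
  overgroup : ∀ K : Subgroup H, (T : Subgroup H) ≤ K → K ≠ ⊤ → K ≤ N
  core : ∀ U : Subgroup H, U.Normal → IsPGroup p U → U = ⊥
  nfix : fx ρ (⊤ : Subgroup H) = ⊥
  span : AddSubgroup.closure {u : W | ∃ x : H, (orderOf x).Coprime p ∧ ∃ v, u = ρ x v - v} = ⊤

variable (ρ : H →* AddMonoid.End W)

/-- Every nontrivial proper subgroup has smaller weight. -/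
def Strict (A : Subgroup H) : Prop :=
  ∀ B : Subgroup H, B ≤ A → B ≠ ⊥ → B ≠ A → Nat.card B * Nat.card (fx ρ B) < Nat.card A * Nat.card (fx ρ A)

/-- An exact offender whose nontrivial elements have the same fixed points. -/
structure Good (A : Subgroup H) : Prop where
  off : Off ρ A
  exact : Nat.card W = Nat.card A * Nat.card (fx ρ A)
  fix : ∀ a ∈ A, a ≠ 1 → ∀ v, ρ a v = v → v ∈ fx ρ A

/-- The stabiliser of the chain `W ≥ C ≥ 0`. -/
def chain (C : AddSubgroup W) : Subgroup H where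
  carrier := {g | (∀ c ∈ C, ρ g c = c) ∧ ∀ v, ρ g v - v ∈ C}
  one_mem' := ⟨fun c _ => act_one ρ c, fun v => by rw [act_one, sub_self]; exact zero_mem _⟩
  mul_mem' := fun {x y} hx hy => ⟨fun c hc => by rw [act_mul, hy.1 c hc, hx.1 c hc], fun v => by
    rw [act_mul, ← sub_add_sub_cancel (ρ x (ρ y v)) (ρ y v) v]
    exact add_mem (hx.2 _) (hy.2 _)⟩
  inv_mem' := fun {x} hx => ⟨fun c hc => by
      conv_lhs => rw [← hx.1 c hc]
      exact act_inv ρ x c, fun v => by
    have h := neg_mem (hx.2 (ρ x⁻¹ v))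
    rwa [act_inv', neg_sub] at h⟩

variable {ρ}

theorem mem_chain {C : AddSubgroup W} {g : H} :
    g ∈ chain ρ C ↔ (∀ c ∈ C, ρ g c = c) ∧ ∀ v, ρ g v - v ∈ C := Iff.rfl

theorem chain_quad (C : AddSubgroup W) {a b : H} (ha : a ∈ chain ρ C) (hb : b ∈ chain ρ C) (v : W) :
    ρ a (ρ b v - v) = ρ b v - v := ha.1 _ (hb.2 v)

theorem le_fx_chain (C : AddSubgroup W) : C ≤ fx ρ (chain ρ C) := fun c hc _ hg => hg.1 c hc

theorem chain_sub {C : AddSubgroup W} {a b : H} (ha : a ∈ chain ρ C) (hb : b ∈ chain ρ C) (v : W) :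
    ρ (a * b) v - v = (ρ a v - v) + (ρ b v - v) := by
  have h := chain_quad C ha hb v
  rw [map_sub] at h
  rw [act_mul, eq_add_of_sub_eq h]
  abel

theorem chain_comm (hamb : Ambient ρ p) (C : AddSubgroup W) {a b : H} (ha : a ∈ chain ρ C) (hb : b ∈ chain ρ C) :
    a * b = b * a := by
  refine hamb.faithful (AddMonoidHom.ext fun v => ?_)
  show ρ (a * b) v = ρ (b * a) v
  rw [← sub_left_inj (a := v), chain_sub ha hb, chain_sub hb ha, add_comm]

theorem Good.mem_chain {A : Subgroup H} (hA : Good ρ A) {a : H} (ha : a ∈ A) : a ∈ chain ρ (fx ρ A) :=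
  ⟨fun _ hc => hc a ha, fun v => hA.off.comm_mem_fx ρ ha v⟩

theorem fx_eq_of_good {A : Subgroup H} (hA : Good ρ A) {B : Subgroup H} (hBA : B ≤ A) (hB : B ≠ ⊥) :
    fx ρ B = fx ρ A := by
  refine le_antisymm (fun v hv => ?_) (fx_anti ρ hBA)
  obtain ⟨b, hb, hb1⟩ := exists_ne_one hB
  exact hA.fix b (hBA hb) hb1 v (hv b hb)

theorem Good.strict {A : Subgroup H} (hA : Good ρ A) : Strict ρ A := by
  intro B hBA hB0 hBne
  rw [fx_eq_of_good hA hBA hB0]
  refine Nat.mul_lt_mul_of_pos_right (lt_of_le_of_ne (Subgroup.card_le_of_le hBA) fun e => hBne ?_) Nat.card_pos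
  exact Subgroup.eq_of_le_of_card_ge hBA e.ge

theorem Strict.cj {A : Subgroup H} (hA : Strict ρ A) (g : H) : Strict ρ (RankOneFF.cj g A) := by
  intro B hB h0 h1
  have hle : RankOneFF.cj g⁻¹ B ≤ A := by
    have := Subgroup.map_mono (f := (MulAut.conj g⁻¹).toMonoidHom) hB
    rwa [show (RankOneFF.cj g A).map (MulAut.conj g⁻¹).toMonoidHom = A by
      show RankOneFF.cj g⁻¹ (RankOneFF.cj g A) = A
      rw [cj_cj, inv_mul_cancel, cj_one]] at this
  have h := hA _ hle (fun e => h0 ((Subgroup.map_eq_bot_iff_of_injective _ (MulAut.conj g⁻¹).injective).1 e))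
    (fun e => h1 (by rw [← e, cj_cj, mul_inv_cancel, cj_one]))
  rw [card_cj, card_fx_cj] at h
  rwa [card_cj, card_fx_cj]

theorem Good.cj {A : Subgroup H} (hA : Good ρ A) (g : H) : Good ρ (RankOneFF.cj g A) where
  off := hA.off.cj ρ g
  exact := by rw [card_cj, card_fx_cj]; exact hA.exact
  fix a ha ha1 v hv := fix_of_member hA.fix ha ha1 hv

theorem Good.isPGroup (hamb : Ambient ρ p) {A : Subgroup H} (hA : Good ρ A) : IsPGroup p A := hA.off.isPGroup hamb

theorem Good.fx_ne_top (hamb : Ambient ρ p) {A : Subgroup H} (hA : Good ρ A) : fx ρ A ≠ ⊤ := by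
  intro e
  obtain ⟨a, ha, ha1⟩ := exists_ne_one hA.off.ne_bot
  refine ha1 (hamb.faithful (AddMonoidHom.ext fun v => ?_))
  show ρ a v = ρ 1 v
  rw [act_one]
  exact (e ▸ AddSubgroup.mem_top v : v ∈ fx ρ A) a ha

/-- A `p`-group fixes a nonzero class modulo every proper invariant subgroup. -/
theorem exists_fixed_class (hamb : Ambient ρ p) {R : Subgroup H} (hR : IsPGroup p R) {M : AddSubgroup W}
    (hM : ∀ r ∈ R, ∀ v ∈ M, ρ r v ∈ M) (hne : M ≠ ⊤) : ∃ v ∉ M, ∀ r ∈ R, ρ r v - v ∈ M := by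
  have hle : ∀ r : R, M ≤ AddSubgroup.comap (ρ (r : H)) M := fun r v hv => hM r r.2 v hv
  letI : MulAction R (W ⧸ M) :=
    { smul := fun r x => QuotientAddGroup.map M M (ρ (r : H)) (hle r) x
      one_smul := fun x => by
        induction x using QuotientAddGroup.induction_on with
        | H v => exact congrArg QuotientAddGroup.mk (act_one ρ v)
      mul_smul := fun r s x => by
        induction x using QuotientAddGroup.induction_on with
        | H v => exact congrArg QuotientAddGroup.mk (act_mul ρ (r : H) (s : H) v) }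
  obtain ⟨v, hv⟩ : ∃ v, v ∉ M := by
    by_contra h
    push Not at h
    exact hne (eq_top_iff.2 fun v _ => h v)
  have hv0 : (v : W ⧸ M) ≠ 0 := fun e => hv ((QuotientAddGroup.eq_zero_iff v).1 e)
  have hord : addOrderOf (v : W ⧸ M) = p := addOrderOf_eq_prime
    (by rw [← QuotientAddGroup.mk_nsmul, hamb.exponent, QuotientAddGroup.mk_zero]) hv0
  have hdvd : p ∣ Nat.card (W ⧸ M) := hord ▸ addOrderOf_dvd_natCard _
  obtain ⟨b, hb, hb0⟩ := hR.exists_fixed_point_of_prime_dvd_card_of_fixed_point (W ⧸ M) hdvd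
    (a := (0 : W ⧸ M)) (fun r => map_zero (QuotientAddGroup.map M M (ρ (r : H)) (hle r)))
  induction b using QuotientAddGroup.induction_on with
  | H w =>
    refine ⟨w, fun e => hb0 ((QuotientAddGroup.eq_zero_iff w).2 e).symm, fun r hr => ?_⟩
    have h := hb ⟨r, hr⟩
    have h' : ((ρ r w : W) : W ⧸ M) = (w : W ⧸ M) := h
    exact (QuotientAddGroup.eq_zero_iff _).1 (by rw [QuotientAddGroup.mk_sub, h', sub_self])

/-- No nonzero subgroup is carried injectively into itself through commutators with a `p`-group. -/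
theorem eq_bot_of_reproduces (hamb : Ambient ρ p) {R : Subgroup H} (hR : IsPGroup p R) {S : AddSubgroup W}
    (h : ∀ M : AddSubgroup W, (∀ r ∈ R, ∀ v ∈ M, ρ r v ∈ M) → ∀ s ∈ S, s ≠ 0 →
      (∀ r ∈ R, ρ r s - s ∈ M) → ∃ s' ∈ S, s' ≠ 0 ∧ s' ∈ M) : S = ⊥ := by
  by_contra hS
  obtain ⟨M, ⟨hMinv, hMS⟩, hmax⟩ := Set.exists_max_image
    {M : AddSubgroup W | (∀ r ∈ R, ∀ v ∈ M, ρ r v ∈ M) ∧ M ⊓ S = ⊥} (fun M => Nat.card M) (Set.toFinite _)
    ⟨⊥, fun r _ v hv => by rw [(AddSubgroup.mem_bot).1 hv, map_zero]; exact zero_mem _, bot_inf_eq _⟩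
  have hne : M ≠ ⊤ := fun e => hS (by rw [← hMS, e, top_inf_eq])
  obtain ⟨v, hv, hvfix⟩ := exists_fixed_class hamb hR hMinv hne
  set M' := M ⊔ AddSubgroup.zmultiples v with hM'
  have hM'inv : ∀ r ∈ R, ∀ x ∈ M', ρ r x ∈ M' := by
    intro r hr x hx
    obtain ⟨m, hm, y, hy, rfl⟩ := AddSubgroup.mem_sup.1 hx
    obtain ⟨k, rfl⟩ := AddSubgroup.mem_zmultiples_iff.1 hy
    rw [map_add, map_zsmul, ← sub_add_cancel (ρ r v) v, zsmul_add]
    exact add_mem (AddSubgroup.mem_sup_left (hMinv r hr m hm)) (add_mem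
      (AddSubgroup.mem_sup_left (zsmul_mem (hvfix r hr) k))
      (AddSubgroup.mem_sup_right (zsmul_mem (AddSubgroup.mem_zmultiples v) k)))
  have hM'S : M' ⊓ S ≠ ⊥ := by
    intro e
    have hle : M ≤ M' := le_sup_left
    have := AddSubgroup.eq_of_le_of_card_ge hle (hmax M' ⟨hM'inv, e⟩)
    exact hv (this ▸ AddSubgroup.mem_sup_right (AddSubgroup.mem_zmultiples v))
  obtain ⟨s, hs, hs0⟩ := (AddSubgroup.bot_or_exists_ne_zero _).resolve_left hM'S
  obtain ⟨s', hs'S, hs'0, hs'M⟩ := h M hMinv s hs.2 hs0 fun r hr => by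
    obtain ⟨m, hm, y, hy, rfl⟩ := AddSubgroup.mem_sup.1 hs.1
    obtain ⟨k, rfl⟩ := AddSubgroup.mem_zmultiples_iff.1 hy
    rw [map_add, map_zsmul, add_sub_add_comm, ← zsmul_sub]
    exact add_mem (sub_mem (hMinv r hr m hm) hm) (zsmul_mem (hvfix r hr) k)
  exact hs'0 ((AddSubgroup.mem_bot).1 (hMS ▸ ⟨hs'M, hs'S⟩))

theorem Ctx.base {T : Sylow p H} {N : Subgroup H} (hc : Ctx ρ T N) : Base ρ T N where
  amb := hc.amb
  le := hc.le
  ne_top := hc.ne_top
  overgroup := hc.overgroup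
  core := hc.core
  moved := by
    by_cases hW : (⊥ : AddSubgroup W) = ⊤
    · refine absurd (eq_top_iff.2 fun x _ => ?_) hc.ne_top
      have h0 : ∀ w : W, w = 0 := fun w => (AddSubgroup.mem_bot).1 (hW ▸ AddSubgroup.mem_top w)
      rw [hc.amb.faithful (AddMonoidHom.ext fun w => (h0 _).trans (h0 _).symm : ρ x = ρ 1)]
      exact one_mem N
    obtain ⟨w, hw, hwT⟩ := exists_fixed_class hc.amb T.2
      (M := ⊥) (fun r _ v hv => by rw [(AddSubgroup.mem_bot).1 hv, map_zero]; exact zero_mem _) hW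
    exact ⟨w, fun r hr => sub_eq_zero.1 ((AddSubgroup.mem_bot).1 (hwT r hr)), by rwa [hc.nfix]⟩

end CfsgLib.LocalEven.MovesFixed
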