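import Cfsg.Agent.Lib.LocalEven.MovesFixed.Commute

/-!
The centres of the conjugates of a good offender span the module; a criterion for commuting; cyclic centres.
-/

set_option autoImplicit false
set_option linter.unusedSectionVars false
set_option linter.style.haveILetI false

namespace CfsgLib.LocalEven.MovesFixed

open CfsgLib.LocalEven.RankOneFF CfsgLib.LocalEven.SylowIn

variable {H : Type*} [Group H] [Finite H] {W : Type*} [AddCommGroup W] [Finite W] {p : ℕ} [Fact p.Prime]
  {ρ : H →* AddMonoid.End W} {T : Sylow p H} {N : Subgroup H} {A X : Subgroup H}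

/-- An element of order prime to `p` fixing its commutator with a vector fixes the vector. -/
theorem act_eq_of_coprime {R : Type*} [AddCommGroup R] [Finite R] (σ : H →* AddMonoid.End R) (hexp : ∀ r : R, p • r = 0)
    {x : H} (hx : (orderOf x).Coprime p) {r : R} (h : σ x (σ x r - r) = σ x r - r) : σ x r = r := by
  have h1 := act_pow_sub h (orderOf x)
  rw [pow_orderOf_eq_one, RankOneFF.act_one, left_eq_add] at h1
  refine sub_eq_zero.1 (AddMonoid.addOrderOf_eq_one_iff.1 (Nat.eq_one_of_dvd_coprimes hx ?_ ?_))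
  · exact addOrderOf_dvd_of_nsmul_eq_zero h1
  · exact addOrderOf_dvd_of_nsmul_eq_zero (hexp _)

/-- A normal subgroup containing a good offender supplements `T`. -/
theorem normal_sup_eq_top (hc : Base ρ T N) (hA : Good ρ A) {K : Subgroup H} [K.Normal] (hAK : A ≤ K) :
    K ⊔ (T : Subgroup H) = ⊤ := by
  by_contra hne
  have hKN : K ≤ N := le_sup_left.trans (hc.overgroup _ le_sup_right hne)
  set U := (T : Subgroup H) ⊓ K with hU
  have hUs : IsSylowIn p U K := by
    refine ⟨inf_le_right, T.2.to_le inf_le_left, fun V hV hVp hle => ?_⟩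
    obtain ⟨P, hP⟩ := hVp.exists_le_sylow
    obtain ⟨g, hg⟩ := MulAction.exists_smul_eq H P T
    have hle' : cj g V ≤ U := le_inf (hg ▸ Subgroup.map_mono hP) (by
      intro z hz
      have := ‹K.Normal›.conj_mem _ (hV (mem_cj.1 hz)) g
      simpa [mul_assoc] using this)
    exact (Subgroup.eq_of_le_of_card_ge hle (by
      rw [← card_cj g V]
      exact Subgroup.card_le_of_le hle')).symm
  set D := Subgroup.normalizer (U : Set H) with hD
  have hTD : (T : Subgroup H) ≤ D := le_normalizer_of_map_conj fun t ht => by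
    refine Subgroup.eq_of_le_of_card_ge (le_inf (cj_le inf_le_left ht) fun z hz => ?_) (card_cj t U).ge
    have := ‹K.Normal›.conj_mem _ (Subgroup.mem_inf.1 (mem_cj.1 hz)).2 t
    simpa [mul_assoc] using this
  have hDtop : D = ⊤ := by
    by_contra hDne
    refine hc.ne_top (eq_top_iff.2 fun g _ => ?_)
    obtain ⟨l, hl, n, hn, rfl⟩ := frattini_argument (H := ⊤) hUs
      (le_normalizer_of_map_conj fun g _ => by
        refine Subgroup.eq_of_le_of_card_ge (fun z hz => ?_) (card_cj g K).ge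
        have := ‹K.Normal›.conj_mem _ (mem_cj.1 hz) g
        simpa [mul_assoc] using this) le_top (Subgroup.mem_top g)
    exact mul_mem (hKN hl) (hc.overgroup D hTD hDne (Subgroup.mem_inf.1 hn).2)
  have hbot := hc.core U (Subgroup.normalizer_eq_top_iff.1 hDtop) (T.2.to_le inf_le_left)
  obtain ⟨P, hP, hAP⟩ := exists_isSylowIn K hAK (hA.isPGroup hc.amb)
  obtain ⟨g, -, hg⟩ := hUs.conjugate hP
  rw [hbot, Subgroup.map_bot] at hg
  exact hA.off.ne_bot (eq_bot_iff.2 (hAP.trans hg.le))

/-- A normal subgroup containing a good offender contains every element of order prime to `p`. -/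
theorem mem_normal_of_coprime (hc : Base ρ T N) (hA : Good ρ A) {K : Subgroup H} [K.Normal] (hAK : A ≤ K) {x : H}
    (hx : (orderOf x).Coprime p) : x ∈ K := by
  have htop := normal_sup_eq_top hc hA hAK
  have hmap : (T : Subgroup H).map (QuotientGroup.mk' K) = ⊤ := by
    have h := congrArg (Subgroup.map (QuotientGroup.mk' K)) htop
    rwa [Subgroup.map_sup, QuotientGroup.map_mk'_self, bot_sup_eq, ← MonoidHom.range_eq_map,
      QuotientGroup.range_mk'] at h
  have hp : IsPGroup p (⊤ : Subgroup (H ⧸ K)) := hmap ▸ T.2.map _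
  obtain ⟨k, hk⟩ := pord hp (Subgroup.mem_top (x : H ⧸ K))
  refine (QuotientGroup.eq_one_iff x).1 (orderOf_eq_one_iff.1 ?_)
  exact Nat.eq_one_of_dvd_coprimes (Nat.Coprime.pow_right k hx) (orderOf_map_dvd (QuotientGroup.mk' K) x) hk.dvd

/-- The commutators with the conjugates of a subgroup. -/
def centres (ρ : H →* AddMonoid.End W) (A : Subgroup H) : Set W :=
  {u | ∃ g : H, ∃ a ∈ A, ∃ v, u = ρ (g * a * g⁻¹) v - v}

theorem act_centres {u : W} (h : H) (hu : u ∈ centres ρ A) : ρ h u ∈ centres ρ A := by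
  obtain ⟨g, a, ha, v, rfl⟩ := hu
  refine ⟨h * g, a, ha, ρ h v, ?_⟩
  rw [map_sub, ← act_mul, ← act_mul, show h * g * a * (h * g)⁻¹ * h = h * (g * a * g⁻¹) by group]

/-- The centres span. -/
theorem span_centres (hc : Ctx ρ T N) (hA : Good ρ A) : AddSubgroup.closure (centres ρ A) = ⊤ := by
  set S := AddSubgroup.closure (centres ρ A) with hS
  have hSinv : ∀ h : H, ∀ u ∈ S, ρ h u ∈ S := fun h u hu => by
    have : S ≤ AddSubgroup.comap (ρ h) S :=
      (AddSubgroup.closure_le _).2 fun z hz => AddSubgroup.subset_closure (act_centres h hz)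
    exact this hu
  let K : Subgroup H :=
    { carrier := {y | ∀ v, ρ y v - v ∈ S}
      one_mem' := fun v => by rw [RankOneFF.act_one, sub_self]; exact zero_mem _
      mul_mem' := fun {x y} hx hy v => by
        rw [act_mul, ← sub_add_sub_cancel (ρ x (ρ y v)) (ρ y v) v]
        exact add_mem (hx _) (hy _)
      inv_mem' := fun {x} hx v => by
        have h := neg_mem (hx (ρ x⁻¹ v))
        rwa [act_inv', neg_sub] at h }
  haveI : K.Normal := ⟨fun y hy g v => by
    have h := hSinv g _ (hy (ρ g⁻¹ v))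
    rwa [map_sub, ← act_mul, ← act_mul, ← act_mul, mul_inv_cancel, RankOneFF.act_one] at h⟩
  have hAK : A ≤ K := fun a ha v => AddSubgroup.subset_closure ⟨1, a, ha, v, by rw [one_mul, inv_one, mul_one]⟩
  refine eq_top_iff.2 (hc.span.ge.trans ((AddSubgroup.closure_le _).2 ?_))
  rintro _ ⟨x, hx, v, rfl⟩
  exact mem_normal_of_coprime hc.base hA hAK hx v

/-- Good offenders, one with commutators fixed by the other, commute. -/
theorem comm_of_comm_mem (hc : Base ρ T N) (hA : Good ρ A) (hX : Good ρ X)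
    (h : ∀ a ∈ A, ∀ v, ρ a v - v ∈ fx ρ X) : ∀ a ∈ A, ∀ x ∈ X, a * x = x * a := by
  classical
  set D := fx ρ A ⊓ fx ρ X with hD
  let C3 : Set H := {g | (∀ d ∈ D, ρ g d = d) ∧ (∀ c ∈ fx ρ X, ρ g c - c ∈ D) ∧ ∀ v, ρ g v - v ∈ fx ρ X}
  have hmul : ∀ {x y : H}, x ∈ C3 → y ∈ C3 → x * y ∈ C3 := by
    rintro x y ⟨hx1, hx2, hx3⟩ ⟨hy1, hy2, hy3⟩
    refine ⟨fun d hd => by rw [act_mul, hy1 d hd, hx1 d hd], fun c hcX => ?_, fun v => ?_⟩
    · rw [act_mul, ← sub_add_sub_cancel (ρ x (ρ y c)) (ρ x c) c, ← map_sub, hx1 _ (hy2 c hcX)]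
      exact add_mem (hy2 c hcX) (hx2 c hcX)
    · rw [act_mul, ← sub_add_sub_cancel (ρ x (ρ y v)) (ρ y v) v]
      exact add_mem (hx3 _) (hy3 _)
  have hone : (1 : H) ∈ C3 := ⟨fun d _ => RankOneFF.act_one ρ d, fun c _ => by
    rw [RankOneFF.act_one, sub_self]; exact zero_mem _, fun v => by
    rw [RankOneFF.act_one, sub_self]; exact zero_mem _⟩
  have hpow : ∀ {x : H}, x ∈ C3 → ∀ n : ℕ, x ^ n ∈ C3 := fun {x} hx n => by
    induction n with
    | zero => rw [pow_zero]; exact hone
    | succ n ih => rw [pow_succ]; exact hmul ih hx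
  let S : Subgroup H :=
    { carrier := C3
      one_mem' := hone
      mul_mem' := hmul
      inv_mem' := fun {x} hx => by
        rw [show x⁻¹ = x ^ (orderOf x - 1) from inv_eq_of_mul_eq_one_right (by
          rw [← pow_succ', Nat.sub_add_cancel (orderOf_pos x), pow_orderOf_eq_one])]
        exact hpow hx _ }
  have hS : IsPGroup p S := fun g => by
    refine ⟨2, Subtype.ext ?_⟩
    obtain ⟨hg1, hg2, hg3⟩ := g.2
    obtain ⟨-, -, hp3⟩ := hpow g.2 p
    rw [Subgroup.coe_pow, Subgroup.coe_one, pow_two, pow_mul]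
    refine hc.amb.pow_eq_one fun v => ?_
    rw [act_pow_sub (hg1 _ (hg2 _ (hp3 v))) p, hc.amb.exponent, add_zero]
  have hAS : A ≤ S := fun a ha =>
    ⟨fun d hd => hd.1 a ha, fun c _ => ⟨hA.off.comm_mem_fx ρ ha c, h a ha c⟩, fun v => h a ha v⟩
  have hXS : X ≤ S := fun x hx => ⟨fun d hd => hd.2 x hx,
    fun c hcX => by rw [hcX x hx, sub_self]; exact zero_mem _, fun v => hX.off.comm_mem_fx ρ hx v⟩
  exact comm_of_pgroup hc S hS A X hAS hXS hA hX

/-- For a good offender of prime order any nonzero commutator generates all of them. -/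
theorem mem_zmultiples_comm (hc : Base ρ T N) (hX : Good ρ X) (hcard : Nat.card X = p) {x : H} (hx : x ∈ X)
    {u : W} (hu : ρ x u - u ≠ 0) {y : H} (hy : y ∈ X) (v : W) :
    ρ y v - v ∈ AddSubgroup.zmultiples (ρ x u - u) := by
  have hx1 : x ≠ 1 := fun e => hu (by rw [e, RankOneFF.act_one, sub_self])
  let θ : W →+ W :=
    { toFun := fun v => ρ x v - v
      map_zero' := by rw [map_zero, sub_zero]
      map_add' := fun v w => by rw [map_add, add_sub_add_comm] }
  have hker : θ.ker = fx ρ X := AddSubgroup.ext fun w =>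
    ⟨fun e => hX.fix x hx hx1 w (sub_eq_zero.1 e), fun e => sub_eq_zero.2 (e x hx)⟩
  have hr : Nat.card θ.range = p := by
    have h1 := AddSubgroup.card_eq_card_quotient_mul_card_addSubgroup θ.ker
    rw [Nat.card_congr (QuotientAddGroup.quotientKerEquivRange θ).toEquiv, hker, hX.exact, hcard] at h1
    exact (Nat.eq_of_mul_eq_mul_right Nat.card_pos h1).symm
  have heq : AddSubgroup.zmultiples (ρ x u - u) = θ.range := by
    refine AddSubgroup.eq_of_le_of_card_ge (AddSubgroup.zmultiples_le_of_mem ⟨u, rfl⟩) ?_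
    rw [hr, Nat.card_zmultiples, addOrderOf_eq_prime (hc.amb.exponent _) hu]
  have hyx : y ∈ Subgroup.zpowers x := by
    have h := zpowers_eq_top_of_prime_card (G := X) (g := ⟨x, hx⟩) hcard fun e => hx1 (congrArg Subtype.val e)
    obtain ⟨k, hk⟩ := Subgroup.mem_zpowers_iff.1 (h ▸ Subgroup.mem_top (⟨y, hy⟩ : X))
    exact ⟨k, congrArg Subtype.val hk⟩
  rw [← mem_powers_iff_mem_zpowers] at hyx
  obtain ⟨n, rfl⟩ := hyx
  rw [heq]
  refine ⟨n • v, ?_⟩
  show ρ x (n • v) - n • v = ρ (x ^ n) v - v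
  rw [act_pow_sub (hX.off.comm_mem_fx ρ hx v x hx) n, map_nsmul, ← nsmul_sub, add_sub_cancel_left]

end CfsgLib.LocalEven.MovesFixed
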