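import Cfsg.Agent.Lib.LocalEven.MovesFixed.Isolate

/-!
Good offenders in a common `p`-group commute and have fixed points spanning the module.
-/

set_option autoImplicit false
set_option linter.unusedSectionVars false
set_option linter.style.haveILetI false

open scoped commutatorElement

namespace CfsgLib.LocalEven.MovesFixed

open CfsgLib.LocalEven.RankOneFF CfsgLib.LocalEven.SylowIn

variable {H : Type*} [Group H] [Finite H] {W : Type*} [AddCommGroup W] [Finite W] {p : ℕ} [Fact p.Prime]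
  {ρ : H →* AddMonoid.End W} {T : Sylow p H} {N : Subgroup H} {X Y : Subgroup H}

theorem act_comm_sub {x y : H} (h : x * y = y * x) (v : W) :
    ρ y (ρ x v - v) - (ρ x v - v) = ρ x (ρ y v - v) - (ρ y v - v) := by
  rw [map_sub, map_sub, ← act_mul, ← act_mul, h]
  abel

theorem card_sub_le {x₀ y₀ : H} {v₀ : W} (hX : Good ρ X) (hx₀ : x₀ ∈ X) (hy₀ : y₀ ∈ Y)
    (hcom : ∀ x ∈ X, ∀ y ∈ Y, x * y = y * x) (hbad : ρ y₀ (ρ x₀ v₀ - v₀) ≠ ρ x₀ v₀ - v₀) :
    Nat.card X * Nat.card (fx ρ X ⊓ fx ρ Y : AddSubgroup W) ≤ Nat.card (fx ρ X) := by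
  set C := fx ρ X
  set K := C ⊓ fx ρ Y with hK
  rw [AddSubgroup.card_eq_card_quotient_mul_card_addSubgroup (K.addSubgroupOf C),
    Nat.card_congr (AddSubgroup.addSubgroupOfEquivOfLe (inf_le_left : K ≤ C)).toEquiv]
  refine Nat.mul_le_mul_right _ (Nat.card_le_card_of_injective
    (fun x : X => (QuotientAddGroup.mk (⟨ρ (x : H) v₀ - v₀, hX.off.comm_mem_fx ρ x.2 v₀⟩ : C) :
      C ⧸ K.addSubgroupOf C)) fun a b hab => ?_)
  by_contra hne
  rw [QuotientAddGroup.eq, AddSubgroup.mem_addSubgroupOf] at hab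
  set x := (a : H)⁻¹ * (b : H) with hx
  have hxX : x ∈ X := mul_mem (inv_mem a.2) b.2
  have hx1 : x ≠ 1 := fun e => hne (Subtype.ext (inv_mul_eq_one.1 e))
  have hmem : ρ x v₀ - v₀ ∈ fx ρ Y := by
    rw [hx, hX.off.comm_mul ρ (inv_mem a.2) b.2, hX.off.comm_inv ρ a.2]
    exact hab.2
  have h1 := act_comm_sub (ρ := ρ) (hcom x hxX y₀ hy₀) v₀
  rw [hmem y₀ hy₀, sub_self] at h1
  have h2 : ρ y₀ v₀ - v₀ ∈ fx ρ X := hX.fix x hxX hx1 _ (sub_eq_zero.1 h1.symm)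
  refine hbad (sub_eq_zero.1 ?_)
  rw [act_comm_sub (hcom x₀ hx₀ y₀ hy₀), h2 x₀ hx₀, sub_self]

/-- Commuting distinct good offenders. -/
theorem comm_pair (hc : Base ρ T N) (hX : Good ρ X) (hY : Good ρ Y) (hne : X ≠ Y)
    (hcom : ∀ x ∈ X, ∀ y ∈ Y, x * y = y * x) :
    fx ρ X ⊔ fx ρ Y = ⊤ ∧ ∀ x ∈ X, ∀ v, ρ x v - v ∈ fx ρ Y := by
  classical
  set K := fx ρ X ⊓ fx ρ Y with hK
  have hsum := card_sup_inf (fx ρ X) (fx ρ Y)
  have hKpos : 0 < Nat.card K := Nat.card_pos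
  have top_of : Nat.card W * Nat.card K ≤ Nat.card (fx ρ X) * Nat.card (fx ρ Y) →
      fx ρ X ⊔ fx ρ Y = ⊤ := fun h => by
    rw [← hsum] at h
    exact AddSubgroup.eq_top_of_card_eq _ (le_antisymm
      (Nat.card_le_card_of_injective _ (Subtype.val_injective (p := fun v : W => v ∈ fx ρ X ⊔ fx ρ Y)))
      (Nat.le_of_mul_le_mul_right h hKpos))
  have hzero : ∀ x ∈ X, ∀ y ∈ Y, ∀ v, ρ y (ρ x v - v) = ρ x v - v := by
    intro x₀ hx₀ y₀ hy₀ v₀
    by_contra hbad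
    have hbad' : ρ x₀ (ρ y₀ v₀ - v₀) ≠ ρ y₀ v₀ - v₀ := fun e => hbad (sub_eq_zero.1 (by
      rw [act_comm_sub (hcom x₀ hx₀ y₀ hy₀), e, sub_self]))
    have h1 := card_sub_le (ρ := ρ) hX hx₀ hy₀ hcom hbad
    have h2 := card_sub_le (ρ := ρ) hY hy₀ hx₀ (fun y hy x hx => (hcom x hx y hy).symm) hbad'
    rw [inf_comm (fx ρ Y) (fx ρ X)] at h2
    have htop : fx ρ X ⊔ fx ρ Y = ⊤ := top_of (by
      rcases le_total (Nat.card X) (Nat.card Y) with hle | hle
      · rw [hX.exact, mul_comm (Nat.card X), mul_assoc]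
        exact Nat.mul_le_mul_left _ ((Nat.mul_le_mul_right _ hle).trans h2)
      · rw [hY.exact, mul_comm (Nat.card Y), mul_assoc, mul_comm (Nat.card (fx ρ X))]
        exact Nat.mul_le_mul_left _ ((Nat.mul_le_mul_right _ hle).trans h1))
    obtain ⟨c, hcX, c', hcY, hv⟩ := AddSubgroup.mem_sup.1 (htop.symm ▸ AddSubgroup.mem_top v₀ :
      v₀ ∈ fx ρ X ⊔ fx ρ Y)
    refine hbad (sub_eq_zero.1 ?_)
    rw [← hv, map_add (ρ x₀), hcX x₀ hx₀, add_sub_add_left_eq_sub, act_comm_sub (hcom x₀ hx₀ y₀ hy₀),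
      hcY y₀ hy₀, sub_self, map_zero, sub_zero]
  have hXY : ∀ x ∈ X, ∀ v, ρ x v - v ∈ fx ρ Y := fun x hx v y hy => hzero x hx y hy v
  refine ⟨top_of ?_, hXY⟩
  have hXc : X ≤ chain ρ K := fun x hx => ⟨fun c hc' => hc'.1 x hx,
    fun v => ⟨hX.off.comm_mem_fx ρ hx v, hXY x hx v⟩⟩
  have hYc : Y ≤ chain ρ K := fun y hy => ⟨fun c hc' => hc'.2 y hy, fun v => ⟨fun x hx => sub_eq_zero.1 (by
    rw [← act_comm_sub (hcom x hx y hy), hzero x hx y hy v, sub_self]), hY.off.comm_mem_fx ρ hy v⟩⟩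
  have hinf := hX.inf_eq_bot hc hY hne
  have hinj : Nat.card X * Nat.card Y ≤ Nat.card (chain ρ K) := by
    rw [← Nat.card_prod]
    refine Nat.card_le_card_of_injective (fun z : X × Y => (⟨z.1 * z.2, mul_mem (hXc z.1.2) (hYc z.2.2)⟩ :
      chain ρ K)) fun z z' e => ?_
    have e' : (z.1 : H) * z.2 = z'.1 * z'.2 := congrArg Subtype.val e
    have h : (z'.1 : H)⁻¹ * z.1 = (z'.2 : H) * (z.2 : H)⁻¹ := by
      rw [eq_mul_inv_iff_mul_eq, mul_assoc, e', inv_mul_cancel_left]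
    have hm : (z'.1 : H)⁻¹ * z.1 ∈ X ⊓ Y :=
      Subgroup.mem_inf.2 ⟨mul_mem (inv_mem z'.1.2) z.1.2, h ▸ mul_mem z'.2.2 (inv_mem z.2.2)⟩
    rw [hinf, Subgroup.mem_bot] at hm
    have h2 : (z'.2 : H) * (z.2 : H)⁻¹ = 1 := h.symm.trans hm
    exact Prod.ext (Subtype.ext (inv_mul_eq_one.1 hm).symm) (Subtype.ext (mul_inv_eq_one.1 h2).symm)
  refine Nat.le_of_mul_le_mul_left ?_
    (Nat.mul_pos (Nat.card_pos (α := X)) (Nat.card_pos (α := Y)) : 0 < Nat.card X * Nat.card Y)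
  calc Nat.card X * Nat.card Y * (Nat.card W * Nat.card K)
      = Nat.card W * (Nat.card X * Nat.card Y * Nat.card K) := by ring
    _ ≤ Nat.card W * (Nat.card (chain ρ K) * Nat.card K) :=
        Nat.mul_le_mul_left _ (Nat.mul_le_mul_right _ hinj)
    _ ≤ Nat.card W * Nat.card W := Nat.mul_le_mul_left _ (card_chain hc K)
    _ = _ := by
        nth_rw 1 [hX.exact]
        rw [hY.exact]
        ring

theorem comm_of_normalizes (hc : Base ρ T N) (hX : Good ρ X) (hY : Good ρ Y) (hne : X ≠ Y)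
    (hXY : ∀ x ∈ X, cj x Y = Y) (hYX : ∀ y ∈ Y, cj y X = X) : ∀ x ∈ X, ∀ y ∈ Y, x * y = y * x := by
  intro x hx y hy
  have h1 : x * y * x⁻¹ * y⁻¹ ∈ X := by
    rw [mul_assoc (x * y), mul_assoc x, ← mul_assoc y]
    exact mul_mem hx (hYX y hy ▸ conj_mem_cj y (inv_mem hx))
  have h2 : x * y * x⁻¹ * y⁻¹ ∈ Y := mul_mem (hXY x hx ▸ conj_mem_cj x hy) (inv_mem hy)
  have h : x * y * x⁻¹ * y⁻¹ ∈ X ⊓ Y := Subgroup.mem_inf.2 ⟨h1, h2⟩
  rw [hX.inf_eq_bot hc hY hne] at h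
  exact mul_inv_eq_iff_eq_mul.1 (mul_inv_eq_one.1 ((Subgroup.mem_bot).1 h))

/-- One moved, the other fixed under conjugation: impossible. -/
theorem not_half_normalizes (hc : Base ρ T N) (hX : Good ρ X) (hY : Good ρ Y)
    (hXY : ∀ x ∈ X, cj x Y = Y) {b : H} (hb : b ∈ Y) (hbX : cj b X ≠ X)
    (hcom : ∀ x ∈ X, ∀ x' ∈ cj b X, x * x' = x' * x) : False := by
  classical
  obtain ⟨htop, hIm⟩ := comm_pair hc hX (hX.cj b) (fun e => hbX e.symm) hcom
  set C := fx ρ X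
  set C' := fx ρ (cj b X)
  have hne' : X ⊓ cj b X = ⊥ := hX.inf_eq_bot hc (hX.cj b) fun e => hbX e.symm
  let c : X → H := fun x => (x : H) * (b * (x : H)⁻¹ * b⁻¹)
  have hcY : ∀ x : X, c x ∈ Y := fun x => by
    show (x : H) * (b * (x : H)⁻¹ * b⁻¹) ∈ Y
    rw [show (x : H) * (b * (x : H)⁻¹ * b⁻¹) = (x : H) * b * (x : H)⁻¹ * b⁻¹ by group]
    exact mul_mem (hXY x x.2 ▸ conj_mem_cj (x : H) hb) (inv_mem hb)
  have hc1 : ∀ x : X, c x = 1 → (x : H) = 1 := fun x e => by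
    have h : (x : H) = b * x * b⁻¹ :=
      (eq_inv_of_mul_eq_one_left (show (x : H) * (b * (x : H)⁻¹ * b⁻¹) = 1 from e)).trans (by group)
    have hm : (x : H) ∈ X ⊓ cj b X := ⟨x.2, h ▸ conj_mem_cj b x.2⟩
    rw [hne'] at hm
    exact (Subgroup.mem_bot).1 hm
  obtain ⟨x₁, hx₁, hx₁1⟩ := exists_ne_one hX.off.ne_bot
  have hKY : C ⊓ C' ≤ fx ρ Y := by
    intro v hv
    refine hY.fix _ (hcY ⟨x₁, hx₁⟩) (fun e => hx₁1 (hc1 _ e)) v ?_
    show ρ (x₁ * (b * x₁⁻¹ * b⁻¹)) v = v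
    rw [act_mul, show ρ (b * x₁⁻¹ * b⁻¹) v = v from hv.2 _ (conj_mem_cj b (inv_mem hx₁))]
    exact hv.1 x₁ hx₁
  have hmemK : ∀ x : X, ∀ v, ρ (x : H) v - v ∈ C ⊓ C' := fun x v =>
    ⟨hX.off.comm_mem_fx ρ x.2 v, hIm x x.2 v⟩
  have hform : ∀ (x : X) (v : W), ρ (c x) v - v = ρ (x : H) (ρ b v - v) - (ρ b v - v) := by
    intro x v
    have hK := hmemK x
    have e1 : ρ b⁻¹ v = v - (ρ b v - v) := by
      rw [← neg_sub v (ρ b v), sub_eq_add_neg v, ← hY.off.comm_inv ρ hb v |> fun h => h.trans (neg_sub _ _)]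
      abel
    have e2 : ρ (b * (x : H)⁻¹ * b⁻¹) v - v = -(ρ (x : H) (ρ b⁻¹ v) - ρ b⁻¹ v) := by
      rw [act_mul, act_mul, ← hX.off.comm_inv ρ x.2]
      have hfix : ρ b (ρ (x : H)⁻¹ (ρ b⁻¹ v) - ρ b⁻¹ v) = ρ (x : H)⁻¹ (ρ b⁻¹ v) - ρ b⁻¹ v :=
        hKY (hmemK x⁻¹ _) b hb
      rw [map_sub, act_inv'] at hfix
      exact hfix
    set z := ρ (b * (x : H)⁻¹ * b⁻¹) v - v with hz
    have hzK : ρ (x : H) z = z := by
      rw [e2, map_neg, (hK (ρ b⁻¹ v)).1 (x : H) x.2]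
    show ρ ((x : H) * (b * (x : H)⁻¹ * b⁻¹)) v - v = _
    rw [act_mul, show ρ (b * (x : H)⁻¹ * b⁻¹) v = z + v by rw [hz, sub_add_cancel], map_add, hzK, e2, e1]
    simp only [map_sub]
    abel
  have hle : Nat.card Y ≤ Nat.card X := by
    obtain ⟨x, hx⟩ : ∃ x : X, (x : H) ≠ 1 := ⟨⟨x₁, hx₁⟩, hx₁1⟩
    let θ : W →+ W :=
      { toFun := fun v => ρ (x : H) v - v
        map_zero' := by rw [map_zero, sub_zero]
        map_add' := fun v w => by rw [map_add, add_sub_add_comm] }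
    let θ' : W →+ W :=
      { toFun := fun v => ρ (c x) v - v
        map_zero' := by rw [map_zero, sub_zero]
        map_add' := fun v w => by rw [map_add, add_sub_add_comm] }
    have hker : θ.ker = C := AddSubgroup.ext fun v =>
      ⟨fun h => hX.fix x x.2 hx v (sub_eq_zero.1 h), fun h => sub_eq_zero.2 (h x x.2)⟩
    have hker' : θ'.ker = fx ρ Y := AddSubgroup.ext fun v =>
      ⟨fun h => hY.fix (c x) (hcY x) (fun e => hx (hc1 x e)) v (sub_eq_zero.1 h),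
        fun h => sub_eq_zero.2 (h _ (hcY x))⟩
    have hrange : θ'.range ≤ θ.range := by
      rintro _ ⟨v, rfl⟩
      exact ⟨ρ b v - v, (hform x v).symm⟩
    have h1 := AddSubgroup.card_eq_card_quotient_mul_card_addSubgroup θ.ker
    have h2 := AddSubgroup.card_eq_card_quotient_mul_card_addSubgroup θ'.ker
    rw [Nat.card_congr (QuotientAddGroup.quotientKerEquivRange θ).toEquiv, hker, hX.exact] at h1
    rw [Nat.card_congr (QuotientAddGroup.quotientKerEquivRange θ').toEquiv, hker', hY.exact] at h2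
    rw [Nat.eq_of_mul_eq_mul_right Nat.card_pos h1, Nat.eq_of_mul_eq_mul_right Nat.card_pos h2]
    exact AddSubgroup.card_le_of_le hrange
  have hinj : Function.Injective (fun x : X => (⟨c x, hcY x⟩ : Y)) := by
    intro x x' e
    have e' : c x = c x' := congrArg Subtype.val e
    have hone : c (x⁻¹ * x') = 1 := by
      refine hc.amb.faithful (AddMonoidHom.ext fun v => ?_)
      show ρ (c (x⁻¹ * x')) v = ρ 1 v
      rw [act_one, ← sub_eq_zero, hform, Subgroup.coe_mul, Subgroup.coe_inv,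
        hX.off.comm_mul ρ (inv_mem x.2) x'.2, hX.off.comm_inv ρ x.2, ← hform, ← hform, e', neg_add_cancel]
    exact inv_mul_eq_one.1 (Subtype.ext (hc1 _ hone))
  have hbij : Function.Bijective (fun x : X => (⟨c x, hcY x⟩ : Y)) :=
    (Nat.bijective_iff_injective_and_card _).2
      ⟨hinj, le_antisymm (Nat.card_le_card_of_injective _ hinj) hle⟩
  obtain ⟨x₀, hx₀⟩ := hbij.2 ⟨b, hb⟩
  have hbC : ∀ v ∈ C, ρ b v ∈ C := fun v hv => by
    have h := (hmemK x₀ (ρ b v - v)).1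
    rw [← hform, show c x₀ = b from congrArg Subtype.val hx₀] at h
    have := add_mem h hv
    rwa [sub_add_cancel] at this
  refine hbX (((hX.cj b).eq_of_fx_eq hc hX (AddSubgroup.eq_of_le_of_card_ge (fun v hv => ?_)
    (le_of_eq (card_fx_cj ρ b X).symm))))
  have hv' := act_mem_fx ρ b⁻¹ hv
  rw [cj_cj, inv_mul_cancel, cj_one] at hv'
  have := hbC _ hv'
  rwa [act_inv'] at this

theorem moved_pair (hc : Base ρ T N) (hX : Good ρ X) (hY : Good ρ Y) {b : H} (hb : b ∈ Y)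
    (hbX : cj b X ≠ X) (hcom : ∀ x ∈ X, ∀ x' ∈ cj b X, x * x' = x' * x) :
    Nat.card X ≤ Nat.card Y ∧ ∀ v, ∃ u, v - (ρ b u - u) ∈ fx ρ X ∧ u ∈ fx ρ X := by
  obtain ⟨htop, -⟩ := comm_pair hc hX (hX.cj b) (fun e => hbX e.symm) hcom
  have hrep : ∀ v, ∃ u, v - (ρ b u - u) ∈ fx ρ X ∧ u ∈ fx ρ X := by
    intro v
    obtain ⟨c₁, h₁, c₂, h₂, rfl⟩ := AddSubgroup.mem_sup.1 (htop.symm ▸ AddSubgroup.mem_top v :
      v ∈ fx ρ X ⊔ fx ρ (cj b X))
    have h₂' := act_mem_fx ρ b⁻¹ h₂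
    rw [cj_cj, inv_mul_cancel, cj_one] at h₂'
    refine ⟨ρ b⁻¹ c₂, ?_, h₂'⟩
    rw [act_inv']
    have := add_mem h₁ h₂'
    convert this using 1
    abel
  refine ⟨?_, hrep⟩
  let θ : W →+ W :=
    { toFun := fun v => ρ b v - v
      map_zero' := by rw [map_zero, sub_zero]
      map_add' := fun v w => by rw [map_add, add_sub_add_comm] }
  have hq : Nat.card (W ⧸ fx ρ X) = Nat.card X := by
    have h := AddSubgroup.card_eq_card_quotient_mul_card_addSubgroup (fx ρ X)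
    rw [hX.exact] at h
    exact (Nat.eq_of_mul_eq_mul_right Nat.card_pos h).symm
  have hb1 : b ≠ 1 := fun e => hbX (by rw [e, cj_one])
  have hr : Nat.card θ.range = Nat.card Y := by
    have hker : θ.ker = fx ρ Y := AddSubgroup.ext fun v =>
      ⟨fun h => hY.fix b hb hb1 v (sub_eq_zero.1 h), fun h => sub_eq_zero.2 (h b hb)⟩
    have h1 := AddSubgroup.card_eq_card_quotient_mul_card_addSubgroup θ.ker
    rw [Nat.card_congr (QuotientAddGroup.quotientKerEquivRange θ).toEquiv, hker, hY.exact] at h1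
    exact (Nat.eq_of_mul_eq_mul_right Nat.card_pos h1).symm
  rw [← hq, ← hr]
  refine Nat.card_le_card_of_surjective (fun z : θ.range => ((z : W) : W ⧸ fx ρ X)) fun z => ?_
  induction z using QuotientAddGroup.induction_on with
  | H v =>
    obtain ⟨u, hu, -⟩ := hrep v
    refine ⟨⟨θ u, u, rfl⟩, ?_⟩
    show ((ρ b u - u : W) : W ⧸ fx ρ X) = (v : W ⧸ fx ρ X)
    rw [eq_comm, ← sub_eq_zero, ← QuotientAddGroup.mk_sub]
    exact (QuotientAddGroup.eq_zero_iff _).2 hu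

/-- Both moved: impossible in a `p`-group. -/
theorem not_both_moved (hc : Base ρ T N) (hX : Good ρ X) (hY : Good ρ Y) {R : Subgroup H} (hR : IsPGroup p R)
    (hXR : X ≤ R) (hYR : Y ≤ R) {b x : H} (hb : b ∈ Y) (hbX : cj b X ≠ X) (hx : x ∈ X) (hxY : cj x Y ≠ Y)
    (hcomX : ∀ u ∈ X, ∀ u' ∈ cj b X, u * u' = u' * u) (hcomY : ∀ u ∈ Y, ∀ u' ∈ cj x Y, u * u' = u' * u) :
    False := by
  obtain ⟨hle, hrepX⟩ := moved_pair hc hX hY hb hbX hcomX
  obtain ⟨hle', hrepY⟩ := moved_pair hc hY hX hx hxY hcomY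
  have hx1 : x ≠ 1 := fun e => hxY (by rw [e, cj_one])
  have hb1 : b ≠ 1 := fun e => hbX (by rw [e, cj_one])
  let θ : W →+ W :=
    { toFun := fun v => ρ x v - v
      map_zero' := by rw [map_zero, sub_zero]
      map_add' := fun v w => by rw [map_add, add_sub_add_comm] }
  let θ' : W →+ W :=
    { toFun := fun v => ρ b v - v
      map_zero' := by rw [map_zero, sub_zero]
      map_add' := fun v w => by rw [map_add, add_sub_add_comm] }
  have hcross : ∀ {θ₁ : W →+ W} {A B : Subgroup H}, Good ρ A → Good ρ B → Nat.card A = Nat.card B →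
      θ₁.ker = fx ρ A → (∀ v, ∃ u, v - θ₁ u ∈ fx ρ B) → θ₁.range ⊓ fx ρ B = ⊥ := by
    intro θ₁ A B hA hB hAB hker hrep
    have h1 := AddSubgroup.card_eq_card_quotient_mul_card_addSubgroup θ₁.ker
    rw [Nat.card_congr (QuotientAddGroup.quotientKerEquivRange θ₁).toEquiv, hker, hA.exact] at h1
    have hr := Nat.eq_of_mul_eq_mul_right Nat.card_pos h1
    have htop : θ₁.range ⊔ fx ρ B = ⊤ := eq_top_iff.2 fun v _ => by
      obtain ⟨u, hu⟩ := hrep v
      rw [← add_sub_cancel (θ₁ u) v]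
      exact add_mem (AddSubgroup.mem_sup_left ⟨u, rfl⟩) (AddSubgroup.mem_sup_right hu)
    have h2 := card_sup_inf θ₁.range (fx ρ B)
    rw [htop, AddSubgroup.card_top, ← hr, hAB, ← hB.exact] at h2
    refine AddSubgroup.eq_bot_of_card_eq _ (Nat.eq_of_mul_eq_mul_left (Nat.card_pos (α := W)) ?_)
    rw [mul_one]
    exact h2
  have hker : θ.ker = fx ρ X := AddSubgroup.ext fun v =>
    ⟨fun h => hX.fix x hx hx1 v (sub_eq_zero.1 h), fun h => sub_eq_zero.2 (h x hx)⟩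
  have hker' : θ'.ker = fx ρ Y := AddSubgroup.ext fun v =>
    ⟨fun h => hY.fix b hb hb1 v (sub_eq_zero.1 h), fun h => sub_eq_zero.2 (h b hb)⟩
  have hc1 := hcross hX hY (le_antisymm hle hle') hker fun v => (hrepY v).imp fun _ h => h.1
  have hc2 := hcross hY hX (le_antisymm hle' hle) hker' fun v => (hrepX v).imp fun _ h => h.1
  have hbot : θ.range = ⊥ := eq_bot_of_reproduces hc.amb hR fun M hM s hs hs0 hsM => by
    have h1 : θ' s ≠ 0 := fun e => hs0 ((AddSubgroup.mem_bot).1 (hc1 ▸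
      (⟨hs, hker' ▸ e⟩ : s ∈ θ.range ⊓ fx ρ Y)))
    refine ⟨θ (θ' s), ⟨θ' s, rfl⟩, fun e => h1 ((AddSubgroup.mem_bot).1 (hc2 ▸
      (⟨⟨s, rfl⟩, hker ▸ e⟩ : θ' s ∈ θ'.range ⊓ fx ρ X))), ?_⟩
    have hm : θ' s ∈ M := hsM b (hYR hb)
    exact sub_mem (hM x (hXR hx) _ hm) hm
  refine hX.fx_ne_top hc.amb (eq_top_iff.2 fun v _ => ?_)
  rw [← hker]
  exact (AddSubgroup.mem_bot).1 (hbot ▸ (⟨v, rfl⟩ : θ v ∈ θ.range))

/-- Good offenders in a `p`-group commute. -/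
theorem comm_of_pgroup (hc : Base ρ T N) : ∀ (R : Subgroup H), IsPGroup p R → ∀ X Y : Subgroup H, X ≤ R → Y ≤ R →
    Good ρ X → Good ρ Y → ∀ x ∈ X, ∀ y ∈ Y, x * y = y * x := by
  classical
  suffices h : ∀ n, ∀ (R : Subgroup H), Nat.card R ≤ n → IsPGroup p R → ∀ X Y : Subgroup H, X ≤ R → Y ≤ R →
      Good ρ X → Good ρ Y → ∀ x ∈ X, ∀ y ∈ Y, x * y = y * x from fun R => h _ R le_rfl
  intro n
  induction n with
  | zero =>
    intro R hR
    exact absurd hR (by have : 0 < Nat.card R := Nat.card_pos; omega)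
  | succ n ih =>
    intro R hn hR X Y hXR hYR hX hY
    by_cases hne : X = Y
    · subst hne
      exact fun x hx y hy => hX.off.comm hc.amb hx hy
    set R₁ := X ⊔ Y with hR₁
    have hR₁R : R₁ ≤ R := sup_le hXR hYR
    have key : ∀ (A B : Subgroup H), Good ρ A → Good ρ B → A ≤ R₁ → B ≤ R₁ → R₁ ≤ A ⊔ B → ∀ b ∈ B,
        cj b A ≠ A → ∀ u ∈ A, ∀ u' ∈ cj b A, u * u' = u' * u := by
      intro A B hA hB hAR hBR hgen b hb hbA
      have hne1 : A.subgroupOf R₁ ≠ ⊤ := fun e => hbA (map_conj_eq_iff.2 (Subgroup.le_normalizer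
        (Subgroup.subgroupOf_eq_top.1 e (hBR hb))))
      obtain ⟨M, hM, hAM⟩ := (eq_top_or_exists_le_coatom (A.subgroupOf R₁)).resolve_left hne1
      haveI := (hR.to_le hR₁R).isNilpotent
      haveI : M.Normal := Subgroup.NormalizerCondition.normal_of_coatom M Group.normalizerCondition_of_isNilpotent hM
      have hA' : A ≤ M.map R₁.subtype := fun a ha => ⟨⟨a, hAR ha⟩, hAM ha, rfl⟩
      have hbA' : cj b A ≤ M.map R₁.subtype := by
        intro z hz
        have hz' := hAM (show (⟨b⁻¹ * z * b, hAR (mem_cj.1 hz)⟩ : R₁) ∈ A.subgroupOf R₁ from mem_cj.1 hz)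
        refine ⟨⟨b, hBR hb⟩ * ⟨b⁻¹ * z * b, hAR (mem_cj.1 hz)⟩ * ⟨b, hBR hb⟩⁻¹,
          ‹M.Normal›.conj_mem _ hz' _, ?_⟩
        show b * (b⁻¹ * z * b) * b⁻¹ = z
        group
      have hlt : Nat.card (M.map R₁.subtype) < Nat.card R := by
        rw [Subgroup.card_map_of_injective R₁.subtype_injective]
        refine lt_of_lt_of_le (lt_of_le_of_ne (Subgroup.card_le_card_group M) fun e => hM.1 ?_)
          (Subgroup.card_le_of_le hR₁R)
        exact Subgroup.eq_top_of_card_eq M e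
      exact ih _ (by omega) ((hR.to_le hR₁R).to_subgroup M |>.map _) A (cj b A) hA' hbA' hA (hA.cj b)
    by_cases h1 : ∀ y ∈ Y, cj y X = X
    · by_cases h2 : ∀ x ∈ X, cj x Y = Y
      · exact comm_of_normalizes hc hX hY hne h2 h1
      · push Not at h2
        obtain ⟨x, hx, hxY⟩ := h2
        exact (not_half_normalizes hc hY hX h1 hx hxY
          (key Y X hY hX le_sup_right le_sup_left (sup_comm X Y).le x hx hxY)).elim
    · push Not at h1
      obtain ⟨b, hb, hbX⟩ := h1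
      by_cases h2 : ∀ x ∈ X, cj x Y = Y
      · exact (not_half_normalizes hc hX hY h2 hb hbX (key X Y hX hY le_sup_left le_sup_right le_rfl b hb hbX)).elim
      · push Not at h2
        obtain ⟨x, hx, hxY⟩ := h2
        exact (not_both_moved hc hX hY hR hXR hYR hb hbX hx hxY
          (key X Y hX hY le_sup_left le_sup_right le_rfl b hb hbX)
          (key Y X hY hX le_sup_right le_sup_left (sup_comm X Y).le x hx hxY)).elim

end CfsgLib.LocalEven.MovesFixed
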