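import Cfsg.Agent.Lib.LocalEven.MovesFixed.Centres
import Mathlib.GroupTheory.Perm.Basic
import Mathlib.Data.ZMod.Basic

/-!
A family of commuting blocks: natural `SL₂(F)` subgroups, or symmetric groups of odd degree on even-weight
permutation modules, conjugate under a Sylow subgroup.
-/

set_option autoImplicit false
set_option linter.unusedSectionVars false
set_option linter.style.haveILetI false

open scoped MatrixGroups

namespace CfsgLib.LocalEven.MovesFixed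

open CfsgLib.LocalEven.RankOneFF CfsgLib.LocalEven.SylowIn

variable {H : Type*} [Group H] [Finite H] {W : Type*} [AddCommGroup W] [Finite W] {p : ℕ} [Fact p.Prime]

/-- The commutators with a subgroup. -/
def commSub (ρ : H →* AddMonoid.End W) (L : Subgroup H) : AddSubgroup W :=
  AddSubgroup.closure {u | ∃ x ∈ L, ∃ v, u = ρ x v - v}

/-- A natural `SL₂(pⁿ)`-block. -/
def SLModel (ρ : H →* AddMonoid.End W) (p : ℕ) (L : Subgroup H) (n : ℕ) : Prop :=
  ∃ (F : Type) (_ : Field F) (_ : Fintype F), Fintype.card F = p ^ n ∧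
    ∃ (φ : L →* SL(2, F)) (ψ : W →+ (Fin 2 → F)),
      Function.Bijective φ ∧ Function.Surjective ψ ∧ (∀ v, ψ v = 0 ↔ v ∈ fx ρ L) ∧
      ∀ (k : L) (v : W), ψ (ρ (k : H) v) = ((φ k : SL(2, F)) : Matrix (Fin 2) (Fin 2) F).mulVec (ψ v)

/-- A symmetric group of degree `2ⁿ + 1` on the even-weight permutation module. -/
def SymModel (ρ : H →* AddMonoid.End W) (L : Subgroup H) (n : ℕ) : Prop :=
  ∃ (φ : L →* Equiv.Perm (Fin (2 ^ n + 1))) (ψ : W →+ (Fin (2 ^ n + 1) → ZMod 2)),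
    Function.Bijective φ ∧ (∀ v, ∑ i, ψ v i = 0) ∧ (∀ y, ∑ i, y i = 0 → ∃ v, ψ v = y) ∧
    (∀ v, ψ v = 0 ↔ v ∈ fx ρ L) ∧ ∀ (k : L) (v : W) i, ψ (ρ (k : H) v) i = ψ v ((φ k)⁻¹ i)

/-- The blocks. -/
structure Family (ρ : H →* AddMonoid.End W) (T : Sylow p H) {r : ℕ} (L : Fin r → Subgroup H) : Prop where
  conj : ∀ i j, ∃ t ∈ (T : Subgroup H), cj t (L i) = L j
  comm : ∀ i j, i ≠ j → ∀ x ∈ L i, ∀ y ∈ L j, x * y = y * x
  fixed : ∀ i j, i ≠ j → ∀ x ∈ L i, ∀ y ∈ L j, ∀ v, ρ y (ρ x v - v) = ρ x v - v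
  inf : ∀ i, L i ⊓ (⨆ j ∈ {j | j ≠ i}, L j) = ⊥
  top : (⨆ i, L i) ⊔ (T : Subgroup H) = ⊤
  le_normal : ∀ J : Subgroup H, J.Normal → ∀ A, Good ρ A → A ≤ J → ∀ i, L i ≤ J
  off_le : ∀ D : Subgroup H, (∀ a ∈ D, ∀ b ∈ D, a * b = b * a) → (∀ a ∈ D, a ^ p = 1) →
    Nat.card W ≤ Nat.card D * Nat.card (fx ρ D) → D ≤ ⨆ i, L i
  split : ∀ i v, ∃ u ∈ commSub ρ (L i), v - u ∈ fx ρ (L i)
  model : ∀ i, ∃ n, 1 ≤ n ∧ (SLModel ρ p (L i) n ∨ (p = 2 ∧ SymModel ρ (L i) n))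

variable {ρ : H →* AddMonoid.End W} {T : Sylow p H} {r : ℕ} {L : Fin r → Subgroup H}

theorem commSub_mem_fx {X Y : Subgroup H} (h : ∀ x ∈ X, ∀ y ∈ Y, ∀ v, ρ y (ρ x v - v) = ρ x v - v) :
    commSub ρ X ≤ fx ρ Y :=
  (AddSubgroup.closure_le _).2 (by rintro _ ⟨x, hx, v, rfl⟩ y hy; exact h x hx y hy v)

/-- The module is the sum of the common fixed points and the commutators with the blocks. -/
theorem Family.dec (hF : Family ρ T L) (v : W) : v ∈ fx ρ (⨆ i, L i) ⊔ ⨆ i, commSub ρ (L i) := by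
  choose u hu hfix using fun i => hF.split i v
  rw [← sub_add_cancel v (∑ i, u i)]
  refine add_mem (AddSubgroup.mem_sup_left ?_)
    (AddSubgroup.mem_sup_right (sum_mem fun i _ => AddSubgroup.mem_iSup_of_mem i (hu i)))
  rw [mem_fx_iff_le]
  refine iSup_le fun j => (mem_fx_iff_le ρ).1 ?_
  rw [← Finset.add_sum_erase _ _ (Finset.mem_univ j), ← sub_sub]
  refine sub_mem (hfix j) (sum_mem fun i hi => ?_)
  exact commSub_mem_fx (hF.fixed i j (Finset.mem_erase.1 hi).1) (hu i)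

/-- Left alone, the blocks have a member. -/
theorem Family.pos (hF : Family ρ T L) {N : Subgroup H} (hTN : (T : Subgroup H) ≤ N) (hN : N ≠ ⊤) : 0 < r := by
  rcases Nat.eq_zero_or_pos r with rfl | h
  · exfalso
    have h := hF.top
    rw [iSup_of_empty, bot_sup_eq] at h
    exact hN (top_le_iff.1 (h ▸ hTN))
  · exact h

end CfsgLib.LocalEven.MovesFixed
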