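import Cfsg.Agent.Lib.LocalEven.MovesFixed.Basic

/-!
Coordinates for the natural module of `SL₂(F)` generated by a block: torus, Weyl element and a complement to the
fixed points.
-/

set_option autoImplicit false
set_option linter.unusedSectionVars false
set_option linter.style.haveILetI false

open scoped MatrixGroups

namespace CfsgLib.LocalEven.MovesFixed

open CfsgLib.LocalEven.RankOneFF CfsgLib.LocalEven.SylowIn

section Matrix

variable {F : Type} [Field F]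

/-- The diagonal torus. -/
def diaS : Fˣ →* SL(2, F) where
  toFun μ := ⟨!![(μ : F), 0; 0, ((μ⁻¹ : Fˣ) : F)], by simp [Matrix.det_fin_two]⟩
  map_one' := Subtype.ext (by simp [Matrix.one_fin_two])
  map_mul' a b := Subtype.ext (by
    show !![((a * b : Fˣ) : F), 0; 0, (((a * b)⁻¹ : Fˣ) : F)] =
      !![(a : F), 0; 0, ((a⁻¹ : Fˣ) : F)] * !![(b : F), 0; 0, ((b⁻¹ : Fˣ) : F)]
    ext i j
    fin_cases i <;> fin_cases j <;> simp [Matrix.mul_apply, Fin.sum_univ_two, mul_comm])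

theorem diaS_val (μ : Fˣ) : (diaS μ).1 = !![(μ : F), 0; 0, ((μ⁻¹ : Fˣ) : F)] := rfl

/-- The Weyl element. -/
def weylS : SL(2, F) := ⟨!![0, 1; -1, 0], by simp [Matrix.det_fin_two]⟩

theorem diaS_conj_upS (μ : Fˣ) (s : F) : diaS μ * upS s * (diaS μ)⁻¹ = upS ((μ : F) * μ * s) := by
  rw [← map_inv]
  refine Subtype.ext ?_
  show !![(μ : F), 0; 0, ((μ⁻¹ : Fˣ) : F)] * !![1, s; 0, 1] *
      !![((μ⁻¹ : Fˣ) : F), 0; 0, (((μ⁻¹)⁻¹ : Fˣ) : F)] = !![1, (μ : F) * μ * s; 0, 1]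
  ext i j
  fin_cases i <;> fin_cases j <;> simp [Matrix.mul_apply, Fin.sum_univ_two, mul_comm, mul_left_comm]

theorem weylS_dia (μ : Fˣ) : weylS * diaS μ = (diaS μ)⁻¹ * weylS := by
  rw [← map_inv]
  refine Subtype.ext ?_
  show !![(0 : F), 1; -1, 0] * !![(μ : F), 0; 0, ((μ⁻¹ : Fˣ) : F)] =
    !![((μ⁻¹ : Fˣ) : F), 0; 0, (((μ⁻¹)⁻¹ : Fˣ) : F)] * !![(0 : F), 1; -1, 0]
  ext i j
  fin_cases i <;> fin_cases j <;> simp [Matrix.mul_apply, Fin.sum_univ_two]

theorem upS_add (s t : F) : upS (s + t) = upS s * upS t := by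
  refine Subtype.ext ?_
  show !![(1 : F), s + t; 0, 1] = !![1, s; 0, 1] * !![1, t; 0, 1]
  ext i j
  fin_cases i <;> fin_cases j <;> simp [Matrix.mul_apply, Fin.sum_univ_two, add_comm]

theorem exists_first_column {v : Fin 2 → F} (hv : v ≠ 0) : ∃ B : SL(2, F), B.1.mulVec ![1, 0] = v := by
  by_cases h0 : v 0 = 0
  · have h1 : v 1 ≠ 0 := fun h1 => hv (funext fun i => by fin_cases i <;> simp [h0, h1])
    refine ⟨⟨!![0, -(v 1)⁻¹; v 1, 0], by simp [Matrix.det_fin_two, h1]⟩, ?_⟩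
    funext i
    fin_cases i <;> simp [Matrix.mulVec, dotProduct, Fin.sum_univ_two, h0]
  · refine ⟨⟨!![v 0, 0; v 1, (v 0)⁻¹], by simp [Matrix.det_fin_two, h0]⟩, ?_⟩
    funext i
    fin_cases i <;> simp [Matrix.mulVec, dotProduct, Fin.sum_univ_two]

end Matrix

variable {H : Type*} [Group H] [Finite H] {W : Type*} [AddCommGroup W] [Finite W] {p : ℕ} [Fact p.Prime]

/-- Coordinates on the module of an `SL₂(F)` containing `A`. -/
structure Frame (ρ : H →* AddMonoid.End W) (A : Subgroup H) (F : Type) [Field F] [Fintype F] where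
  e : F →+ W
  f : F →+ W
  a : F → H
  h : Fˣ →* H
  w : H
  C0 : AddSubgroup W
  card_F : Fintype.card F = Nat.card A
  a_mem : ∀ s, a s ∈ A
  a_surj : ∀ x ∈ A, ∃ s, a s = x
  a_add : ∀ s t, a (s + t) = a s * a t
  C0_le : C0 ≤ fx ρ A
  e_mem : ∀ s, e s ∈ fx ρ A
  dec : ∀ v, ∃ s r, ∃ c ∈ C0, v = e s + f r + c
  indep : ∀ s r, e s + f r ∈ C0 → s = 0 ∧ r = 0
  act : ∀ s r, ρ (a s) (f r) - f r - e (s * r) ∈ C0
  h_C0 : ∀ μ, ∀ c ∈ C0, ρ (h μ) c = c
  h_e : ∀ (μ : Fˣ) s, ρ (h μ) (e s) = e ((μ : F) * s)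
  h_f : ∀ (μ : Fˣ) r, ρ (h μ) (f r) = f (((μ⁻¹ : Fˣ) : F) * r)
  h_a : ∀ (μ : Fˣ) s, h μ * a s * (h μ)⁻¹ = a ((μ : F) * μ * s)
  w_C0 : ∀ c ∈ C0, ρ w c = c
  w_e : ∀ s, ρ w (e s) = f (-s)
  w_f : ∀ r, ρ w (f r) = e r

variable {ρ : H →* AddMonoid.End W} {A : Subgroup H} {F : Type} [Field F] [Fintype F]

/-- Transport by conjugation. -/
noncomputable def Frame.map (S : Frame ρ A F) (g : H) : Frame ρ (cj g A) F where
  e := (ρ g).comp S.e
  f := (ρ g).comp S.f
  a s := g * S.a s * g⁻¹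
  h := (MulAut.conj g).toMonoidHom.comp S.h
  w := g * S.w * g⁻¹
  C0 := S.C0.map (ρ g)
  card_F := by rw [card_cj]; exact S.card_F
  a_mem s := conj_mem_cj g (S.a_mem s)
  a_surj x hx := by
    obtain ⟨s, hs⟩ := S.a_surj _ (mem_cj.1 hx)
    exact ⟨s, by rw [hs]; group⟩
  a_add s t := by rw [S.a_add]; group
  C0_le := by
    rintro _ ⟨c, hc, rfl⟩
    exact act_mem_fx ρ g (S.C0_le hc)
  e_mem s := act_mem_fx ρ g (S.e_mem s)
  dec v := by
    obtain ⟨s, r, c, hc, hv⟩ := S.dec (ρ g⁻¹ v)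
    refine ⟨s, r, ρ g c, ⟨c, hc, rfl⟩, ?_⟩
    show v = ρ g (S.e s) + ρ g (S.f r) + ρ g c
    rw [← map_add, ← map_add, ← hv, act_inv']
  indep s r := by
    rintro ⟨c, hc, he⟩
    refine S.indep s r ?_
    have he' : ρ g c = ρ g (S.e s + S.f r) := by rw [map_add]; exact he
    exact act_inj ρ g he' ▸ hc
  act s r := by
    refine ⟨_, S.act s r, ?_⟩
    show ρ g (ρ (S.a s) (S.f r) - S.f r - S.e (s * r)) =
      ρ (g * S.a s * g⁻¹) (ρ g (S.f r)) - ρ g (S.f r) - ρ g (S.e (s * r))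
    rw [map_sub, map_sub, act_mul, act_mul, act_inv]
  h_C0 μ := by
    rintro _ ⟨c, hc, rfl⟩
    show ρ (g * S.h μ * g⁻¹) (ρ g c) = ρ g c
    rw [act_mul, act_mul, act_inv, S.h_C0 μ c hc]
  h_e μ s := by
    show ρ (g * S.h μ * g⁻¹) (ρ g (S.e s)) = ρ g (S.e _)
    rw [act_mul, act_mul, act_inv, S.h_e]
  h_f μ r := by
    show ρ (g * S.h μ * g⁻¹) (ρ g (S.f r)) = ρ g (S.f _)
    rw [act_mul, act_mul, act_inv, S.h_f]
  h_a μ s := by
    show g * S.h μ * g⁻¹ * (g * S.a s * g⁻¹) * (g * S.h μ * g⁻¹)⁻¹ = g * S.a ((μ : F) * μ * s) * g⁻¹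
    rw [← S.h_a]
    group
  w_C0 := by
    rintro _ ⟨c, hc, rfl⟩
    show ρ (g * S.w * g⁻¹) (ρ g c) = ρ g c
    rw [act_mul, act_mul, act_inv, S.w_C0 c hc]
  w_e s := by
    show ρ (g * S.w * g⁻¹) (ρ g (S.e s)) = ρ g (S.f _)
    rw [act_mul, act_mul, act_inv, S.w_e]
  w_f r := by
    show ρ (g * S.w * g⁻¹) (ρ g (S.f r)) = ρ g (S.e _)
    rw [act_mul, act_mul, act_inv, S.w_f]

theorem fx_comp {L : Subgroup H} (B : Subgroup L) :
    fx (ρ.comp L.subtype) B = fx ρ (B.map L.subtype) := by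
  refine AddSubgroup.ext fun v => ⟨?_, fun hv b hb => hv _ (Subgroup.mem_map_of_mem L.subtype hb)⟩
  rintro hv _ ⟨b, hb, rfl⟩
  exact hv b hb

/-- A natural block with at least three elements has coordinates. -/
theorem exists_frame {L : Subgroup H} {AL : Subgroup L} (hne : AL ≠ ⊥)
    (hcard : Nat.card (fx (ρ.comp L.subtype) AL) = Nat.card AL * Nat.card (fx (ρ.comp L.subtype) (⊤ : Subgroup L)))
    (hnat : Natural (ρ.comp L.subtype) ⊤ AL F) (h3 : 3 ≤ Nat.card AL) :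
    ∃ S : Frame ρ (AL.map L.subtype) F, S.C0 = fx (ρ.comp L.subtype) (⊤ : Subgroup L) ∧
      S.w ∈ L ∧ AL.map L.subtype ⊔ cj S.w (AL.map L.subtype) = L := by
  classical
  obtain ⟨φ₀, ψ₀, hφ₀, hψs, hψ0, hψe⟩ := hnat.equiv
  set Z := fx (ρ.comp L.subtype) (⊤ : Subgroup L) with hZ
  have hq : Nat.card AL = Nat.card F := by rw [Nat.card_eq_fintype_card (α := F)]; exact hnat.card.symm
  have hZA : Z ≤ fx (ρ.comp L.subtype) AL := fx_anti _ le_top
  -- adapt the basis to the fixed points of `AL`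
  obtain ⟨v₁, hv₁, hv₁Z⟩ : ∃ v ∈ fx (ρ.comp L.subtype) AL, v ∉ Z := by
    by_contra hall
    push Not at hall
    have h1 : Nat.card (fx (ρ.comp L.subtype) AL) ≤ Nat.card Z := AddSubgroup.card_le_of_le hall
    have h2 : 1 < Nat.card AL := (Subgroup.one_lt_card_iff_ne_bot _).2 hne
    have h4 : 0 < Nat.card Z := Nat.card_pos
    rw [hcard] at h1
    nlinarith
  obtain ⟨B, hB⟩ := exists_first_column (v := ψ₀ v₁) fun e => hv₁Z ((hψ0 v₁).1 e)
  let φ : L →* SL(2, F) :=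
    ((MulAut.conj B⁻¹).toMonoidHom.comp φ₀).comp Subgroup.topEquiv.symm.toMonoidHom
  have hφ : Function.Bijective φ :=
    ((MulAut.conj B⁻¹).bijective.comp hφ₀).comp Subgroup.topEquiv.symm.bijective
  let ψ : W →+ (Fin 2 → F) :=
    { toFun := fun v => (B⁻¹ : SL(2, F)).1.mulVec (ψ₀ v)
      map_zero' := by rw [map_zero, Matrix.mulVec_zero]
      map_add' := fun v w => by rw [map_add, Matrix.mulVec_add] }
  have hBB : ∀ u : Fin 2 → F, B.1.mulVec ((B⁻¹ : SL(2, F)).1.mulVec u) = u := fun u => by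
    rw [Matrix.mulVec_mulVec, ← Matrix.SpecialLinearGroup.coe_mul, mul_inv_cancel,
      Matrix.SpecialLinearGroup.coe_one, Matrix.one_mulVec]
  have hBB' : ∀ u : Fin 2 → F, (B⁻¹ : SL(2, F)).1.mulVec (B.1.mulVec u) = u := fun u => by
    rw [Matrix.mulVec_mulVec, ← Matrix.SpecialLinearGroup.coe_mul, inv_mul_cancel,
      Matrix.SpecialLinearGroup.coe_one, Matrix.one_mulVec]
  have hψsurj : Function.Surjective ψ := fun u => by
    obtain ⟨v, hv⟩ := hψs (B.1.mulVec u)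
    exact ⟨v, by show (B⁻¹ : SL(2, F)).1.mulVec (ψ₀ v) = u; rw [hv, hBB']⟩
  have hψker : ∀ v, ψ v = 0 ↔ v ∈ Z := fun v => by
    rw [← hψ0 v]
    show (B⁻¹ : SL(2, F)).1.mulVec (ψ₀ v) = 0 ↔ _
    constructor
    · intro e
      rw [← hBB (ψ₀ v), e, Matrix.mulVec_zero]
    · intro e
      rw [e, Matrix.mulVec_zero]
  have hequiv : ∀ (x : L) (v : W), ψ (ρ (x : H) v) = (φ x).1.mulVec (ψ v) := fun x v => by
    show (B⁻¹ : SL(2, F)).1.mulVec (ψ₀ (ρ (x : H) v)) =
      (B⁻¹ * φ₀ (Subgroup.topEquiv.symm x) * B⁻¹⁻¹ : SL(2, F)).1.mulVec ((B⁻¹ : SL(2, F)).1.mulVec (ψ₀ v))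
    have h1 := hψe ⟨x, Subgroup.mem_top x⟩ v
    rw [inv_inv, Matrix.SpecialLinearGroup.coe_mul, Matrix.SpecialLinearGroup.coe_mul, ← Matrix.mulVec_mulVec,
      ← Matrix.mulVec_mulVec, hBB]
    exact congrArg _ h1
  have hψv₁ : ψ v₁ = ![1, 0] := by
    show (B⁻¹ : SL(2, F)).1.mulVec (ψ₀ v₁) = ![1, 0]
    rw [← hB, hBB']
  have hup : ∀ x ∈ AL, φ x = upS ((φ x).1 0 1) := by
    intro x hx
    have h1 := hequiv x v₁
    rw [show ρ (x : H) v₁ = v₁ from hv₁ x hx, hψv₁] at h1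
    have h00 := congrFun h1 0
    have h10 := congrFun h1 1
    simp [Matrix.mulVec, dotProduct, Fin.sum_univ_two] at h00 h10
    have hd := (φ x).2
    rw [Matrix.det_fin_two, ← h00, ← h10, mul_zero, sub_zero, one_mul] at hd
    refine Subtype.ext ?_
    show (φ x).1 = !![1, (φ x).1 0 1; 0, 1]
    ext i j
    fin_cases i <;> fin_cases j <;> simp [← h00, ← h10, hd]
  let σ : AL → F := fun x => (φ x).1 0 1
  have hσ : Function.Bijective σ := by
    refine (Nat.bijective_iff_injective_and_card σ).2 ⟨fun x y e => Subtype.ext (hφ.1 ?_), hq⟩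
    rw [hup x x.2, hup y y.2]
    exact congrArg upS e
  let φe : L ≃* SL(2, F) := MulEquiv.ofBijective φ hφ
  have hφs : ∀ m, φ (φe.symm m) = m := fun m => φe.apply_symm_apply m
  have hamem : ∀ s : F, φe.symm (upS s) ∈ AL := fun s => by
    obtain ⟨x, rfl⟩ := hσ.2 s
    rw [← hup x x.2]
    rw [show φ (x : L) = φe (x : L) from rfl, MulEquiv.symm_apply_apply]
    exact x.2
  -- the fixed points are the first line
  let g₀ : fx (ρ.comp L.subtype) AL →+ F :=
    { toFun := fun v => ψ (v : W) 0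
      map_zero' := by simp
      map_add' := fun v w => by simp }
  have hfix1 : ∀ v ∈ fx (ρ.comp L.subtype) AL, ψ v 1 = 0 := by
    intro v hv
    have h1 := hequiv (φe.symm (upS 1)) v
    rw [show ρ ((φe.symm (upS 1) : L) : H) v = v from hv _ (hamem 1), hφs] at h1
    have := congrFun h1 0
    simpa [upS, Matrix.mulVec, dotProduct, Fin.sum_univ_two] using this
  have hg₀ : Function.Surjective g₀ := by
    rw [← AddMonoidHom.range_eq_top]
    refine AddSubgroup.eq_top_of_card_eq _ (le_antisymm (Nat.card_le_card_of_injective _ (Subtype.val_injective (p := fun x => x ∈ g₀.range))) ?_)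
    have h1 := AddSubgroup.card_eq_card_quotient_mul_card_addSubgroup g₀.ker
    rw [Nat.card_congr (QuotientAddGroup.quotientKerEquivRange g₀).toEquiv, hcard, hq] at h1
    have h2 : Nat.card g₀.ker ≤ Nat.card Z := by
      refine Nat.card_le_card_of_injective (fun v => (⟨(v.1 : W), (hψker _).1 (funext fun i => ?_)⟩ : Z))
        fun v w e => Subtype.ext (Subtype.ext (congrArg Subtype.val e :))
      fin_cases i
      · exact v.2
      · exact hfix1 _ v.1.2
    refine Nat.le_of_mul_le_mul_right (c := Nat.card Z) ?_ Nat.card_pos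
    rw [h1]
    exact Nat.mul_le_mul_left _ h2
  -- a torus element without fixed points
  obtain ⟨μ₀, hμ₀⟩ : ∃ μ : Fˣ, (μ : F) ≠ 1 := by
    by_contra hall
    push Not at hall
    have : Nat.card F ≤ 2 := by
      refine le_trans (Nat.card_le_card_of_injective (fun s : F => decide (s = 0)) fun s t e => ?_) (by simp)
      by_cases hs : s = 0 <;> by_cases ht : t = 0 <;> simp_all
      have := (hall (Units.mk0 s hs)).trans (hall (Units.mk0 t ht)).symm
      exact congrArg Units.val this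
    omega
  set h₀ : L := φe.symm (diaS μ₀) with hh₀
  let δ : W →+ W :=
    { toFun := fun v => ρ (h₀ : H) v - v
      map_zero' := by rw [map_zero, sub_zero]
      map_add' := fun v w => by rw [map_add, add_sub_add_comm] }
  have hδ : ∀ v, δ v = ρ (h₀ : H) v - v := fun v => rfl
  have hμ₁ : ((μ₀⁻¹ : Fˣ) : F) - 1 ≠ 0 := fun e => hμ₀ (by
    have h1 : μ₀⁻¹ = 1 := Units.ext (by rw [Units.val_one]; exact sub_eq_zero.1 e)
    rw [inv_eq_one.1 h1, Units.val_one])
  have hψδ : ∀ v, ψ (δ v) = ![((μ₀ : F) - 1) * ψ v 0, (((μ₀⁻¹ : Fˣ) : F) - 1) * ψ v 1] := fun v => by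
    rw [hδ, map_sub, hequiv, hh₀, hφs, diaS_val]
    funext i
    fin_cases i <;> simp [Matrix.mulVec, dotProduct, Fin.sum_univ_two, sub_mul]
  let P : δ.range →+ (Fin 2 → F) := ψ.comp δ.range.subtype
  have hPinj : Function.Injective P := by
    rw [injective_iff_map_eq_zero]
    rintro ⟨_, v, rfl⟩ e
    have e' : ψ (δ v) = 0 := e
    rw [hψδ] at e'
    have h0 := congrFun e' 0
    have h1 := congrFun e' 1
    simp [hμ₁, sub_eq_zero, hμ₀] at h0 h1
    have hvZ : v ∈ Z := (hψker v).1 (funext fun i => by fin_cases i <;> simp [h0, h1])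
    exact Subtype.ext (by show δ v = 0; rw [hδ, show ρ (h₀ : H) v = v from hvZ h₀ (Subgroup.mem_top _), sub_self])
  have hPsurj : Function.Surjective P := fun u => by
    obtain ⟨v, hv⟩ := hψsurj ![u 0 / ((μ₀ : F) - 1), u 1 / (((μ₀⁻¹ : Fˣ) : F) - 1)]
    refine ⟨⟨δ v, v, rfl⟩, ?_⟩
    show ψ (δ v) = u
    rw [hψδ, hv]
    funext i
    revert i
    rw [Fin.forall_fin_two]
    exact ⟨mul_div_cancel₀ _ (sub_ne_zero.2 hμ₀), mul_div_cancel₀ _ hμ₁⟩
  let Pe : δ.range ≃+ (Fin 2 → F) := AddEquiv.ofBijective P ⟨hPinj, hPsurj⟩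
  let ι : (Fin 2 → F) →+ W := δ.range.subtype.comp Pe.symm.toAddMonoidHom
  have hψι : ∀ u, ψ (ι u) = u := fun u => Pe.apply_symm_apply u
  have hιmem : ∀ u, ι u ∈ δ.range := fun u => (Pe.symm u).2
  have huniq : ∀ x ∈ δ.range, ι (ψ x) = x := fun x hx => congrArg Subtype.val (Pe.symm_apply_apply ⟨x, hx⟩)
  -- elements carrying the complement into itself
  have hact : ∀ y : L, (∀ v, ρ (y : H) (δ v) ∈ δ.range) → ∀ u, ρ (y : H) (ι u) = ι ((φ y).1.mulVec u) := by
    intro y hy u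
    obtain ⟨v, hv⟩ := hιmem u
    have hmem : ρ (y : H) (ι u) ∈ δ.range := hv ▸ hy v
    rw [← huniq _ hmem, hequiv, hψι]
  have hdia : ∀ μ : Fˣ, ∀ v, ρ ((φe.symm (diaS μ) : L) : H) (δ v) ∈ δ.range := fun μ v => by
    refine ⟨ρ ((φe.symm (diaS μ) : L) : H) v, ?_⟩
    have hc : (h₀ : H) * ((φe.symm (diaS μ) : L) : H) = ((φe.symm (diaS μ) : L) : H) * (h₀ : H) := by
      rw [hh₀, ← Subgroup.coe_mul, ← Subgroup.coe_mul, ← map_mul, ← map_mul, ← map_mul, ← map_mul, mul_comm μ₀]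
    rw [hδ, hδ, map_sub, ← act_mul, ← act_mul, hc]
  have hweyl : ∀ v, ρ ((φe.symm weylS : L) : H) (δ v) ∈ δ.range := fun v => by
    refine ⟨-(ρ (h₀ : H)⁻¹ (ρ ((φe.symm weylS : L) : H) v)), ?_⟩
    have hc : ((φe.symm weylS : L) : H) * (h₀ : H) = (h₀ : H)⁻¹ * ((φe.symm weylS : L) : H) := by
      rw [hh₀, ← Subgroup.coe_inv, ← Subgroup.coe_mul, ← Subgroup.coe_mul, ← map_inv, ← map_mul, ← map_mul,
        weylS_dia]
    rw [map_neg, hδ, hδ, map_sub (ρ ((φe.symm weylS : L) : H)), ← act_mul ρ ((φe.symm weylS : L) : H), hc, act_mul, act_inv']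
    abel
  have hgen : AL ⊔ cj (φe.symm weylS) AL = ⊤ := by
    refine eq_top_iff.2 fun x _ => ?_
    have hR : (AL ⊔ cj (φe.symm weylS) AL).map φe.toMonoidHom = ⊤ := by
      refine mem_of_transvections (fun σ => ⟨φe.symm (upS σ), Subgroup.mem_sup_left (hamem σ), φe.apply_symm_apply _⟩)
        fun σ => ⟨φe.symm (lowS σ), Subgroup.mem_sup_right (mem_cj.2 ?_), φe.apply_symm_apply _⟩
      rw [← map_inv, ← map_mul, ← map_mul]
      have hm : (weylS : SL(2, F))⁻¹ * lowS σ * weylS = upS (-σ) := by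
        rw [mul_assoc, inv_mul_eq_iff_eq_mul]
        refine Subtype.ext ?_
        rw [Matrix.SpecialLinearGroup.coe_mul, Matrix.SpecialLinearGroup.coe_mul]
        ext i j
        fin_cases i <;> fin_cases j <;> simp [weylS, lowS, upS, Matrix.mul_apply, Fin.sum_univ_two]
      rw [hm]
      exact hamem _
    obtain ⟨y, hy, hyx⟩ := hR.ge (Subgroup.mem_top (φe x))
    exact φe.injective hyx ▸ hy
  have hcjmap : (cj (φe.symm weylS) AL).map L.subtype = cj ((φe.symm weylS : L) : H) (AL.map L.subtype) := by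
    show (AL.map (MulAut.conj _).toMonoidHom).map L.subtype = (AL.map L.subtype).map (MulAut.conj _).toMonoidHom
    rw [Subgroup.map_map, Subgroup.map_map]
    rfl
  refine ⟨{
    e := ι.comp (AddMonoidHom.single (fun _ : Fin 2 => F) 0)
    f := ι.comp (AddMonoidHom.single (fun _ : Fin 2 => F) 1)
    a := fun s => ((φe.symm (upS s) : L) : H)
    h := L.subtype.comp (φe.symm.toMonoidHom.comp diaS)
    w := ((φe.symm weylS : L) : H)
    C0 := Z
    card_F := hnat.card.trans (Subgroup.card_map_of_injective L.subtype_injective).symm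
    a_mem := fun s => Subgroup.mem_map_of_mem L.subtype (hamem s)
    a_surj := ?_
    a_add := fun s t => by rw [upS_add, map_mul, Subgroup.coe_mul]
    C0_le := fun v hv => by rw [← fx_comp]; exact hZA hv
    e_mem := ?_
    dec := ?_
    indep := ?_
    act := ?_
    h_C0 := fun μ c hc => hc (φe.symm (diaS μ)) (Subgroup.mem_top _)
    h_e := ?_
    h_f := ?_
    h_a := ?_
    w_C0 := fun c hc => hc (φe.symm weylS) (Subgroup.mem_top _)
    w_e := ?_
    w_f := ?_ }, rfl, SetLike.coe_mem _, ?_⟩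
  · rintro _ ⟨x, hx, rfl⟩
    refine ⟨(φ x).1 0 1, ?_⟩
    rw [← hup x hx, show φ x = φe x from rfl, MulEquiv.symm_apply_apply]
    rfl
  · intro s
    obtain ⟨u, hu⟩ := hg₀ s
    rw [← fx_comp]
    have hu' : ψ (u : W) 0 = s := hu
    have hd : ι (Pi.single 0 s) - (u : W) ∈ Z := (hψker _).1 (by
      rw [map_sub, hψι, sub_eq_zero]
      funext i
      fin_cases i
      · simpa using hu'.symm
      · simpa using (hfix1 _ u.2).symm)
    have := add_mem (hZA hd) u.2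
    rwa [sub_add_cancel] at this
  · intro v
    refine ⟨ψ v 0, ψ v 1, v - ι (ψ v), (hψker _).1 (by rw [map_sub, hψι, sub_self]), ?_⟩
    have he : Pi.single 0 (ψ v 0) + Pi.single 1 (ψ v 1) = ψ v := by
      funext i; fin_cases i <;> simp
    show v = ι (Pi.single 0 (ψ v 0)) + ι (Pi.single 1 (ψ v 1)) + (v - ι (ψ v))
    rw [← map_add, he, add_sub_cancel]
  · intro s r hsr
    have h1 := (hψker _).2 hsr
    change ψ (ι (Pi.single 0 s) + ι (Pi.single 1 r)) = 0 at h1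
    rw [← map_add ι, hψι] at h1
    exact ⟨by simpa using congrFun h1 0, by simpa using congrFun h1 1⟩
  · intro s r
    refine (hψker _).1 ?_
    show ψ (ρ ((φe.symm (upS s) : L) : H) (ι (Pi.single 1 r)) - ι (Pi.single 1 r) - ι (Pi.single 0 (s * r))) = 0
    rw [map_sub, map_sub, hequiv, hψι, hψι, hφs]
    funext i
    fin_cases i <;> simp [upS, Matrix.mulVec, dotProduct, Fin.sum_univ_two, mul_comm r s]
  · intro μ s
    show ρ ((φe.symm (diaS μ) : L) : H) (ι _) = ι _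
    rw [hact _ (hdia μ), hφs, diaS_val]
    congr 1
    funext i
    fin_cases i <;> simp [Matrix.mulVec, dotProduct, Fin.sum_univ_two]
  · intro μ r
    show ρ ((φe.symm (diaS μ) : L) : H) (ι _) = ι _
    rw [hact _ (hdia μ), hφs, diaS_val]
    congr 1
    funext i
    fin_cases i <;> simp [Matrix.mulVec, dotProduct, Fin.sum_univ_two]
  · intro μ s
    show ((φe.symm (diaS μ) : L) : H) * _ * ((φe.symm (diaS μ) : L) : H)⁻¹ = _
    rw [← Subgroup.coe_inv, ← Subgroup.coe_mul, ← Subgroup.coe_mul, ← map_inv, ← map_mul, ← map_mul,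
      diaS_conj_upS]
  · intro s
    show ρ ((φe.symm weylS : L) : H) (ι _) = ι _
    rw [hact _ hweyl, hφs]
    congr 1
    funext i
    fin_cases i <;> simp [weylS, Matrix.mulVec, dotProduct, Fin.sum_univ_two]
  · intro r
    show ρ ((φe.symm weylS : L) : H) (ι _) = ι _
    rw [hact _ hweyl, hφs]
    congr 1
    funext i
    fin_cases i <;> simp [weylS, Matrix.mulVec, dotProduct, Fin.sum_univ_two]
  · show AL.map L.subtype ⊔ cj ((φe.symm weylS : L) : H) (AL.map L.subtype) = L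
    rw [← hcjmap, ← Subgroup.map_sup, hgen, ← MonoidHom.range_eq_map, Subgroup.range_subtype]

end CfsgLib.LocalEven.MovesFixed
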