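import Cfsg.Agent.Lib.LocalEven.MovesFixed.Centres

/-!
Transvections over `F₂`: pairwise commuting conjugates have independent centres.
-/

set_option autoImplicit false
set_option linter.unusedSectionVars false
set_option linter.style.haveILetI false

open scoped symmDiff

namespace CfsgLib.LocalEven.MovesFixed

open CfsgLib.LocalEven.RankOneFF CfsgLib.LocalEven.SylowIn

variable {H : Type*} [Group H] [Finite H] {W : Type*} [AddCommGroup W] [Finite W]
  {ρ : H →* AddMonoid.End W} {p : ℕ} [Fact p.Prime] {T : Sylow p H} {N : Subgroup H} {A : Subgroup H}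

/-- A nontrivial element of a conjugate of `A`. -/
def Member (A : Subgroup H) (x : H) : Prop := x ≠ 1 ∧ ∃ g, x ∈ cj g A

theorem Member.zpowers {x : H} (hx : Member A x) (h2 : Nat.card A = 2) :
    ∃ g, Subgroup.zpowers x = cj g A := by
  obtain ⟨g, hg⟩ := hx.2
  refine ⟨g, Subgroup.eq_of_le_of_card_ge (by rwa [Subgroup.zpowers_le]) ?_⟩
  rw [card_cj, h2]
  exact (Subgroup.one_lt_card_iff_ne_bot _).2 fun e => hx.1 (Subgroup.zpowers_eq_bot.1 e)

theorem Member.good {x : H} (hx : Member A x) (hA : Good ρ A) (h2 : Nat.card A = 2) :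
    Good ρ (Subgroup.zpowers x) ∧ Nat.card (Subgroup.zpowers x) = 2 := by
  obtain ⟨g, hg⟩ := hx.zpowers h2
  rw [hg, card_cj]
  exact ⟨hA.cj g, h2⟩

theorem Member.zpowers_inj {x y : H} (hx : Member A x) (hy : Member A y) (h2 : Nat.card A = 2)
    (h : Subgroup.zpowers x = Subgroup.zpowers y) : x = y := by
  obtain ⟨g, hg⟩ := hx.zpowers h2
  have hc : Nat.card (cj g A) = 2 := (card_cj g A).trans h2
  obtain ⟨z, -, hz⟩ := (Nat.card_eq_two_iff' (1 : cj g A)).1 hc
  have hx' := hz ⟨x, hg ▸ Subgroup.mem_zpowers x⟩ fun e => hx.1 (congrArg Subtype.val e)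
  have hy' := hz ⟨y, hg ▸ h.symm ▸ Subgroup.mem_zpowers y⟩ fun e => hy.1 (congrArg Subtype.val e)
  exact congrArg Subtype.val (hx'.trans hy'.symm)

theorem comm_zero_or (hc : Ctx ρ T N) (hA : Good ρ A) (h2 : Nat.card A = 2) (hp : p = 2) {x : H}
    (hx : Member A x) {u : W} (hu : ρ x u - u ≠ 0) (v : W) :
    ρ x v - v = 0 ∨ ρ x v - v = ρ x u - u := by
  obtain ⟨hX, hXc⟩ := hx.good hA h2
  obtain ⟨k, hk⟩ := AddSubgroup.mem_zmultiples_iff.1
    (mem_zmultiples_comm hc.base hX (hXc.trans hp.symm) (Subgroup.mem_zpowers x) hu (Subgroup.mem_zpowers x) v)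
  have h0 : (2 : ℤ) • (ρ x u - u) = 0 := by
    rw [show (2 : ℤ) = ((p : ℕ) : ℤ) by rw [hp]; rfl, natCast_zsmul, hc.amb.exponent]
  rw [← hk, ← Int.emod_add_mul_ediv k 2, add_zsmul, mul_comm, ← smul_smul, h0, zsmul_zero, add_zero]
  rcases Int.emod_two_eq k with h | h <;> rw [h]
  · exact Or.inl (zero_zsmul _)
  · exact Or.inr (one_zsmul _)

theorem fixes_symm (hc : Ctx ρ T N) (hA : Good ρ A) (h2 : Nat.card A = 2) (hp : p = 2) {x y : H}
    (hx : Member A x) (hy : Member A y) {u : W} (v : W) (hu : ρ x u - u ≠ 0)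
    (h : ρ y (ρ x u - u) = ρ x u - u) : ρ x (ρ y v - v) = ρ y v - v := by
  obtain ⟨hX, hXc⟩ := hx.good hA h2
  obtain ⟨hY, -⟩ := hy.good hA h2
  by_cases hxy : x = y
  · subst hxy
    exact hX.off.quad x (Subgroup.mem_zpowers x) x (Subgroup.mem_zpowers x) v
  have hmem : ρ x u - u ∈ fx ρ (Subgroup.zpowers y) := (mem_fx_zpowers ρ).2 h
  have hcom := comm_of_comm_mem hc.base hX hY fun a ha w =>
    (AddSubgroup.zmultiples_le_of_mem hmem)
      (mem_zmultiples_comm hc.base hX (hXc.trans hp.symm) (Subgroup.mem_zpowers x) hu ha w)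
  have h' := (comm_pair hc.base hY hX (fun e => hxy (hy.zpowers_inj hx h2 e).symm)
    fun b hb a ha => (hcom a ha b hb).symm).2 y (Subgroup.mem_zpowers y) v
  exact (mem_fx_zpowers ρ).1 h'

/-- Sums of centres of pairwise commuting conjugates do not vanish. -/
theorem sum_centres_ne_zero (hc : Ctx ρ T N) (hA : Good ρ A) (h2 : Nat.card A = 2) (u : H → W) :
    ∀ s : Finset H, s.Nonempty → (∀ x ∈ s, Member A x ∧ ρ x (u x) - u x ≠ 0) →
      (∀ x ∈ s, ∀ y ∈ s, x * y = y * x) → ∑ x ∈ s, (ρ x (u x) - u x) ≠ 0 := by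
  classical
  have hp : p = 2 := by
    obtain ⟨k, hk⟩ := IsPGroup.iff_card.1 (hA.isPGroup hc.amb)
    rw [h2] at hk
    have hk0 : k ≠ 0 := by rintro rfl; simp at hk
    exact (Nat.prime_dvd_prime_iff_eq Fact.out Nat.prime_two).1 (hk ▸ dvd_pow_self p hk0)
  intro s
  induction s using Finset.strongInduction with
  | H s ih =>
    intro hne hs hcom hsum
    set e : H → W := fun x => ρ x (u x) - u x with he
    have hind : ∀ t ⊆ s, t ≠ s → ∑ x ∈ t, e x = 0 → t = ∅ := fun t hts htne h0 => by
      by_contra htn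
      exact ih t (lt_of_le_of_ne hts htne) (Finset.nonempty_iff_ne_empty.2 htn) (fun x hx => hs x (hts hx))
        (fun x hx y hy => hcom x (hts hx) y (hts hy)) h0
    have hval : ∀ x ∈ s, ∀ v, ρ x v - v = if ρ x v = v then 0 else e x := fun x hx v => by
      split_ifs with h
      · rw [h, sub_self]
      · exact (comm_zero_or hc hA h2 hp (hs x hx).1 (hs x hx).2 v).resolve_left fun h0 => h (sub_eq_zero.1 h0)
    have hfix : ∀ x ∈ s, ∀ y ∈ s, ρ x (e y) = e y := by
      intro x hx y hy
      obtain ⟨hX, -⟩ := (hs x hx).1.good hA h2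
      by_cases hxy : x = y
      · subst hxy
        exact hX.off.quad x (Subgroup.mem_zpowers x) x (Subgroup.mem_zpowers x) _
      obtain ⟨hY, -⟩ := (hs y hy).1.good hA h2
      have h := (comm_pair hc.base hY hX (fun h => hxy ((hs y hy).1.zpowers_inj (hs x hx).1 h2 h).symm) ?_).2
        y (Subgroup.mem_zpowers y) (u y)
      · exact (mem_fx_zpowers ρ).1 h
      · intro b hb a ha
        obtain ⟨i, rfl⟩ := Subgroup.mem_zpowers_iff.1 hb
        obtain ⟨j, rfl⟩ := Subgroup.mem_zpowers_iff.1 ha
        exact ((Commute.zpow_zpow (hcom y hy x hx) i j) :)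
    obtain ⟨k, hk⟩ := hne
    set t := s.erase k with ht
    -- the last centre functional depends on the others
    have hdep : ∀ v, (∀ x ∈ t, ρ x v = v) → ρ k v = v := by
      have h11 : (1 : ZMod 2) + 1 = 0 := rfl
      have hadd : ∀ x ∈ s, ∀ v w : W, (if ρ x (v + w) = v + w then (0 : ZMod 2) else 1) =
          (if ρ x v = v then (0 : ZMod 2) else 1) + (if ρ x w = w then (0 : ZMod 2) else 1) := by
        intro x hx v w
        have hsum' : ρ x (v + w) - (v + w) = (ρ x v - v) + (ρ x w - w) := by rw [map_add, add_sub_add_comm]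
        by_cases hv : ρ x v = v <;> by_cases hw : ρ x w = w
        · simp [map_add, hv, hw]
        · rw [if_pos hv, if_neg hw, if_neg (by rw [map_add, hv]; exact fun h => hw (add_left_cancel h)), zero_add]
        · rw [if_neg hv, if_pos hw, if_neg (by rw [map_add, hw]; exact fun h => hv (add_right_cancel h)), add_zero]
        · rw [if_neg hv, if_neg hw, if_pos (sub_eq_zero.1 ?_), h11]
          rw [hsum', hval x hx v, hval x hx w, if_neg hv, if_neg hw, ← two_nsmul, ← hp, hc.amb.exponent]
      let φ : W →+ ZMod 2 :=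
        { toFun := fun v => ∑ x ∈ s, if ρ x v = v then (0 : ZMod 2) else 1
          map_zero' := by simp
          map_add' := fun v w => by rw [← Finset.sum_add_distrib]; exact Finset.sum_congr rfl fun x hx => hadd x hx v w }
      have hφ : ∀ z ∈ centres ρ A, φ z = 0 := by
        rintro _ ⟨g, a, ha, w, rfl⟩
        set z := g * a * g⁻¹ with hz
        by_cases h0 : ρ z w - w = 0
        · rw [h0, map_zero]
        have hzm : Member A z := ⟨fun h1 => h0 (by rw [h1, RankOneFF.act_one, sub_self]), g, conj_mem_cj g ha⟩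
        let ψ : W →+ ZMod 2 :=
          { toFun := fun v => if ρ z v = v then (0 : ZMod 2) else 1
            map_zero' := by simp
            map_add' := fun v v' => by
              by_cases hv : ρ z v = v <;> by_cases hv' : ρ z v' = v'
              · simp [map_add, hv, hv']
              · rw [if_pos hv, if_neg hv', if_neg (by rw [map_add, hv]; exact fun h => hv' (add_left_cancel h)), zero_add]
              · rw [if_neg hv, if_pos hv', if_neg (by rw [map_add, hv']; exact fun h => hv (add_right_cancel h)), add_zero]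
              · rw [if_neg hv, if_neg hv', if_pos (sub_eq_zero.1 ?_), h11]
                rw [map_add, add_sub_add_comm,
                  (comm_zero_or hc hA h2 hp hzm h0 v).resolve_left fun h => hv (sub_eq_zero.1 h),
                  (comm_zero_or hc hA h2 hp hzm h0 v').resolve_left fun h => hv' (sub_eq_zero.1 h),
                  ← two_nsmul, ← hp, hc.amb.exponent] }
        show (∑ x ∈ s, if ρ x (ρ z w - w) = ρ z w - w then (0 : ZMod 2) else 1) = 0
        have hswap : ∀ x ∈ s, (if ρ x (ρ z w - w) = ρ z w - w then (0 : ZMod 2) else 1) = ψ (e x) := by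
          intro x hx
          show _ = if ρ z (e x) = e x then (0 : ZMod 2) else 1
          refine if_congr ⟨fun h => ?_, fun h => ?_⟩ rfl rfl
          · exact fixes_symm hc hA h2 hp hzm (hs x hx).1 (u x) h0 h
          · exact fixes_symm hc hA h2 hp (hs x hx).1 hzm w (hs x hx).2 h
        rw [Finset.sum_congr rfl hswap, ← map_sum, hsum, map_zero]
      have hφ0 : ∀ v, φ v = 0 := fun v => by
        have h := ((span_centres hc hA).ge.trans ((AddSubgroup.closure_le φ.ker).2 hφ)) (AddSubgroup.mem_top v)
        exact h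
      intro v hv
      by_contra hkv
      have h := hφ0 v
      change (∑ x ∈ s, if ρ x v = v then (0 : ZMod 2) else 1) = 0 at h
      rw [← Finset.add_sum_erase s _ hk, if_neg hkv, Finset.sum_eq_zero fun x hx => if_pos (hv x hx)] at h
      exact (one_ne_zero : (1 : ZMod 2) ≠ 0) (by simpa using h)
    set C := fx ρ (Subgroup.closure (t : Set H)) with hC
    have hmemC : ∀ v, v ∈ C ↔ ∀ x ∈ t, ρ x v = v := fun v => by
      rw [hC, mem_fx_iff_le, Subgroup.closure_le]
      exact Iff.rfl
    have hindex : ∀ r ⊆ s, Nat.card W ≤ 2 ^ r.card * Nat.card (fx ρ (Subgroup.closure (r : Set H))) := by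
      intro r
      induction r using Finset.induction_on with
      | empty =>
        intro _
        rw [Finset.coe_empty, Subgroup.closure_empty, Finset.card_empty, pow_zero, one_mul]
        exact Nat.card_le_card_of_injective (fun v : W => (⟨v, fun a ha => by
          rw [(Subgroup.mem_bot).1 ha, RankOneFF.act_one]⟩ : fx ρ (⊥ : Subgroup H))) fun a b h => congrArg Subtype.val h
      | insert x r hxr ihr =>
        intro hsub
        rw [Finset.coe_insert, Set.insert_eq, Subgroup.closure_union, ← Subgroup.zpowers_eq_closure, fx_sup,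
          Finset.card_insert_of_notMem hxr, pow_succ]
        obtain ⟨hX, hXc⟩ := (hs x (hsub (Finset.mem_insert_self x r))).1.good hA h2
        have h1 := ihr fun y hy => hsub (Finset.mem_insert_of_mem hy)
        have h3 := card_sup_inf (fx ρ (Subgroup.zpowers x)) (fx ρ (Subgroup.closure (r : Set H)))
        have hle : Nat.card (fx ρ (Subgroup.zpowers x) ⊔ fx ρ (Subgroup.closure (r : Set H)) : AddSubgroup W) ≤
            Nat.card W := Nat.card_le_card_of_injective _ Subtype.val_injective
        have hexact := hX.exact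
        rw [hXc] at hexact
        refine h1.trans (Nat.le_of_mul_le_mul_left ?_ (Nat.card_pos (α := fx ρ (Subgroup.zpowers x))))
        calc Nat.card (fx ρ (Subgroup.zpowers x)) * (2 ^ r.card * Nat.card (fx ρ (Subgroup.closure (r : Set H))))
            = 2 ^ r.card * (Nat.card (fx ρ (Subgroup.zpowers x)) * Nat.card (fx ρ (Subgroup.closure (r : Set H)))) := by
              ring
          _ ≤ 2 ^ r.card * (Nat.card W * Nat.card (fx ρ (Subgroup.zpowers x) ⊓
                fx ρ (Subgroup.closure (r : Set H)) : AddSubgroup W)) :=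
              Nat.mul_le_mul_left _ (h3 ▸ Nat.mul_le_mul_right _ hle)
          _ = _ := by rw [hexact]; ring
    have hchain : ∀ x ∈ s, x ∈ chain ρ C := by
      intro x hx
      refine ⟨fun c hc' => ?_, fun v => ?_⟩
      · by_cases hxk : x = k
        · exact hxk ▸ hdep c ((hmemC c).1 hc')
        · exact (hmemC c).1 hc' x (Finset.mem_erase.2 ⟨hxk, hx⟩)
      · rw [hval x hx v, hmemC]
        intro y hy
        split_ifs
        · exact map_zero _
        · exact hfix y (Finset.mem_of_mem_erase hy) x hx
    have hprod : ∀ r ⊆ s, ∃ g : chain ρ C, ∀ v, ρ (g : H) v - v = ∑ x ∈ r, (ρ x v - v) := by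
      intro r
      induction r using Finset.induction_on with
      | empty =>
        intro _
        exact ⟨1, fun v => by rw [Subgroup.coe_one, RankOneFF.act_one, sub_self, Finset.sum_empty]⟩
      | insert x r hxr ihr =>
        intro hsub
        obtain ⟨g, hg⟩ := ihr fun y hy => hsub (Finset.mem_insert_of_mem hy)
        exact ⟨⟨x * g, mul_mem (hchain x (hsub (Finset.mem_insert_self x r))) g.2⟩, fun v => by
          rw [Finset.sum_insert hxr, ← hg, chain_sub (hchain x (hsub (Finset.mem_insert_self x r))) g.2]⟩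
    choose g hg using hprod
    have hinj : Function.Injective fun r : s.powerset => g r.1 (Finset.mem_powerset.1 r.2) := by
      rintro ⟨r, hr⟩ ⟨r', hr'⟩ heq
      rw [Finset.mem_powerset] at hr hr'
      refine Subtype.ext ?_
      by_contra hne'
      change r ≠ r' at hne'
      set D := r ∆ r' with hD
      have hDs : D ⊆ s := by
        intro x hx
        rcases Finset.mem_symmDiff.1 hx with h | h
        exacts [hr h.1, hr' h.1]
      obtain ⟨j, hj⟩ : D.Nonempty := Finset.nonempty_iff_ne_empty.2 fun h => hne' (symmDiff_eq_bot.1 h)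
      have hz : ∀ v, ∑ x ∈ D.filter (fun x => ρ x v ≠ v), e x = 0 := by
        intro v
        have h1 : ∑ x ∈ r, (ρ x v - v) = ∑ x ∈ r', (ρ x v - v) := by
          rw [← hg r hr, ← hg r' hr', show g r hr = g r' hr' from heq]
        have h3 : ∑ x ∈ D, (ρ x v - v) = 0 := by
          rw [← Finset.sum_inter_add_sum_sdiff r r', ← Finset.sum_inter_add_sum_sdiff r' r,
            Finset.inter_comm r' r, add_right_inj] at h1
          rw [hD, symmDiff_def, Finset.sup_eq_union, Finset.sum_union disjoint_sdiff_sdiff, ← h1, ← two_nsmul,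
            ← hp, hc.amb.exponent]
        rw [← h3, Finset.sum_filter]
        refine Finset.sum_congr rfl fun x hx => ?_
        rw [hval x (hDs hx) v, ite_not]
      have hcases : ∀ v, D.filter (fun x => ρ x v ≠ v) = s ∨ D.filter (fun x => ρ x v ≠ v) = ∅ := fun v =>
        or_iff_not_imp_left.2 fun h => hind _ ((Finset.filter_subset _ _).trans hDs) h (hz v)
      obtain ⟨hJ, -⟩ := (hs j (hDs hj)).1.good hA h2
      have hDeq : D = s := by
        refine Finset.Subset.antisymm hDs ?_
        rcases hcases (u j) with h | h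
        · exact h ▸ Finset.filter_subset _ _
        · exact absurd (sub_eq_zero.2 (by_contra fun hne2 =>
            Finset.notMem_empty j (h ▸ Finset.mem_filter.2 ⟨hj, hne2⟩))) (hs j (hDs hj)).2
      obtain ⟨k', hk', hkk'⟩ : ∃ k' ∈ s, k' ≠ k := by
        by_contra hall
        push Not at hall
        have hs1 : s = {k} := Finset.eq_singleton_iff_unique_mem.2 ⟨hk, hall⟩
        rw [hs1, Finset.sum_singleton] at hsum
        exact (hs k hk).2 hsum
      obtain ⟨hK, -⟩ := (hs k hk).1.good hA h2
      obtain ⟨hK', -⟩ := (hs k' hk').1.good hA h2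
      refine hkk' ((hs k' hk').1.zpowers_inj (hs k hk).1 h2 (hK'.eq_of_fx_eq hc.base hK (AddSubgroup.ext fun v => ?_)))
      rw [mem_fx_zpowers, mem_fx_zpowers]
      rcases hcases v with h | h
      · exact iff_of_false (Finset.mem_filter.1 (h.ge hk')).2 (Finset.mem_filter.1 (h.ge hk)).2
      · rw [hDeq, Finset.filter_eq_empty_iff] at h
        exact iff_of_true (not_not.1 (h hk')) (not_not.1 (h hk))
    have hcard : 2 ^ s.card ≤ Nat.card (chain ρ C) := by
      refine le_trans ?_ (Nat.card_le_card_of_injective _ hinj)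
      rw [Nat.card_eq_fintype_card, Fintype.card_coe, Finset.card_powerset]
    have h1 := (card_chain hc.base C).trans (hindex t (Finset.erase_subset k s))
    have h3 : 2 ^ s.card ≤ 2 ^ t.card := hcard.trans (Nat.le_of_mul_le_mul_right h1 Nat.card_pos)
    exact absurd h3 (not_le.2 (Nat.pow_lt_pow_right (by norm_num) (Finset.card_erase_lt_of_mem hk)))

end CfsgLib.LocalEven.MovesFixed
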