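import Cfsg.Agent.Lib.LocalEven.MovesFixed.Frame
import Cfsg.Agent.Lib.FusionSystem.CentralTorus.Climb

/-!
Strict quadratic offenders are good, lie in natural `SL₂(F)` subgroups, and no quadratic group is an
over-offender.
-/

set_option autoImplicit false
set_option linter.unusedSectionVars false
set_option linter.style.haveILetI false

open scoped MatrixGroups

namespace CfsgLib.LocalEven.MovesFixed

open CfsgLib.LocalEven.RankOneFF CfsgLib.LocalEven.SylowIn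

variable {H : Type*} [Group H] [Finite H] {W : Type*} [AddCommGroup W] [Finite W] {p : ℕ} [Fact p.Prime]
  {ρ : H →* AddMonoid.End W} {T : Sylow p H} {N : Subgroup H}

theorem isPGroup_subgroupOf {A L : Subgroup H} (h : IsPGroup p A) : IsPGroup p (A.subgroupOf L) :=
  h.comap_of_injective L.subtype L.subtype_injective

theorem Base.stab_le (hc : Base ρ T N) {v : W} (hv : v ∈ fx ρ (T : Subgroup H))
    (hv0 : v ∉ fx ρ (⊤ : Subgroup H)) : stab ρ v ≤ N :=
  hc.overgroup _ ((mem_fx_iff_le ρ).1 hv) fun e => hv0 ((mem_fx_iff_le ρ).2 e.ge)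

/-- The conclusion for one offender. -/
def Nice (ρ : H →* AddMonoid.End W) (A : Subgroup H) : Prop :=
  Good ρ A ∧ (3 ≤ Nat.card A → ∃ (F : Type) (_ : Field F) (_ : Fintype F), Nonempty (Frame ρ A F))

theorem Nice.cj {A : Subgroup H} (h : Nice ρ A) (g : H) : Nice ρ (RankOneFF.cj g A) := by
  refine ⟨h.1.cj g, fun h3 => ?_⟩
  rw [card_cj] at h3
  obtain ⟨F, iF, iFF, ⟨S⟩⟩ := h.2 h3
  exact ⟨F, iF, iFF, ⟨S.map g⟩⟩

/-- The coordinates of an isolated offender with at least three elements. -/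
def LinearBlock (ρ : H →* AddMonoid.End W) (A L : Subgroup H) : Prop :=
  ∃ (F : Type) (_ : Field F) (_ : Fintype F) (S : Frame ρ A F),
    S.C0 = fx ρ L ∧ S.w ∈ L ∧ A ⊔ RankOneFF.cj S.w A = L ∧ ∃ (φ : L →* SL(2, F)) (ψ : W →+ (Fin 2 → F)),
      Function.Bijective φ ∧ Function.Surjective ψ ∧ (∀ v, ψ v = 0 ↔ v ∈ fx ρ L) ∧
      ∀ (k : L) (v : W), ψ (ρ (k : H) v) = ((φ k : SL(2, F)) : Matrix (Fin 2) (Fin 2) F).mulVec (ψ v)

theorem LinearBlock.cj {A L : Subgroup H} (h : LinearBlock ρ A L) (g : H) :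
    LinearBlock ρ (RankOneFF.cj g A) (RankOneFF.cj g L) := by
  obtain ⟨F, iF, iFF, S, hS, hwL, hL, φ, ψ, hφ, hψ, hψ0, hψe⟩ := h
  let e : RankOneFF.cj g L ≃* L :=
    ((L.equivMapOfInjective (MulAut.conj g).toMonoidHom (MulAut.conj g).injective)).symm
  have he : ∀ k : RankOneFF.cj g L, (k : H) = g * ((e k : L) : H) * g⁻¹ := fun k => by
    conv_lhs => rw [← e.symm_apply_apply k]
    rfl
  refine ⟨F, iF, iFF, S.map g, ?_, conj_mem_cj g hwL, ?_, φ.comp e.toMonoidHom, ψ.comp (ρ g⁻¹),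
    hφ.comp e.bijective, hψ.comp fun w => ⟨ρ g w, act_inv ρ g w⟩, fun v => (hψ0 _).trans act_fx_cj_iff.symm,
    fun k v => ?_⟩
  · show S.C0.map (ρ g) = _
    rw [hS]
    ext v
    exact ⟨fun ⟨w, hw, hwv⟩ => hwv ▸ act_mem_fx ρ g hw,
      fun hv => ⟨ρ g⁻¹ v, act_fx_cj_iff.1 hv, act_inv' ρ g v⟩⟩
  · show _ ⊔ RankOneFF.cj (g * S.w * g⁻¹) _ = _
    rw [← hL, cj_sup, cj_cj, cj_cj, inv_mul_cancel_right]
  · show ψ (ρ g⁻¹ (ρ (k : H) v)) = ((φ (e k)).1).mulVec (ψ (ρ g⁻¹ v))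
    rw [← hψe, ← act_mul, he k, ← act_mul]
    congr 3
    group

/-- An isolated offender is good and lies in a linear block. -/
theorem block_of_isolated (hc : Base ρ T N) {A L : Subgroup H} (hoff : Off ρ A) (hst : Strict ρ A) (hAL : A ≤ L)
    (hLN : ¬ L ≤ N)
    (hloc : ∀ R : Subgroup H, R ≤ L → IsPGroup p R → A ≤ R → R ≤ N ∧ L ⊓ Subgroup.normalizer (R : Set H) ≤ N)
    (hmin : ∀ L' : Subgroup H, L' ≤ L → A ≤ L' → ¬ L' ≤ N → L' = L) :
    Good ρ A ∧ (∃ (F : Type) (_ : Field F) (_ : Fintype F), Natural (ρ.comp L.subtype) ⊤ (A.subgroupOf L) F) ∧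
      (3 ≤ Nat.card A → LinearBlock ρ A L) := by
  classical
  have hAp := hoff.isPGroup hc.amb
  set M : Subgroup L := N.subgroupOf L with hM
  have hMtop : M ≠ ⊤ := fun e => hLN (Subgroup.subgroupOf_eq_top.1 e)
  obtain ⟨TL, hATL⟩ := IsPGroup.exists_le_sylow (isPGroup_subgroupOf (L := L) hAp)
  set R := (TL : Subgroup L).map L.subtype with hR
  have hRL : R ≤ L := Subgroup.map_subtype_le _
  have hRp : IsPGroup p R := TL.2.map _
  have hAR : A ≤ R := fun a ha => ⟨⟨a, hAL ha⟩, hATL ha, rfl⟩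
  obtain ⟨hRN, hRNN⟩ := hloc R hRL hRp hAR
  have hTM : (TL : Subgroup L) ≤ M := fun x hx => hRN ⟨x, hx, rfl⟩
  have hnormTM : ∀ g : L, g ∈ Subgroup.normalizer ((TL : Subgroup L) : Set L) → g ∈ M := fun g hg =>
    hRNN ⟨g.2, Subgroup.le_normalizer_map L.subtype ⟨g, hg, rfl⟩⟩
  have hout : ∀ x : L, x ∉ M → ¬ A.map (MulAut.conj (x : H)).toMonoidHom ≤ N := by
    intro x hx hle
    set A' := (A.map (MulAut.conj (x : H)).toMonoidHom).subgroupOf L with hA'
    have hA'M : A' ≤ M := fun y hy => hle hy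
    have hA'p : IsPGroup p A' := isPGroup_subgroupOf (hAp.map _)
    obtain ⟨P', hP', hle'⟩ := exists_isSylowIn M hA'M hA'p
    have hTLsyl : IsSylowIn p (TL : Subgroup L) M := ⟨hTM, TL.2, fun U _ hU hle => TL.3 hU hle⟩
    obtain ⟨m, hm, he⟩ := hTLsyl.conjugate hP'
    set g := m⁻¹ * x with hg
    have hgT : A.subgroupOf L ≤ (TL : Subgroup L).map (MulAut.conj g⁻¹).toMonoidHom := by
      intro a ha
      have h1 : x * a * x⁻¹ ∈ P' := hle' ⟨a, ha, rfl⟩
      rw [he] at h1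
      obtain ⟨t, ht, hte⟩ := h1
      refine ⟨t, ht, ?_⟩
      show g⁻¹ * t * g⁻¹⁻¹ = a
      have hte' : m * t * m⁻¹ = x * a * x⁻¹ := hte
      calc g⁻¹ * t * g⁻¹⁻¹ = x⁻¹ * (m * t * m⁻¹) * x := by rw [hg]; group
        _ = a := by rw [hte']; group
    set R' := ((TL : Subgroup L).map (MulAut.conj g⁻¹).toMonoidHom).map L.subtype with hR'
    have hAR' : A ≤ R' := fun a ha => ⟨⟨a, hAL ha⟩, hgT ha, rfl⟩
    obtain ⟨hR'N, -⟩ := hloc R' (Subgroup.map_subtype_le _) ((TL.2.map _).map _) hAR'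
    have hT'M : (TL : Subgroup L).map (MulAut.conj g⁻¹).toMonoidHom ≤ M := fun y hy => hR'N ⟨y, hy, rfl⟩
    have hT'syl : IsSylowIn p ((TL : Subgroup L).map (MulAut.conj g⁻¹).toMonoidHom) M :=
      ⟨hT'M, TL.2.map _, fun U _ hU hle'' => (TL.mapSurjective (MulAut.conj g⁻¹).surjective).3 hU hle''⟩
    obtain ⟨m', hm', he'⟩ := hTLsyl.conjugate hT'syl
    have hn : m'⁻¹ * g⁻¹ ∈ Subgroup.normalizer ((TL : Subgroup L) : Set L) := by
      rw [← map_conj_eq_iff, ← map_conj_conj, he', map_conj_conj, inv_mul_cancel, map_conj_one]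
    have h3 := hnormTM _ hn
    refine hx ?_
    have hgM : g ∈ M := by
      have := mul_mem hm' h3
      rw [mul_inv_cancel_left] at this
      exact inv_inv g ▸ inv_mem this
    have := mul_mem hm hgM
    rwa [hg, mul_inv_cancel_left] at this
  set AL := A.subgroupOf L with hALdef
  have hmapA : AL.map L.subtype = A := Subgroup.map_subgroupOf_eq_of_le hAL
  have hcjmap : ∀ (x : L) (B : Subgroup L),
      (RankOneFF.cj x B).map L.subtype = RankOneFF.cj (x : H) (B.map L.subtype) := fun x B => by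
    show (B.map (MulAut.conj x).toMonoidHom).map L.subtype = (B.map L.subtype).map (MulAut.conj (x : H)).toMonoidHom
    rw [Subgroup.map_map, Subgroup.map_map]
    rfl
  have hgen : ∀ x : L, x ∉ M → AL ⊔ RankOneFF.cj x AL = ⊤ := by
    intro x hx
    refine Subgroup.map_injective L.subtype_injective ?_
    rw [Subgroup.map_sup, hmapA, hcjmap, hmapA, ← MonoidHom.range_eq_map, Subgroup.range_subtype]
    exact hmin _ (sup_le hAL (cj_le hAL x.2)) le_sup_left fun h => hout x hx (le_sup_right.trans h)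
  have hmax : ∀ K : Subgroup L, (TL : Subgroup L) ≤ K → K ≠ ⊤ → K ≤ M := by
    intro K hTK hK
    by_contra hKM
    obtain ⟨x, hxK, hxM⟩ := SetLike.not_le_iff_exists.1 hKM
    exact hK (eq_top_iff.2 ((hgen x hxM).ge.trans (sup_le (hATL.trans hTK) (cj_le (hATL.trans hTK) hxK))))
  have hamb : Ambient (ρ.comp L.subtype) p :=
    ⟨hc.amb.faithful.comp L.subtype_injective, hc.amb.exponent⟩
  have hcardAL : Nat.card AL = Nat.card A := Nat.card_congr (Subgroup.subgroupOfEquivOfLe hAL).toEquiv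
  have hoffL : Off (ρ.comp L.subtype) AL := by
    refine ⟨fun e => hoff.ne_bot ?_, fun a ha b hb v => hoff.quad _ ha _ hb v, ?_⟩
    · rw [← hmapA, e, Subgroup.map_bot]
    · rw [fx_comp, hmapA, hcardAL]
      exact hoff.off
  -- a moved vector
  obtain ⟨w₀, hw₀T', hw₀⟩ := hc.moved
  have hTsyl : IsSylowIn p (T : Subgroup H) N := ⟨hc.le, T.2, fun U _ hU hle => T.3 hU hle⟩
  obtain ⟨R₁, hR₁, hRR₁⟩ := exists_isSylowIn N hRN hRp
  obtain ⟨u, hu, hue⟩ := hTsyl.conjugate hR₁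
  have hmoved : ∃ v ∈ fx (ρ.comp L.subtype) (TL : Subgroup L),
      v ∉ fx (ρ.comp L.subtype) (⊤ : Subgroup L) := by
    refine ⟨ρ u w₀, ?_, fun hmem => ?_⟩
    · rw [fx_comp]
      exact fx_anti ρ (hRR₁.trans hue.le) (act_mem_fx ρ u hw₀T')
    · rw [fx_comp, ← MonoidHom.range_eq_map, Subgroup.range_subtype] at hmem
      refine hLN fun x hx => ?_
      have hx0 : ρ x (ρ u w₀) = ρ u w₀ := hmem x hx
      have h1 : u⁻¹ * x * u ∈ N := hc.stab_le hw₀T' hw₀ (by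
        show ρ (u⁻¹ * x * u) w₀ = w₀
        rw [act_mul, act_mul, hx0, act_inv])
      have := mul_mem (mul_mem hu h1) (inv_mem hu)
      simpa [mul_assoc] using this
  have hpair : MinPair (ρ.comp L.subtype) M AL TL := by
    refine ⟨hoffL, fun B hB h0 h1 => ?_, hATL.trans hTM, hTM, hMtop, hmax, fun hn => ?_, hgen, hmoved⟩
    · rw [fx_comp, fx_comp, hmapA, hcardAL, Nat.card_congr (B.equivMapOfInjective L.subtype L.subtype_injective).toEquiv]
      refine hst _ (hmapA ▸ Subgroup.map_mono hB)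
        (fun e => h0 ((Subgroup.map_eq_bot_iff_of_injective _ L.subtype_injective).1 e))
        (fun e => h1 (Subgroup.map_injective L.subtype_injective (e.trans hmapA.symm)))
    · refine hMtop (eq_top_iff.2 fun y _ => hnormTM y ?_)
      rw [Subgroup.normalizer_eq_top]
      exact Subgroup.mem_top y
  obtain ⟨g₀, -, hg₀⟩ := SetLike.exists_of_lt hMtop.lt_top
  obtain ⟨hcard, hsup⟩ := hpair.pair_equalities hamb hg₀
  have hgood : Good ρ A := by
    refine ⟨hoff, ?_, fun a ha ha1 v hv => ?_⟩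
    · have h := card_sup_inf (fx (ρ.comp L.subtype) AL) (fx (ρ.comp L.subtype) (RankOneFF.cj g₀ AL))
      rw [hsup, hpair.pair_fx hg₀, card_fx_cj, AddSubgroup.card_top] at h
      have e : Nat.card (fx (ρ.comp L.subtype) AL) = Nat.card (fx ρ A) := by rw [fx_comp, hmapA]
      refine Nat.eq_of_mul_eq_mul_right (Nat.card_pos (α := fx (ρ.comp L.subtype) (⊤ : Subgroup L))) ?_
      rw [h]
      conv_lhs => arg 2; rw [hcard]
      rw [← e, hcardAL]
      ring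
    · obtain ⟨x, hx, y, hy, rfl⟩ := AddSubgroup.mem_sup.1 (hsup.symm ▸ AddSubgroup.mem_top v :
        v ∈ fx (ρ.comp L.subtype) AL ⊔ fx (ρ.comp L.subtype) (RankOneFF.cj g₀ AL))
      rw [fx_comp, hmapA] at hx
      refine add_mem hx ?_
      by_contra hyA
      rw [map_add, hx a ha] at hv
      have hyA' : y ∉ fx (ρ.comp L.subtype) AL := by rwa [fx_comp, hmapA]
      have hay : ρ.comp L.subtype ⟨a, hAL ha⟩ y - y = 0 := sub_eq_zero.2 (add_left_cancel hv)
      have := hpair.free_mem hamb hg₀ (a := (⟨a, hAL ha⟩ : L)) ha hy hyA' (by rw [hay]; exact zero_mem _)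
      exact ha1 (congrArg Subtype.val this)
  obtain ⟨F, iF, iFF, hnat⟩ := exists_natural_of_block hamb (hpair.block hamb hg₀)
  refine ⟨hgood, ⟨F, iF, iFF, hnat⟩, fun h3 => ?_⟩
  obtain ⟨S, hS, hSw, hSgen⟩ := exists_frame hoffL.ne_bot hcard hnat (hcardAL ▸ h3)
  rw [fx_comp, ← MonoidHom.range_eq_map, Subgroup.range_subtype] at hS
  have hS' : ∀ B : Subgroup H, AL.map L.subtype = B → ∃ S' : Frame ρ B F, S'.C0 = fx ρ L ∧
      S'.w ∈ L ∧ B ⊔ RankOneFF.cj S'.w B = L := by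
    rintro _ rfl
    exact ⟨S, hS, hSw, hSgen⟩
  obtain ⟨S', hS', hSw', hLeq⟩ := hS' A hmapA
  obtain ⟨φ₀, ψ, hφ₀, hψ, hψ0, hψe⟩ := hnat.equiv
  refine ⟨F, iF, iFF, S', hS', hSw', hLeq, φ₀.comp (Subgroup.topEquiv (G := L)).symm.toMonoidHom, ψ,
    hφ₀.comp (Subgroup.topEquiv (G := L)).symm.bijective, hψ, fun v => ?_, fun k v => hψe ⟨k, Subgroup.mem_top k⟩ v⟩
  rw [hψ0, fx_comp, ← MonoidHom.range_eq_map, Subgroup.range_subtype]

/-- Strict quadratic offenders are nice. -/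
theorem nice_of_strict (hc : Base ρ T N) {A : Subgroup H} (hoff : Off ρ A) (hst : Strict ρ A) : Nice ρ A := by
  by_contra hbad
  let Q : Subgroup H → Prop := fun B => Off ρ B ∧ Strict ρ B ∧ ¬ Nice ρ B
  have hQ : ∀ (g : H) B, Q B → Q (B.map (MulAut.conj g).toMonoidHom) := fun g B hB =>
    ⟨hB.1.cj ρ g, hB.2.1.cj g, fun h => hB.2.2 (by
      have := h.cj g⁻¹
      rwa [cj_cj, inv_mul_cancel, cj_one] at this)⟩
  obtain ⟨P, hP⟩ := (hoff.isPGroup hc.amb).exists_le_sylow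
  obtain ⟨g, hg⟩ := MulAction.exists_smul_eq H P T
  have hex : ∃ B ≤ (T : Subgroup H), Q B :=
    ⟨_, hg ▸ Subgroup.map_mono hP, hQ g A ⟨hoff, hst, hbad⟩⟩
  obtain ⟨B, L, hB, hBL, hLN, hloc, hmin⟩ := CfsgLib.Fsys.CentralTorus.exists_isolated hQ T N hc.ne_top
    hc.overgroup hc.core (fun B hB => hB.1.ne_bot) hex
  obtain ⟨hg, -, hb⟩ := block_of_isolated hc hB.1 hB.2.1 hBL hLN hloc hmin
  refine hB.2.2 ⟨hg, fun h3 => ?_⟩
  obtain ⟨F, iF, iFF, S, -⟩ := hb h3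
  exact ⟨F, iF, iFF, ⟨S⟩⟩

/-- A good offender in the Sylow subgroup whose block is not in `N`. -/
theorem exists_block (hc : Base ρ T N) {A₀ : Subgroup H} (hA₀ : Good ρ A₀) :
    ∃ A ≤ (T : Subgroup H), ∃ L, Good ρ A ∧ A ≤ L ∧ ¬ L ≤ N ∧ (3 ≤ Nat.card A → LinearBlock ρ A L) := by
  obtain ⟨P, hP⟩ := (hA₀.isPGroup hc.amb).exists_le_sylow
  obtain ⟨g, hg⟩ := MulAction.exists_smul_eq H P T
  have hex : ∃ B ≤ (T : Subgroup H), Good ρ B := ⟨_, hg ▸ Subgroup.map_mono hP, hA₀.cj g⟩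
  obtain ⟨B, L, hB, hBL, hLN, hloc, hmin⟩ := CfsgLib.Fsys.CentralTorus.exists_isolated
    (fun g _ h => h.cj g) T N hc.ne_top hc.overgroup hc.core (fun B hB => hB.off.ne_bot) hex
  obtain ⟨hBN, -⟩ := hloc B hBL (hB.isPGroup hc.amb) le_rfl
  obtain ⟨R, hR, hBR⟩ := exists_isSylowIn N hBN (hB.isPGroup hc.amb)
  obtain ⟨u, hu, rfl⟩ :=
    IsSylowIn.conjugate (⟨hc.le, T.2, fun U _ hU hle => T.3 hU hle⟩ : IsSylowIn p (T : Subgroup H) N) hR
  set g := u⁻¹
  have hgN : g ∈ N := inv_mem hu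
  refine ⟨RankOneFF.cj g B, ?_, RankOneFF.cj g L, hB.cj g, Subgroup.map_mono hBL, fun hle => hLN ?_, fun h3 => ?_⟩
  · have := Subgroup.map_mono (f := (MulAut.conj g).toMonoidHom) hBR
    rwa [map_conj_conj, inv_mul_cancel, map_conj_one] at this
  · intro x hx
    have h1 := hle (conj_mem_cj g hx)
    have h2 := mul_mem (mul_mem (inv_mem hgN) h1) hgN
    simpa [mul_assoc] using h2
  rw [card_cj] at h3
  obtain ⟨F, iF, iFF, S, hS, hLeq, hnat⟩ := (block_of_isolated hc hB.off hB.strict hBL hLN hloc hmin).2.2 h3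
  exact LinearBlock.cj ⟨F, iF, iFF, S, hS, hLeq, hnat⟩ g

/-- A quadratic offender contains a good one. -/
theorem exists_good (hc : Base ρ T N) {B : Subgroup H} (hB : Off ρ B) :
    ∃ A ≤ B, Good ρ A ∧ Nat.card B * Nat.card (fx ρ B) ≤ Nat.card A * Nat.card (fx ρ A) := by
  classical
  obtain ⟨B₁, ⟨hB₁, hB₁ne⟩, hmax⟩ := Set.exists_max_image {C : Subgroup H | C ≤ B ∧ C ≠ ⊥}
    (fun C => Nat.card C * Nat.card (fx ρ C)) (Set.toFinite _) ⟨B, le_rfl, hB.ne_bot⟩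
  obtain ⟨A, ⟨hAB, hAne, hAwt⟩, hmin⟩ := Set.exists_min_image
    {C : Subgroup H | C ≤ B ∧ C ≠ ⊥ ∧ Nat.card B₁ * Nat.card (fx ρ B₁) ≤ Nat.card C * Nat.card (fx ρ C)}
    (fun C => Nat.card C) (Set.toFinite _) ⟨B₁, hB₁, hB₁ne, le_rfl⟩
  have hwt := (hmax B ⟨le_rfl, hB.ne_bot⟩).trans hAwt
  have hoff : Off ρ A := ⟨hAne, fun a ha b hb v => hB.quad a (hAB ha) b (hAB hb) v, hB.off.trans hwt⟩
  have hst : Strict ρ A := fun C hC h0 h1 => by
    by_contra hge
    exact h1 (Subgroup.eq_of_le_of_card_ge hC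
      (hmin C ⟨hC.trans hAB, h0, hAwt.trans (not_lt.1 hge)⟩))
  exact ⟨A, hAB, (nice_of_strict hc hoff hst).1, hwt⟩

/-- Some natural `SL₂(F)` subgroup is not contained in `N`. -/
theorem exists_natural_outside (hc : Base ρ T N) {B : Subgroup H} (hB : Off ρ B) :
    ∃ (L : Subgroup H) (n : ℕ) (F : Type) (_ : Field F) (_ : Fintype F) (φ : L →* SL(2, F))
      (ψ : W →+ (Fin 2 → F)), ¬ L ≤ N ∧ 1 ≤ n ∧ Fintype.card F = p ^ n ∧ Function.Bijective φ ∧
      Function.Surjective ψ ∧ (∀ v, ψ v = 0 ↔ v ∈ fx ρ L) ∧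
      ∀ (k : L) (v : W), ψ (ρ (k : H) v) = ((φ k : SL(2, F)) : Matrix (Fin 2) (Fin 2) F).mulVec (ψ v) := by
  obtain ⟨A, -, hA, -⟩ := exists_good hc hB
  obtain ⟨P, hP⟩ := (hA.isPGroup hc.amb).exists_le_sylow
  obtain ⟨g, hg⟩ := MulAction.exists_smul_eq H P T
  have hex : ∃ C ≤ (T : Subgroup H), Good ρ C := ⟨_, hg ▸ Subgroup.map_mono hP, hA.cj g⟩
  obtain ⟨C, L, hC, hCL, hLN, hloc, hmin⟩ := CfsgLib.Fsys.CentralTorus.exists_isolated
    (fun g _ h => h.cj g) T N hc.ne_top hc.overgroup hc.core (fun C hC => hC.off.ne_bot) hex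
  obtain ⟨-, ⟨F, iF, iFF, hnat⟩, -⟩ := block_of_isolated hc hC.off hC.strict hCL hLN hloc hmin
  obtain ⟨φ₀, ψ, hφ₀, hψ, hψ0, hψe⟩ := hnat.equiv
  obtain ⟨n, hn⟩ := IsPGroup.iff_card.1 (hC.isPGroup hc.amb)
  refine ⟨L, n, F, iF, iFF, φ₀.comp (Subgroup.topEquiv (G := L)).symm.toMonoidHom, ψ, hLN,
    Nat.one_le_iff_ne_zero.2 fun h => hC.off.ne_bot (Subgroup.card_eq_one.1 (by rw [hn, h, pow_zero])), ?_,
    hφ₀.comp (Subgroup.topEquiv (G := L)).symm.bijective, hψ, fun v => ?_,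
    fun k v => hψe ⟨k, Subgroup.mem_top k⟩ v⟩
  · rw [hnat.card, ← hn]
    exact Nat.card_congr (Subgroup.subgroupOfEquivOfLe hCL).toEquiv
  · rw [hψ0, fx_comp, ← MonoidHom.range_eq_map, Subgroup.range_subtype]

/-- No quadratic group is an over-offender. -/
theorem no_over (hc : Base ρ T N) (B : Subgroup H)
    (hquad : ∀ a ∈ B, ∀ b ∈ B, ∀ v, ρ a (ρ b v - v) = ρ b v - v) :
    Nat.card B * Nat.card (fx ρ B) ≤ Nat.card W := by
  by_contra hlt
  push Not at hlt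
  have hne : B ≠ ⊥ := by
    intro e
    rw [e, Subgroup.card_bot, one_mul] at hlt
    exact absurd hlt (not_lt.2 (Nat.card_le_card_of_injective _
      (Subtype.val_injective (p := fun v : W => v ∈ fx ρ (⊥ : Subgroup H)))))
  obtain ⟨A, -, hA, hwt⟩ := exists_good hc ⟨hne, hquad, hlt.le⟩
  rw [← hA.exact] at hwt
  exact absurd hwt (not_le.2 hlt)

/-- The stabiliser of a chain is not larger than the index of the chain. -/
theorem card_chain (hc : Base ρ T N) (C : AddSubgroup W) :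
    Nat.card (chain ρ C) * Nat.card C ≤ Nat.card W :=
  (Nat.mul_le_mul_left _ (AddSubgroup.card_le_of_le (le_fx_chain C))).trans
    (no_over hc _ fun _ ha _ hb v => chain_quad C ha hb v)

theorem Good.eq_chain (hc : Base ρ T N) {A : Subgroup H} (hA : Good ρ A) : chain ρ (fx ρ A) = A := by
  refine (Subgroup.eq_of_le_of_card_ge (fun a ha => hA.mem_chain ha) ?_).symm
  have h := card_chain hc (fx ρ A)
  rw [hA.exact] at h
  exact Nat.le_of_mul_le_mul_right h Nat.card_pos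

/-- A good offender is determined by its fixed points. -/
theorem Good.eq_of_fx_eq (hc : Base ρ T N) {A B : Subgroup H} (hA : Good ρ A) (hB : Good ρ B)
    (h : fx ρ A = fx ρ B) : A = B := by
  rw [← hA.eq_chain hc, ← hB.eq_chain hc, h]

theorem Good.inf_eq_bot (hc : Base ρ T N) {A B : Subgroup H} (hA : Good ρ A) (hB : Good ρ B) (hne : A ≠ B) :
    A ⊓ B = ⊥ := by
  by_contra h
  exact hne (hA.eq_of_fx_eq hc hB ((fx_eq_of_good hA inf_le_left h).symm.trans (fx_eq_of_good hB inf_le_right h)))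

end CfsgLib.LocalEven.MovesFixed
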