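import Cfsg.Agent.Lib.LocalEven.MovesFixed.Commute

/-!
A good offender commuting with one of order at least three in coordinates has commutators in the common fixed
points of the coordinate block.
-/

set_option autoImplicit false
set_option linter.unusedSectionVars false
set_option linter.style.haveILetI false

namespace CfsgLib.LocalEven.MovesFixed

open CfsgLib.LocalEven.RankOneFF CfsgLib.LocalEven.SylowIn

variable {H : Type*} [Group H] [Finite H] {W : Type*} [AddCommGroup W] [Finite W] {p : ℕ} [Fact p.Prime]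
  {ρ : H →* AddMonoid.End W} {T : Sylow p H} {N : Subgroup H} {A X : Subgroup H}
  {F : Type} [Field F] [Fintype F]

namespace Frame

variable (S : Frame ρ A F)

theorem a_inj : Function.Injective S.a := by
  haveI : Nonempty F := ⟨0⟩
  have hsurj : Function.Surjective fun s : F => (⟨S.a s, S.a_mem s⟩ : A) := fun x => by
    obtain ⟨s, hs⟩ := S.a_surj x x.2
    exact ⟨s, Subtype.ext hs⟩
  have hb := (Nat.bijective_iff_surjective_and_card fun s : F => (⟨S.a s, S.a_mem s⟩ : A)).2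
    ⟨hsurj, by rw [Nat.card_eq_fintype_card (α := F), S.card_F]⟩
  exact fun s t e => hb.1 (Subtype.ext e)

theorem a_zero : S.a 0 = 1 := by
  have h := S.a_add 0 0
  rw [add_zero] at h
  exact left_eq_mul.1 h

/-- The deviation from the natural action. -/
def nu (s r : F) : W := ρ (S.a s) (S.f r) - S.f r - S.e (s * r)

theorem act_eq (s r : F) : ρ (S.a s) (S.f r) - S.f r = S.e (s * r) + S.nu s r := by
  simp only [nu]; abel

theorem nu_mem (s r : F) : S.nu s r ∈ S.C0 := S.act s r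

theorem nu_add_right (s r t : F) : S.nu s (r + t) = S.nu s r + S.nu s t := by
  simp only [nu, map_add, mul_add]
  abel

theorem nu_add_left (hA : Good ρ A) (s t r : F) : S.nu (s + t) r = S.nu s r + S.nu t r := by
  simp only [nu, S.a_add, hA.off.comm_mul ρ (S.a_mem s) (S.a_mem t), add_mul, map_add]
  abel

theorem nu_torus (μ : Fˣ) (s r : F) : S.nu ((μ : F) * μ * s) r = S.nu s ((μ : F) * r) := by
  have h1 : ρ (S.h μ) (S.nu s ((μ : F) * r)) = S.nu s ((μ : F) * r) := S.h_C0 μ _ (S.nu_mem _ _)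
  have h2 : ρ (S.h μ) (ρ (S.a s) (S.f ((μ : F) * r))) = ρ (S.a ((μ : F) * μ * s)) (S.f r) := by
    rw [← act_mul, show S.h μ * S.a s = S.a ((μ : F) * μ * s) * S.h μ by rw [← S.h_a, inv_mul_cancel_right],
      act_mul, S.h_f, Units.inv_mul_cancel_left]
  simp only [nu] at h1 ⊢
  rw [map_sub, map_sub, h2, S.h_f, S.h_e, Units.inv_mul_cancel_left] at h1
  rw [← h1, show (μ : F) * μ * s * r = (μ : F) * (s * ((μ : F) * r)) by ring]

theorem nu_zero_left : S.nu 0 = 0 := by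
  funext r
  show ρ (S.a 0) (S.f r) - S.f r - S.e (0 * r) = 0
  rw [S.a_zero, act_one, sub_self, zero_mul, map_zero, sub_zero]

theorem mem_fx_iff (v : W) : v ∈ fx ρ A ↔ ∃ s, ∃ c ∈ S.C0, v = S.e s + c := by
  constructor
  · intro hv
    obtain ⟨s, r, c, hc, rfl⟩ := S.dec v
    have h := hv (S.a 1) (S.a_mem 1)
    rw [map_add, map_add, S.e_mem s _ (S.a_mem 1), S.C0_le hc _ (S.a_mem 1)] at h
    have h' := S.act 1 r
    rw [add_left_cancel (add_right_cancel h), sub_self, zero_sub, neg_mem_iff, one_mul] at h'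
    obtain ⟨hr, -⟩ := S.indep r 0 (by rwa [map_zero, add_zero])
    exact ⟨s, c, hc, by rw [hr, map_zero, add_zero]⟩
  · rintro ⟨s, c, hc, rfl⟩
    exact add_mem (S.e_mem s) (S.C0_le hc)

theorem mem_C0_of (v : W) (hv : v ∈ fx ρ A) (hw : ρ S.w⁻¹ v ∈ fx ρ A) : v ∈ S.C0 := by
  obtain ⟨s, c, hc, rfl⟩ := (S.mem_fx_iff v).1 hv
  have hwe : ρ S.w⁻¹ (S.e s) = S.f s := by rw [← S.w_f, act_inv]
  have hwc : ρ S.w⁻¹ c = c := by conv_lhs => rw [← S.w_C0 c hc, act_inv]
  rw [map_add, hwe, hwc] at hw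
  obtain ⟨t, c', hc', he⟩ := (S.mem_fx_iff _).1 hw
  have hmem : S.e (-t) + S.f s ∈ S.C0 := by
    rw [map_neg, show -S.e t + S.f s = -S.e t + (S.f s + c) - c by abel, he, neg_add_cancel_left]
    exact sub_mem hc' hc
  rw [(S.indep _ _ hmem).2, map_zero, zero_add]
  exact hc

include S in
theorem exists_ne_one_unit (h3 : 3 ≤ Nat.card A) : ∃ μ : Fˣ, (μ : F) ≠ 1 := by
  classical
  rw [← S.card_F] at h3
  have h : 2 ≤ Fintype.card Fˣ := by
    rw [Fintype.card_units]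
    omega
  obtain ⟨μ, hμ⟩ := Fintype.exists_ne_of_one_lt_card h 1
  exact ⟨μ, fun e => hμ (Units.ext e)⟩

end Frame

/-- A good offender commuting with `A` has its commutators in the common fixed points and fixes both lines. -/
theorem twin_fix (hc : Base ρ T N) (S : Frame ρ A F) (hA : Good ρ A) (h3 : 3 ≤ Nat.card A) (hX : Good ρ X)
    (hne : X ≠ A) (hcom : ∀ a ∈ A, ∀ x ∈ X, a * x = x * a) :
    ∀ x ∈ X, (∀ v, ρ x v - v ∈ S.C0) ∧ (∀ r, ρ x (S.f r) = S.f r) ∧ ∀ t, ρ x (S.e t) = S.e t := by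
  classical
  obtain ⟨hsup, hAX⟩ := comm_pair hc hA hX (fun e => hne e.symm) hcom
  obtain ⟨-, hXA⟩ := comm_pair hc hX hA hne fun x hx a ha => (hcom a ha x hx).symm
  obtain ⟨μ₀, hμ₀⟩ := S.exists_ne_one_unit h3
  -- the first line is fixed by `X`
  have heX : ∀ t, S.e t ∈ fx ρ X := by
    intro t
    set r := t / ((μ₀ : F) - 1) with hr
    have h1 := sub_mem (hAX _ (S.a_mem ((μ₀ : F) * μ₀ * 1)) (S.f (((μ₀⁻¹ : Fˣ) : F) * r)))
      (hAX _ (S.a_mem 1) (S.f r))
    rw [S.act_eq, S.act_eq, S.nu_torus, Units.mul_inv_cancel_left, add_sub_add_right_eq_sub, ← map_sub,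
      show (μ₀ : F) * μ₀ * 1 * (((μ₀⁻¹ : Fˣ) : F) * r) = (μ₀ : F) * r by
        rw [mul_one, mul_assoc, Units.mul_inv_cancel_left],
      show (μ₀ : F) * r - 1 * r = t by rw [← sub_mul, hr, mul_div_cancel₀ _ (sub_ne_zero.2 hμ₀)]] at h1
    exact h1
  set K := fx ρ A ⊓ fx ρ X with hK
  have hKh : ∀ μ, ∀ v ∈ K, ρ (S.h μ) v ∈ K := by
    intro μ v hv
    obtain ⟨s, c, hc', rfl⟩ := (S.mem_fx_iff v).1 hv.1
    have hvX : S.e s + c ∈ fx ρ X := hv.2
    have hcX : c ∈ fx ρ X := by simpa using sub_mem hvX (heX s)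
    rw [map_add, S.h_e, S.h_C0 μ c hc']
    exact ⟨add_mem (S.e_mem _) (S.C0_le hc'), add_mem (heX _) hcX⟩
  have hAc : ∀ a ∈ A, a ∈ chain ρ K := fun a ha =>
    ⟨fun c hc' => hc'.1 a ha, fun v => ⟨hA.off.comm_mem_fx ρ ha v, hAX a ha v⟩⟩
  have hXc : ∀ x ∈ X, x ∈ chain ρ K := fun x hx =>
    ⟨fun c hc' => hc'.2 x hx, fun v => ⟨hXA x hx v, hX.off.comm_mem_fx ρ hx v⟩⟩
  have hinf := hA.inf_eq_bot hc hX fun e => hne e.symm
  have hinj : Function.Injective
      (fun z : A × X => (⟨z.1 * z.2, mul_mem (hAc _ z.1.2) (hXc _ z.2.2)⟩ : chain ρ K)) := by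
    intro z z' e
    have e' : (z.1 : H) * z.2 = z'.1 * z'.2 := congrArg Subtype.val e
    have h : (z'.1 : H)⁻¹ * z.1 = (z'.2 : H) * (z.2 : H)⁻¹ := by
      rw [eq_mul_inv_iff_mul_eq, mul_assoc, e', inv_mul_cancel_left]
    have hm : (z'.1 : H)⁻¹ * z.1 ∈ A ⊓ X :=
      Subgroup.mem_inf.2 ⟨mul_mem (inv_mem z'.1.2) z.1.2, h ▸ mul_mem z'.2.2 (inv_mem z.2.2)⟩
    rw [hinf, Subgroup.mem_bot] at hm
    exact Prod.ext (Subtype.ext (inv_mul_eq_one.1 hm).symm)
      (Subtype.ext (mul_inv_eq_one.1 (h.symm.trans hm)).symm)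
  have hchain : ∀ g ∈ chain ρ K, ∃ a ∈ A, ∃ x ∈ X, g = a * x := by
    have hle : Nat.card (chain ρ K) ≤ Nat.card A * Nat.card X := by
      have h1 := card_sup_inf (fx ρ A) (fx ρ X)
      rw [hsup, AddSubgroup.card_top, ← hK] at h1
      refine Nat.le_of_mul_le_mul_right (c := Nat.card W * Nat.card K) ?_
        (Nat.mul_pos Nat.card_pos Nat.card_pos)
      calc Nat.card (chain ρ K) * (Nat.card W * Nat.card K)
          = Nat.card W * (Nat.card (chain ρ K) * Nat.card K) := by ring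
        _ ≤ Nat.card W * Nat.card W := Nat.mul_le_mul_left _ (card_chain hc K)
        _ = _ := by
            rw [h1]
            nth_rw 1 [hA.exact]
            rw [hX.exact]
            ring
    have hb := (Nat.bijective_iff_injective_and_card _).2
      ⟨hinj, le_antisymm (Nat.card_le_card_of_injective _ hinj) (by rwa [Nat.card_prod])⟩
    intro g hg
    obtain ⟨z, hz⟩ := hb.2 ⟨g, hg⟩
    exact ⟨z.1, z.1.2, z.2, z.2.2, (congrArg Subtype.val hz).symm⟩
  have hC0X : ∀ v, ∃ c ∈ S.C0, v - c ∈ fx ρ X := by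
    intro v
    obtain ⟨u, hu, u', hu', rfl⟩ := AddSubgroup.mem_sup.1 (hsup.symm ▸ AddSubgroup.mem_top v :
      v ∈ fx ρ A ⊔ fx ρ X)
    obtain ⟨s, c, hc', rfl⟩ := (S.mem_fx_iff u).1 hu
    refine ⟨c, hc', ?_⟩
    rw [show S.e s + c + u' - c = S.e s + u' by abel]
    exact add_mem (heX s) hu'
  have hXs : ∀ x ∈ X, ∀ v c, v - c ∈ fx ρ X → ρ x v - v = ρ x c - c := fun x hx v c h => by
    have := h x hx
    rw [map_sub] at this
    rw [eq_add_of_sub_eq this]
    abel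
  -- the key equation
  have hkey : ∀ x ∈ X, ∀ μ : Fˣ, (μ : F) ≠ 1 → ∃ s₁, ∀ u, ρ x (S.f u) - S.f u =
      S.e (s₁ / ((μ : F) * ((μ : F) - 1)) * u) + S.nu (s₁ / (((μ : F) - 1) * ((μ : F) - 1))) u := by
    intro x hx μ hμ
    set z := S.h μ * x * (S.h μ)⁻¹ with hz
    have hinv : (S.h μ)⁻¹ = S.h μ⁻¹ := (map_inv S.h μ).symm
    have hzv : ∀ v, ρ z v - v = ρ (S.h μ) (ρ x (ρ (S.h μ⁻¹) v) - ρ (S.h μ⁻¹) v) := fun v => by
      rw [hz, act_mul, act_mul, map_sub, hinv, ← hinv, act_inv']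
    have hzc : z ∈ chain ρ K := ⟨fun c hc' => by
        rw [hz, act_mul, act_mul, hinv, (hKh μ⁻¹ c hc').2 x hx, ← hinv, act_inv'],
      fun v => by rw [hzv]; exact hKh μ _ ((hXc x hx).2 _)⟩
    obtain ⟨a, ha, x₁, hx₁, hza⟩ := hchain z hzc
    obtain ⟨s₁, rfl⟩ := S.a_surj a ha
    refine ⟨s₁, fun u => ?_⟩
    set r := u / ((μ : F) - 1) with hr
    obtain ⟨c, hc', hcX⟩ := hC0X (S.f r)
    have hx₁c : ρ x₁ c - c = ρ (S.h μ) (ρ x c - c) := by
      have h := hzv c
      rw [S.h_C0 μ⁻¹ c hc', hza, chain_sub (hAc _ ha) (hXc _ hx₁), S.C0_le hc' _ ha, sub_self, zero_add] at h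
      exact h
    have h := hzv (S.f r)
    rw [hza, chain_sub (hAc _ ha) (hXc _ hx₁), hXs x₁ hx₁ _ _ hcX, hx₁c, ← hXs x hx _ _ hcX, S.h_f, inv_inv,
      ← eq_sub_iff_add_eq, ← map_sub, show ρ x (S.f ((μ : F) * r)) - S.f ((μ : F) * r) -
        (ρ x (S.f r) - S.f r) = ρ x (S.f ((μ : F) * r - r)) - S.f ((μ : F) * r - r) by
          simp only [map_sub]; abel,
      show (μ : F) * r - r = u by rw [← sub_one_mul, hr, mul_div_cancel₀ _ (sub_ne_zero.2 hμ)], S.act_eq] at h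
    have h' := congrArg (ρ (S.h μ⁻¹)) h
    rw [map_add, S.h_e, S.h_C0 μ⁻¹ _ (S.nu_mem _ _), show S.h μ⁻¹ = (S.h μ)⁻¹ from hinv.symm, act_inv] at h'
    rw [← h', Units.val_inv_eq_inv_val]
    have hμ0 : (μ : F) ≠ 0 := μ.ne_zero
    have hμ1 : (μ : F) - 1 ≠ 0 := sub_ne_zero.2 hμ
    have e3 : S.nu (s₁ / (((μ : F) - 1) * ((μ : F) - 1))) u = S.nu s₁ r := by
      have h2 := S.nu_torus (Units.mk0 ((μ : F) - 1) hμ1) (s₁ / (((μ : F) - 1) * ((μ : F) - 1))) r
      rw [Units.val_mk0, mul_div_cancel₀ _ (mul_ne_zero hμ1 hμ1), hr, mul_div_cancel₀ _ hμ1] at h2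
      rw [← hr] at h2
      exact h2.symm
    rw [e3]
    congr 2
    rw [hr]
    field_simp
  -- an element fixing the second line
  have hd : ∀ x ∈ X, ∃ s, ∀ u, ρ (S.a s * x) (S.f u) = S.f u := by
    intro x hx
    obtain ⟨s₁, h₁⟩ := hkey x hx μ₀ hμ₀
    set ς := s₁ / ((μ₀ : F) * ((μ₀ : F) - 1)) with hς
    have hzero : ∀ u, S.nu ς u = S.nu (s₁ / (((μ₀ : F) - 1) * ((μ₀ : F) - 1))) u := by
      intro u
      have hexp := hc.amb.exponent
      by_cases hp : p = 2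
      · subst hp
        have h2 : (1 : F) + 1 = 0 := by
          refine S.a_inj ?_
          rw [S.a_add, S.a_zero]
          refine hc.amb.faithful (AddMonoidHom.ext fun v => ?_)
          show ρ (S.a 1 * S.a 1) v = ρ 1 v
          rw [act_one, ← sub_eq_zero, hA.off.comm_mul ρ (S.a_mem 1) (S.a_mem 1), ← two_nsmul, hexp]
        obtain ⟨μ', hμ', hμμ'⟩ : ∃ μ' : Fˣ, (μ' : F) ≠ 1 ∧ μ' ≠ μ₀ := by
          by_contra hall
          push Not at hall
          have hμ1' : (μ₀ : F) + 1 ≠ 1 := fun e => μ₀.ne_zero (add_eq_right.1 e)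
          have hμ0' : (μ₀ : F) + 1 ≠ 0 := fun e => hμ₀ (by
            have e1 := eq_neg_of_add_eq_zero_left e
            rw [e1]; exact neg_eq_of_add_eq_zero_left h2)
          have := congrArg Units.val (hall (Units.mk0 _ hμ0') hμ1')
          exact one_ne_zero (add_eq_left.1 (this : (μ₀ : F) + 1 = μ₀))
        obtain ⟨s', h'⟩ := hkey x hx μ' hμ'
        have heq : s' / ((μ' : F) * ((μ' : F) - 1)) = ς := by
          have h := (h' 1).symm.trans (h₁ 1)
          rw [mul_one, mul_one, ← sub_eq_zero, add_sub_add_comm, ← map_sub] at h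
          refine sub_eq_zero.1 (S.indep _ 0 ?_).1
          rw [map_zero, add_zero, eq_neg_of_add_eq_zero_left h]
          exact neg_mem (sub_mem (S.nu_mem _ _) (S.nu_mem _ _))
        by_cases hς0 : ς = 0
        · have hs0 : s₁ = 0 := by
            have h := div_eq_zero_iff.1 hς0
            exact h.resolve_right (mul_ne_zero μ₀.ne_zero (sub_ne_zero.2 hμ₀))
          rw [hς0, hs0, zero_div]
        set k₁ := s₁ / (((μ₀ : F) - 1) * ((μ₀ : F) - 1))
        set k₂ := s' / (((μ' : F) - 1) * ((μ' : F) - 1))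
        have hdiff : ∀ v, S.nu (k₁ - k₂) v = 0 := fun v => by
          have h := (h' v).symm.trans (h₁ v)
          rw [heq] at h
          have h3' := S.nu_add_left hA (k₁ - k₂) k₂ v
          rw [sub_add_cancel, add_left_cancel h] at h3'
          exact right_eq_add.1 h3' |>.symm ▸ rfl
        have hk : k₁ - k₂ ≠ 0 := by
          intro e
          apply hμμ'
          have e1 : k₁ = ς * (μ₀ : F) / ((μ₀ : F) - 1) := by
            have := sub_ne_zero.2 hμ₀
            rw [hς]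
            simp only [k₁]
            field_simp
          have e2 : k₂ = ς * (μ' : F) / ((μ' : F) - 1) := by
            have := sub_ne_zero.2 hμ'
            rw [← heq]
            simp only [k₂]
            field_simp
          rw [e1, e2, sub_eq_zero, div_eq_div_iff (sub_ne_zero.2 hμ₀) (sub_ne_zero.2 hμ'), mul_assoc,
            mul_assoc] at e
          have := mul_left_cancel₀ hς0 e
          refine Units.ext ?_
          linear_combination this
        have hall : ∀ t, S.nu t u = 0 := fun t => by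
          have hsq : Function.Surjective (fun y : F => y * y) := Finite.surjective_of_injective fun y y' e => by
            have hz : (y + y') * (y + y') = 0 := by
              have e' : y * y = y' * y' := e
              linear_combination e' + (y' * y' + y * y') * h2
            have h4 := (mul_self_eq_zero.1 hz)
            linear_combination h4 - y' * h2
          obtain ⟨y, hy⟩ := hsq (t / (k₁ - k₂))
          have hy' : y * y * (k₁ - k₂) = t := by rw [show y * y = t / (k₁ - k₂) from hy, div_mul_cancel₀ _ hk]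
          by_cases hy0 : y = 0
          · rw [← hy', hy0, zero_mul, zero_mul, S.nu_zero_left]; rfl
          · have h5 := S.nu_torus (Units.mk0 y hy0) (k₁ - k₂) u
            rw [Units.val_mk0, hy', hdiff] at h5
            exact h5
        rw [hall, hall]
      · have hall : ∀ s r, S.nu s r = 0 := fun s r => by
          have h := S.nu_torus (-1) s r
          rw [Units.val_neg, Units.val_one, neg_mul_neg, mul_one, one_mul, neg_one_mul] at h
          have h2 : S.nu s r + S.nu s r = 0 := by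
            conv_lhs => arg 2; rw [h]
            rw [← S.nu_add_right, add_neg_cancel]
            simp [Frame.nu]
          have hodd : Odd p := (Fact.out : p.Prime).odd_of_ne_two hp
          obtain ⟨k, hk⟩ := hodd
          have h3' := hexp (S.nu s r)
          rwa [hk, succ_nsmul, mul_comm 2 k, mul_nsmul', two_nsmul, h2, nsmul_zero, zero_add] at h3'
        rw [hall, hall]
    refine ⟨-ς, fun u => ?_⟩
    have hneg : ρ (S.a (-ς)) (S.f u) - S.f u = -(ρ (S.a ς) (S.f u) - S.f u) := by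
      rw [eq_neg_iff_add_eq_zero, ← hA.off.comm_mul ρ (S.a_mem _) (S.a_mem _), ← S.a_add, neg_add_cancel,
        S.a_zero, act_one, sub_self]
    rw [← sub_eq_zero, chain_sub (hAc _ (S.a_mem _)) (hXc x hx), hneg, S.act_eq, hzero, h₁, neg_add_cancel]
  -- the good offender fixing both lines
  set D : Subgroup H := chain ρ K ⊓ ⨅ u, stab ρ (S.f u) with hD
  have hDf : ∀ d, d ∈ D ↔ d ∈ chain ρ K ∧ ∀ u, ρ d (S.f u) = S.f u := fun d => by
    rw [hD, Subgroup.mem_inf, Subgroup.mem_iInf]; rfl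
  choose sx hsx using hd
  have hDle : Nat.card X ≤ Nat.card D := Nat.card_le_card_of_injective
    (fun x : X => (⟨S.a (sx x x.2) * x, (hDf _).2 ⟨mul_mem (hAc _ (S.a_mem _)) (hXc _ x.2), hsx x x.2⟩⟩ : D))
    fun x x' e => congrArg Prod.snd (hinj (a₁ := (⟨_, S.a_mem (sx x x.2)⟩, x))
      (a₂ := (⟨_, S.a_mem (sx x' x'.2)⟩, x')) (Subtype.ext (congrArg Subtype.val e :)))
  set W₁ : AddSubgroup W := S.e.range ⊔ S.f.range ⊔ (S.C0 ⊓ fx ρ X) with hW₁
  have hW₁D : W₁ ≤ fx ρ D := by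
    refine sup_le (sup_le ?_ ?_) fun v hv d hdD =>
      ((hDf d).1 hdD).1.1 v ⟨S.C0_le hv.1, hv.2⟩
    · rintro _ ⟨s, rfl⟩ d hdD
      exact ((hDf d).1 hdD).1.1 _ ⟨S.e_mem s, heX s⟩
    · rintro _ ⟨r, rfl⟩ d hdD
      exact ((hDf d).1 hdD).2 r
  have hW₁mem : ∀ v ∈ W₁, ∃ s r, ∃ c ∈ S.C0 ⊓ fx ρ X, v = S.e s + S.f r + c := fun v hv => by
    obtain ⟨v₁, hv₁, c, hc', rfl⟩ := AddSubgroup.mem_sup.1 hv
    obtain ⟨_, ⟨s, rfl⟩, _, ⟨r, rfl⟩, rfl⟩ := AddSubgroup.mem_sup.1 hv₁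
    exact ⟨s, r, c, hc', rfl⟩
  have hW₁card : Nat.card W₁ = Nat.card (fx ρ X) := by
    have h1 := card_sup_inf W₁ S.C0
    have h2 := card_sup_inf S.C0 (fx ρ X)
    have e1 : W₁ ⊔ S.C0 = ⊤ := eq_top_iff.2 fun v _ => by
      obtain ⟨s, r, c, hc', rfl⟩ := S.dec v
      exact add_mem (AddSubgroup.mem_sup_left (AddSubgroup.mem_sup_left (add_mem
        (AddSubgroup.mem_sup_left ⟨s, rfl⟩) (AddSubgroup.mem_sup_right ⟨r, rfl⟩)))) (AddSubgroup.mem_sup_right hc')
    have e2 : W₁ ⊓ S.C0 = S.C0 ⊓ fx ρ X := le_antisymm (fun v hv => by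
      obtain ⟨s, r, c, hc', rfl⟩ := hW₁mem v hv.1
      have hsr : S.e s + S.f r ∈ S.C0 := by simpa using sub_mem (AddSubgroup.mem_inf.1 hv).2 hc'.1
      obtain ⟨rfl, rfl⟩ := S.indep s r hsr
      simpa using hc') (le_inf le_sup_right inf_le_left)
    have e3 : S.C0 ⊔ fx ρ X = ⊤ := eq_top_iff.2 fun v _ => by
      obtain ⟨c, hc', hcX⟩ := hC0X v
      have := add_mem (AddSubgroup.mem_sup_left (T := fx ρ X) hc') (AddSubgroup.mem_sup_right hcX)
      rwa [add_sub_cancel] at this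
    rw [e1, e2] at h1
    rw [e3] at h2
    refine Nat.eq_of_mul_eq_mul_right (m := Nat.card S.C0) Nat.card_pos ?_
    rw [← h1, h2, mul_comm]
  have hquadD : ∀ a ∈ D, ∀ b ∈ D, ∀ v, ρ a (ρ b v - v) = ρ b v - v := fun a ha b hb v =>
    chain_quad K ((hDf a).1 ha).1 ((hDf b).1 hb).1 v
  have hexact : Nat.card W ≤ Nat.card D * Nat.card W₁ := by
    rw [hW₁card, hX.exact]
    exact Nat.mul_le_mul_right _ hDle
  have hfxD : fx ρ D = W₁ := (AddSubgroup.eq_of_le_of_card_ge hW₁D (Nat.le_of_mul_le_mul_left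
    ((no_over hc D hquadD).trans hexact) Nat.card_pos)).symm
  have hDne : D ≠ ⊥ := fun e => by
    rw [e, Subgroup.card_bot] at hDle
    exact absurd hDle (not_le.2 ((Subgroup.one_lt_card_iff_ne_bot _).2 hX.off.ne_bot))
  have hDgood : Good ρ D := by
    refine ⟨⟨hDne, hquadD, hexact.trans (Nat.mul_le_mul_left _ (le_of_eq (by rw [hfxD])))⟩,
      le_antisymm (hexact.trans (le_of_eq (by rw [hfxD]))) (no_over hc D hquadD), fun d hdD hd1 v hv => ?_⟩
    obtain ⟨a, ha, x, hx, rfl⟩ := hchain d ((hDf d).1 hdD).1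
    obtain ⟨s, r, c, hc', rfl⟩ := S.dec v
    obtain ⟨t, rfl⟩ := S.a_surj a ha
    have hx1 : x ≠ 1 := by
      rintro rfl
      rw [mul_one] at hdD hd1
      have hf := ((hDf _).1 hdD).2 1
      have h := S.act t 1
      rw [hf, sub_self, zero_sub, neg_mem_iff, mul_one] at h
      obtain ⟨ht, -⟩ := S.indep t 0 (by rwa [map_zero, add_zero])
      exact hd1 (by rw [ht, S.a_zero])
    have hes : S.e s + S.f r ∈ fx ρ (D) := hW₁D (AddSubgroup.mem_sup_left (add_mem
      (AddSubgroup.mem_sup_left ⟨s, rfl⟩) (AddSubgroup.mem_sup_right ⟨r, rfl⟩)))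
    rw [map_add, hes _ hdD] at hv
    have hcfix : ρ (S.a t * x) c - c = 0 := sub_eq_zero.2 (add_left_cancel hv)
    rw [chain_sub (hAc _ ha) (hXc _ hx), S.C0_le hc' _ ha, sub_self, zero_add] at hcfix
    exact add_mem hes (hW₁D (AddSubgroup.mem_sup_right ⟨hc', hX.fix x hx hx1 c (sub_eq_zero.1 hcfix)⟩))
  have hwD : cj S.w D = D := by
    refine (hDgood.cj S.w).eq_of_fx_eq hc hDgood (AddSubgroup.eq_of_le_of_card_ge (fun v hv => ?_)
      (le_of_eq (card_fx_cj ρ S.w D).symm))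
    have hv' := act_mem_fx ρ S.w⁻¹ hv
    rw [cj_cj, inv_mul_cancel, cj_one, hfxD] at hv'
    obtain ⟨s, r, c, hc', he⟩ := hW₁mem _ hv'
    rw [hfxD, ← act_inv' ρ S.w v, he, map_add, map_add, S.w_e, S.w_f, S.w_C0 c hc'.1]
    exact AddSubgroup.mem_sup.2 ⟨_, AddSubgroup.add_mem _ (AddSubgroup.mem_sup_right ⟨_, rfl⟩)
      (AddSubgroup.mem_sup_left ⟨_, rfl⟩), c, hc', rfl⟩
  suffices hmain : ∀ x ∈ X, ∀ v, ρ x v - v ∈ S.C0 by
    intro x hx
    refine ⟨hmain x hx, fun r => ?_, fun t => heX t x hx⟩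
    obtain ⟨s₁, h₁⟩ := hkey x hx μ₀ hμ₀
    have h1 := hmain x hx (S.f 1)
    rw [h₁, mul_one, AddSubgroup.add_mem_cancel_right _ (S.nu_mem _ _)] at h1
    obtain ⟨h0, -⟩ := S.indep (s₁ / ((μ₀ : F) * ((μ₀ : F) - 1))) 0 (by rwa [map_zero, add_zero])
    rcases div_eq_zero_iff.1 h0 with hs | hs
    · refine sub_eq_zero.1 ?_
      rw [h₁, hs, zero_div, zero_div, zero_mul, map_zero, zero_add, S.nu_zero_left]
      rfl
    · exact absurd hs (mul_ne_zero μ₀.ne_zero (sub_ne_zero.2 hμ₀))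
  intro x hx v
  obtain ⟨c, hc', hcX⟩ := hC0X v
  rw [hXs x hx v c hcX]
  set d := S.a (sx x hx) * x with hddef
  have hdD : d ∈ D := (hDf _).2 ⟨mul_mem (hAc _ (S.a_mem _)) (hXc _ hx), hsx x hx⟩
  have hdcom : ∀ a ∈ A, ∀ b ∈ D, a * b = b * a := fun a ha b hb =>
    chain_comm hc.amb K (hAc a ha) ((hDf b).1 hb).1
  have hdc : ρ d c ∈ S.C0 := by
    refine S.mem_C0_of _ (fun a ha => ?_) fun a ha => ?_
    · rw [← act_mul, hdcom a ha d hdD, act_mul, S.C0_le hc' a ha]
    · have hd' : S.w⁻¹ * d * S.w ∈ D := mem_cj.1 (hwD.symm ▸ hdD)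
      have e : a * S.w⁻¹ * d = (S.w⁻¹ * d * S.w) * a * S.w⁻¹ := by
        rw [← hdcom a ha _ hd']; group
      rw [← act_mul, ← act_mul, e, act_mul, act_mul,
        show ρ S.w⁻¹ c = c by conv_lhs => rw [← S.w_C0 c hc', act_inv], S.C0_le hc' a ha, act_mul, act_mul,
        S.w_C0 c hc']
  have hfin := sub_mem hdc hc'
  rwa [hddef, chain_sub (hAc _ (S.a_mem _)) (hXc x hx), S.C0_le hc' _ (S.a_mem _), sub_self, zero_add] at hfin

/-- Two offenders cannot be twins when the field is larger than `F₂`. -/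
theorem twin (hc : Base ρ T N) (S : Frame ρ A F) (hA : Good ρ A) (h3 : 3 ≤ Nat.card A) (hX : Good ρ X)
    (hne : X ≠ A) (hcom : ∀ a ∈ A, ∀ x ∈ X, a * x = x * a) : ∀ x ∈ X, ∀ v, ρ x v - v ∈ S.C0 := fun x hx =>
  (twin_fix hc S hA h3 hX hne hcom x hx).1

end CfsgLib.LocalEven.MovesFixed
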