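import Cfsg.Agent.Lib.LocalEven.MovesFixed.Centres
import Cfsg.Agent.Lib.LocalEven.MovesFixed.Twin

/-!
Good offenders of order at least three: an offender commuting with the root of a block centralises the block,
and in the normalizer of the offenders outside its root the block is normal.
-/

set_option autoImplicit false
set_option linter.unusedSectionVars false
set_option linter.style.haveILetI false

open scoped MatrixGroups

namespace CfsgLib.LocalEven.MovesFixed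

open CfsgLib.LocalEven.RankOneFF CfsgLib.LocalEven.SylowIn

variable {H : Type*} [Group H] [Finite H] {W : Type*} [AddCommGroup W] [Finite W] {p : ℕ} [Fact p.Prime]
  {ρ : H →* AddMonoid.End W} {T : Sylow p H} {N : Subgroup H} {A L X : Subgroup H}

/-- Isolation of `A` in `N` inside `L₀`. -/
def Loc (p : ℕ) (N L₀ A : Subgroup H) : Prop :=
  ∀ R : Subgroup H, R ≤ L₀ → IsPGroup p R → A ≤ R → R ≤ N ∧ L₀ ⊓ Subgroup.normalizer (R : Set H) ≤ N

theorem LinearBlock.le (hB : LinearBlock ρ A L) : A ≤ L := by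
  obtain ⟨F, _, _, S, -, -, hL, -⟩ := hB
  exact hL ▸ le_sup_left

/-- A good offender commuting with the root centralises the block. -/
theorem LinearBlock.centralises (hc : Base ρ T N) (hA : Good ρ A) (h3 : 3 ≤ Nat.card A) (hB : LinearBlock ρ A L)
    (hX : Good ρ X) (hne : X ≠ A) (hcom : ∀ a ∈ A, ∀ x ∈ X, a * x = x * a) :
    ∀ x ∈ X, (∀ l ∈ L, x * l = l * x) ∧ ∀ v, ρ x v - v ∈ fx ρ L := by
  obtain ⟨F, _, _, S, hC0, -, hL, -⟩ := hB
  intro x hx
  obtain ⟨hxC, hxf, hxe⟩ := twin_fix hc S hA h3 hX hne hcom x hx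
  refine ⟨?_, fun v => hC0 ▸ hxC v⟩
  have hxw : x * S.w = S.w * x := by
    refine hc.amb.faithful (AddMonoidHom.ext fun v => ?_)
    show ρ (x * S.w) v = ρ (S.w * x) v
    obtain ⟨s, r, c, hcC, rfl⟩ := S.dec v
    have hxc : ρ x c ∈ S.C0 := by
      have := add_mem (hxC c) hcC
      rwa [sub_add_cancel] at this
    simp only [act_mul, map_add, S.w_e, S.w_f, hxe, hxf, S.w_C0 _ hcC, S.w_C0 _ hxc]
  intro l hl
  have hle : L ≤ Subgroup.centralizer ({x} : Set H) := by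
    have hAc : A ≤ Subgroup.centralizer ({x} : Set H) := fun a ha =>
      Subgroup.mem_centralizer_singleton_iff.2 (hcom a ha x hx)
    rw [← hL]
    exact sup_le hAc (cj_le hAc (Subgroup.mem_centralizer_singleton_iff.2 hxw.symm))
  exact (Subgroup.mem_centralizer_singleton_iff.1 (hle hl)).symm

/-- The fixed points of the roots cover the module. -/
theorem LinearBlock.exists_root (hB : LinearBlock ρ A L) (u : W) :
    u ∈ fx ρ A ∨ ∃ a ∈ A, ∃ w ∈ L, A ⊔ RankOneFF.cj w A = L ∧ u ∈ fx ρ (RankOneFF.cj (a * w) A) := by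
  obtain ⟨F, _, _, S, hC0, hwL, hL, -⟩ := hB
  obtain ⟨s, r, c, hc, rfl⟩ := S.dec u
  by_cases hr : r = 0
  · exact Or.inl (by rw [hr, map_zero, add_zero]; exact add_mem (S.e_mem s) (S.C0_le hc))
  refine Or.inr ⟨S.a (s / r), S.a_mem _, S.w, hwL, hL, ?_⟩
  have hf : S.f r ∈ fx ρ (RankOneFF.cj S.w A) := by
    have h := act_mem_fx ρ S.w (S.e_mem (-r))
    rwa [S.w_e, neg_neg] at h
  have hfix : ∀ c' ∈ S.C0, c' ∈ fx ρ (RankOneFF.cj (S.a (s / r) * S.w) A) := fun c' hc' => by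
    have h := act_mem_fx ρ (S.a (s / r) * S.w) (S.C0_le hc')
    rwa [act_mul, S.w_C0 c' hc', S.C0_le hc' _ (S.a_mem _)] at h
  have h1 := act_mem_fx ρ (S.a (s / r)) hf
  rw [cj_cj, eq_add_of_sub_eq (S.act_eq (s / r) r), div_mul_cancel₀ _ hr] at h1
  have h2 := add_mem h1 (sub_mem (hfix c hc) (hfix _ (S.nu_mem (s / r) r)))
  convert h2 using 1
  abel

/-- No vector commuted into the fixed points by an isolated root is fixed by anything outside `N`. -/
theorem stab_inf_le (hc : Base ρ T N) (hA : Good ρ A) (h3 : 3 ≤ Nat.card A) {L₀ : Subgroup H} (hAL₀ : A ≤ L₀)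
    (hloc : Loc p N L₀ A) {a : H} (ha : a ∈ A) {v : W} (hne : ρ a v - v ≠ 0) :
    L₀ ⊓ stab ρ (ρ a v - v) ≤ N := by
  classical
  by_contra hK
  set K := L₀ ⊓ stab ρ (ρ a v - v) with hKdef
  have hAK : A ≤ K := le_inf hAL₀ fun b hb => hA.off.comm_mem_fx ρ ha v b hb
  obtain ⟨L₂, ⟨hL₂K, hAL₂, hL₂N⟩, hmin⟩ := Set.exists_min_image
    {L' : Subgroup H | L' ≤ K ∧ A ≤ L' ∧ ¬ L' ≤ N} (fun L' => Nat.card L') (Set.toFinite _) ⟨K, le_rfl, hAK, hK⟩
  obtain ⟨-, -, hb⟩ := block_of_isolated hc hA.off hA.strict hAL₂ hL₂N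
    (fun R hR hRp hAR => ⟨(hloc R (hR.trans (hL₂K.trans inf_le_left)) hRp hAR).1,
      (inf_le_inf_right _ (hL₂K.trans inf_le_left)).trans
        (hloc R (hR.trans (hL₂K.trans inf_le_left)) hRp hAR).2⟩)
    (fun L' hle hAL' hL' => Subgroup.eq_of_le_of_card_ge hle (hmin L' ⟨hle.trans hL₂K, hAL', hL'⟩))
  obtain ⟨F, _, _, S, hC0, -, -, -⟩ := hb h3
  have hu : ρ a v - v ∈ S.C0 := hC0 ▸ (mem_fx_iff_le ρ).2 (hL₂K.trans inf_le_right)
  obtain ⟨t, rfl⟩ := S.a_surj a ha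
  obtain ⟨s, r, c, hcC, rfl⟩ := S.dec v
  have hval : ρ (S.a t) (S.e s + S.f r + c) - (S.e s + S.f r + c) = S.e (t * r) + S.nu t r := by
    rw [map_add, map_add, S.e_mem s _ (S.a_mem t), S.C0_le hcC _ (S.a_mem t), add_sub_add_right_eq_sub,
      add_sub_add_left_eq_sub, S.act_eq]
  rw [hval, AddSubgroup.add_mem_cancel_right _ (S.nu_mem t r)] at hu
  obtain ⟨htr, -⟩ := S.indep (t * r) 0 (by rwa [map_zero, add_zero])
  refine hne (hval.trans ?_)
  rcases mul_eq_zero.1 htr with h | h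
  · rw [h, zero_mul, map_zero, zero_add, S.nu_zero_left]
    rfl
  · rw [h, mul_zero, map_zero, zero_add]
    simp [Frame.nu]

end CfsgLib.LocalEven.MovesFixed
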