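import Cfsg.Agent.Lib.LocalEven.MovesFixed.Centres
import Cfsg.Agent.Lib.LocalEven.RankOneFF.Glue
import Mathlib.GroupTheory.SemidirectProduct

/-!
An elementary abelian group with weight at least the order of the module contains a good offender; induction
over such groups.
-/

set_option autoImplicit false
set_option linter.unusedSectionVars false
set_option linter.style.haveILetI false

open scoped IsMulCommutative commutatorElement

namespace CfsgLib.LocalEven.MovesFixed

open Cfsg CfsgLib.LocalEven.RankOneFF CfsgLib.LocalEven.SylowIn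
open CfsgLib.Fusion.ReplacementEA (wt)

variable {H : Type*} [Group H] [Finite H] {W : Type*} [AddCommGroup W] [Finite W] {p : ℕ} [Fact p.Prime]
  {ρ : H →* AddMonoid.End W} {T : Sylow p H} {N : Subgroup H}

/-- The action by automorphisms of the multiplicative copy. -/
def mulAct (ρ : H →* AddMonoid.End W) : H →* MulAut (Multiplicative W) where
  toFun h :=
    { toFun := fun v => Multiplicative.ofAdd (ρ h v.toAdd)
      invFun := fun v => Multiplicative.ofAdd (ρ h⁻¹ v.toAdd)
      left_inv := fun v => congrArg Multiplicative.ofAdd (RankOneFF.act_inv ρ h v.toAdd)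
      right_inv := fun v => congrArg Multiplicative.ofAdd (act_inv' ρ h v.toAdd)
      map_mul' := fun v w => congrArg Multiplicative.ofAdd (map_add (ρ h) v.toAdd w.toAdd) }
  map_one' := MulEquiv.ext fun v => congrArg Multiplicative.ofAdd (RankOneFF.act_one ρ v.toAdd)
  map_mul' g h := MulEquiv.ext fun v => congrArg Multiplicative.ofAdd (act_mul ρ g h v.toAdd)

/-- An abelian group of exponent `p` and weight at least `|W|` contains a quadratic offender. -/
theorem exists_off_sub (hamb : Ambient ρ p) {D : Subgroup H} (hne : D ≠ ⊥) (hcomm : ∀ a ∈ D, ∀ b ∈ D, a * b = b * a)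
    (hpow : ∀ a ∈ D, a ^ p = 1) (hoff : Nat.card W ≤ Nat.card D * Nat.card (fx ρ D)) :
    ∃ B ≤ D, Off ρ B ∧ Nat.card D * Nat.card (fx ρ D) ≤ Nat.card B * Nat.card (fx ρ B) := by
  classical
  let G := Multiplicative W ⋊[mulAct ρ] H
  haveI : Finite G := Finite.of_equiv _ SemidirectProduct.equivProd.symm
  set il : Multiplicative W →* G := SemidirectProduct.inl
  set ir : H →* G := SemidirectProduct.inr
  have hirinj : Function.Injective ir := SemidirectProduct.inr_injective
  have hilinj : Function.Injective il := SemidirectProduct.inl_injective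
  set V : Subgroup G := il.range with hVdef
  set H' : Subgroup G := ir.range with hH'def
  have hconj : ∀ (h : H) (v : Multiplicative W),
      ir h * il v * (ir h)⁻¹ = il (Multiplicative.ofAdd (ρ h v.toAdd)) := fun h v => by
    rw [← map_inv]
    exact (SemidirectProduct.inl_aut (φ := mulAct ρ) h v).symm
  have hexp : ∀ v : Multiplicative W, v ^ p = 1 := fun v =>
    congrArg Multiplicative.ofAdd (hamb.exponent v.toAdd)
  have hV : IsElementaryAbelian p V := by
    refine ⟨⟨⟨fun x y => Subtype.ext ?_⟩⟩, ?_⟩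
    · obtain ⟨a, ha⟩ := x.2
      obtain ⟨b, hb⟩ := y.2
      show (x : G) * y = y * x
      rw [← ha, ← hb, ← map_mul, mul_comm, map_mul]
    · rintro _ ⟨a, rfl⟩
      rw [← map_pow, hexp, map_one]
  have hHV : H' ≤ Subgroup.normalizer (V : Set G) := le_normalizer_of_map_conj fun g hg => by
    obtain ⟨h, rfl⟩ := hg
    refine Subgroup.eq_of_le_of_card_ge ?_
      (Subgroup.card_map_of_injective (MulAut.conj (ir h)).injective).ge
    rintro _ ⟨_, ⟨v, rfl⟩, rfl⟩
    exact ⟨_, (hconj h v).symm⟩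
  have hcent : ∀ (h : H) (v : Multiplicative W), ir h * il v = il v * ir h ↔ ρ h v.toAdd = v.toAdd := fun h v => by
    rw [← mul_inv_eq_iff_eq_mul, hconj, hilinj.eq_iff, ← Multiplicative.toAdd.injective.eq_iff]
    rfl
  have hf : H' ⊓ Subgroup.centralizer (V : Set G) = ⊥ := by
    rw [eq_bot_iff]
    rintro _ ⟨⟨h, rfl⟩, hc⟩
    have : h = 1 := hamb.faithful (AddMonoidHom.ext fun w => by
      show ρ h w = ρ 1 w
      rw [RankOneFF.act_one]
      exact (hcent h (Multiplicative.ofAdd w)).1 (Subgroup.mem_centralizer_iff.1 hc _ ⟨_, rfl⟩).symm)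
    rw [this, map_one]
    exact one_mem _
  set A₀ : Subgroup G := D.map ir with hA₀
  have hA₀H : A₀ ≤ H' := Subgroup.map_le_range _ _
  have hfix : ∀ (B : Subgroup H) (v : Multiplicative W),
      il v ∈ Subgroup.centralizer ((B.map ir : Subgroup G) : Set G) ↔ v.toAdd ∈ fx ρ B := fun B v => by
    rw [Subgroup.mem_centralizer_iff]
    exact ⟨fun h b hb => (hcent b v).1 (h _ (Subgroup.mem_map_of_mem _ hb)),
      by rintro h _ ⟨b, hb, rfl⟩; exact (hcent b v).2 (h b hb)⟩
  have hcard : Nat.card (V ⊓ Subgroup.centralizer (A₀ : Set G) : Subgroup G) = Nat.card (fx ρ D) := by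
    refine (Nat.card_eq_of_bijective (fun v : fx ρ D => (⟨il (Multiplicative.ofAdd (v : W)),
      ⟨_, rfl⟩, (hfix D _).2 v.2⟩ : (V ⊓ Subgroup.centralizer (A₀ : Set G) : Subgroup G))) ⟨?_, ?_⟩).symm
    · intro v w e
      exact Subtype.ext (Multiplicative.ofAdd.injective (hilinj (congrArg Subtype.val e)))
    · rintro ⟨_, ⟨v, rfl⟩, hv⟩
      exact ⟨⟨v.toAdd, (hfix D v).1 hv⟩, rfl⟩
  have hVcard : Nat.card V = Nat.card W := (Nat.card_congr (MonoidHom.ofInjective hilinj).toEquiv).symm
  obtain ⟨B, hBA, hBne, hquad, hBoff⟩ := exists_quadratic_max hV hHV hf hA₀H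
    (Subgroup.commutator_le.2 (by
      rintro _ ⟨a, ha, rfl⟩ _ ⟨b, hb, rfl⟩
      rw [commutatorElement_def, ← map_mul, hcomm a ha b hb, map_mul]
      rw [mul_inv_cancel_right, mul_inv_cancel]
      exact one_mem _))
    (by rintro _ ⟨a, ha, rfl⟩; rw [← map_pow, hpow a ha, map_one]; exact one_mem _)
    (fun e => hne ((Subgroup.map_eq_bot_iff_of_injective _ hirinj).1 e))
    (by rw [hVcard, wt, hcard, Subgroup.card_map_of_injective hirinj]; exact hoff)
  have hmap : (B.comap ir).map ir = B := Subgroup.map_comap_eq_self (hBA.trans hA₀H)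
  have hwtB : wt V B = Nat.card (B.comap ir) * Nat.card (fx ρ (B.comap ir)) := by
    rw [wt, show Nat.card (B.comap ir) = Nat.card B by
      conv_rhs => rw [← hmap]
      exact (Subgroup.card_map_of_injective hirinj).symm]
    congr 1
    refine (Nat.card_eq_of_bijective (fun v : fx ρ (B.comap ir) => (⟨il (Multiplicative.ofAdd (v : W)),
      ⟨_, rfl⟩, by have := (hfix (B.comap ir) (Multiplicative.ofAdd (v : W))).2 v.2; rwa [hmap] at this⟩ :
        (V ⊓ Subgroup.centralizer (B : Set G) : Subgroup G))) ⟨?_, ?_⟩).symm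
    · intro v w e
      exact Subtype.ext (Multiplicative.ofAdd.injective (hilinj (congrArg Subtype.val e)))
    · rintro ⟨_, ⟨v, rfl⟩, hv⟩
      exact ⟨⟨v.toAdd, (hfix _ v).1 (hmap.symm ▸ hv)⟩, rfl⟩
  rw [hwtB, wt, hcard, Subgroup.card_map_of_injective hirinj] at hBoff
  refine ⟨B.comap ir, fun x hx => ?_, ⟨fun e => hBne (by rw [← hmap, e, Subgroup.map_bot]),
    fun a ha b hb v => ?_, hoff.trans hBoff⟩, hBoff⟩
  · obtain ⟨y, hy, hye⟩ := hBA hx
    exact hirinj hye ▸ hy
  · refine (hcent a (Multiplicative.ofAdd (ρ b v - v))).1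
      (Subgroup.mem_centralizer_iff.1 (hquad ha) _ ?_).symm
    have hcom : il (Multiplicative.ofAdd (ρ b v - v)) = ⁅ir b, il (Multiplicative.ofAdd v)⁆ := by
      rw [commutatorElement_def, hconj, ← map_inv, ← map_mul]
      exact congrArg il (congrArg Multiplicative.ofAdd (sub_eq_add_neg _ _))
    rw [hcom, Subgroup.commutator_comm]
    exact Subgroup.commutator_mem_commutator hb ⟨_, rfl⟩

/-- No abelian group of exponent `p` has weight above `|W|`. -/
theorem no_over_abelian (hc : Base ρ T N) (D : Subgroup H) (hcomm : ∀ a ∈ D, ∀ b ∈ D, a * b = b * a)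
    (hpow : ∀ a ∈ D, a ^ p = 1) : Nat.card D * Nat.card (fx ρ D) ≤ Nat.card W := by
  by_contra hlt
  push Not at hlt
  by_cases hne : D = ⊥
  · rw [hne, Subgroup.card_bot, one_mul] at hlt
    exact absurd hlt (not_lt.2 (Nat.card_le_card_of_injective _
      (Subtype.val_injective (p := fun v : W => v ∈ fx ρ (⊥ : Subgroup H)))))
  obtain ⟨B, -, hB, hle⟩ := exists_off_sub hc.amb hne hcomm hpow hlt.le
  exact absurd (hle.trans (no_over hc B hB.quad)) (not_le.2 hlt)

/-- Induction: if a good offender in such a group always splits off, the group lies in `Z`. -/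
theorem offender_le (hc : Base ρ T N) {Z : Subgroup H}
    (hstep : ∀ D : Subgroup H, (∀ a ∈ D, ∀ b ∈ D, a * b = b * a) → (∀ a ∈ D, a ^ p = 1) →
      Nat.card W ≤ Nat.card D * Nat.card (fx ρ D) → ∀ A ≤ D, Good ρ A →
      ∃ D₁ : Subgroup H, (∀ a ∈ D₁, ∀ b ∈ D₁, a * b = b * a) ∧ (∀ a ∈ D₁, a ^ p = 1) ∧
        Nat.card D₁ < Nat.card D ∧ Nat.card W ≤ Nat.card D₁ * Nat.card (fx ρ D₁) ∧ D ≤ Z ⊔ D₁) :
    ∀ D : Subgroup H, (∀ a ∈ D, ∀ b ∈ D, a * b = b * a) → (∀ a ∈ D, a ^ p = 1) →
      Nat.card W ≤ Nat.card D * Nat.card (fx ρ D) → D ≤ Z := by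
  intro D
  induction hn : Nat.card D using Nat.strong_induction_on generalizing D with
  | _ n ih =>
    intro hcomm hpow hwt
    by_cases hne : D = ⊥
    · exact hne ▸ bot_le
    obtain ⟨B, hBD, hB, -⟩ := exists_off_sub hc.amb hne hcomm hpow (hn ▸ hwt)
    obtain ⟨A, hAB, hA, -⟩ := exists_good hc hB
    obtain ⟨D₁, hcomm₁, hpow₁, hlt, hwt₁, hle⟩ := hstep D hcomm hpow (hn ▸ hwt) A (hAB.trans hBD) hA
    exact hle.trans (sup_le le_rfl (ih _ (hn ▸ hlt) D₁ rfl hcomm₁ hpow₁ hwt₁))

end CfsgLib.LocalEven.MovesFixed
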