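import Cfsg.Agent.Lib.LocalEven.MovesFixed.LinearRoots
import Cfsg.Agent.Lib.LocalEven.MovesFixed.Family
import Cfsg.Agent.Lib.LocalEven.MovesFixed.Offender

/-!
A good offender of order at least three gives a family of commuting natural `SL₂`-blocks containing every
offender.
-/

set_option autoImplicit false
set_option linter.unusedSectionVars false
set_option linter.style.haveILetI false

open scoped MatrixGroups

namespace CfsgLib.LocalEven.MovesFixed

open CfsgLib.LocalEven.RankOneFF CfsgLib.LocalEven.SylowIn CfsgLib.Fsys.CentralTorus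

variable {H : Type*} [Group H] [Finite H] {W : Type*} [AddCommGroup W] [Finite W] {p : ℕ} [Fact p.Prime]
  {ρ : H →* AddMonoid.End W} {T : Sylow p H} {N : Subgroup H} {A L A' L' : Subgroup H}

/-- The elements centralising `L` with commutators fixed by `L`. -/
def centFix (ρ : H →* AddMonoid.End W) (L : Subgroup H) : Subgroup H where
  carrier := {y | (∀ l ∈ L, y * l = l * y) ∧ ∀ v, ρ y v - v ∈ fx ρ L}
  one_mem' := ⟨fun l _ => by rw [one_mul, mul_one], fun v => by rw [RankOneFF.act_one, sub_self]; exact zero_mem _⟩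
  mul_mem' := fun {x y} hx hy => by
    refine ⟨fun l hl => by rw [mul_assoc, hy.1 l hl, ← mul_assoc, hx.1 l hl, mul_assoc], fun v => ?_⟩
    rw [act_mul, ← sub_add_sub_cancel (ρ x (ρ y v)) (ρ x v) v, ← map_sub]
    refine add_mem (fun l hl => ?_) (hx.2 v)
    rw [← act_mul, ← hx.1 l hl, act_mul, hy.2 v l hl]
  inv_mem' := fun {x} hx => by
    refine ⟨fun l hl => inv_mul_eq_iff_eq_mul.2 (by rw [← mul_assoc, hx.1 l hl, mul_inv_cancel_right]), fun v => ?_⟩
    have h := neg_mem (hx.2 (ρ x⁻¹ v))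
    rwa [act_inv', neg_sub] at h

theorem mem_centFix {y : H} :
    y ∈ centFix ρ L ↔ (∀ l ∈ L, y * l = l * y) ∧ ∀ v, ρ y v - v ∈ fx ρ L := Iff.rfl

theorem centFix_le_normalizer : centFix ρ L ≤ Subgroup.normalizer (L : Set H) := fun y hy =>
  Subgroup.centralizer_le_normalizer _ (Subgroup.mem_centralizer_iff.2 fun l hl => (hy.1 l hl).symm)

theorem LinearBlock.split (hB : LinearBlock ρ A L) (v : W) : ∃ u ∈ commSub ρ L, v - u ∈ fx ρ L := by
  obtain ⟨F, _, _, S, -, -, -, φ, ψ, hφ, hψ, hψ0, hψe⟩ := hB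
  obtain ⟨k₁, hk₁⟩ := hφ.2 (upS 1)
  obtain ⟨k₂, hk₂⟩ := hφ.2 (lowS 1)
  obtain ⟨w₁, hw₁⟩ := hψ ![0, ψ v 0]
  obtain ⟨w₂, hw₂⟩ := hψ ![ψ v 1, 0]
  refine ⟨(ρ (k₁ : H) w₁ - w₁) + (ρ (k₂ : H) w₂ - w₂), add_mem (AddSubgroup.subset_closure ⟨_, k₁.2, _, rfl⟩)
    (AddSubgroup.subset_closure ⟨_, k₂.2, _, rfl⟩), (hψ0 _).1 ?_⟩
  rw [map_sub, map_add, map_sub, map_sub, hψe, hψe, hk₁, hk₂, hw₁, hw₂]
  funext i
  fin_cases i <;> simp [upS, lowS, Matrix.mulVec, Matrix.vecHead, Matrix.vecTail, dotProduct, Fin.sum_univ_two]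

theorem LinearBlock.slModel (hB : LinearBlock ρ A L) (hamb : Ambient ρ p) (hA : Good ρ A) :
    ∃ n, 1 ≤ n ∧ SLModel ρ p L n := by
  obtain ⟨F, iF, iFF, S, -, -, -, hnat⟩ := hB
  obtain ⟨n, hn⟩ := IsPGroup.iff_card.1 (hA.isPGroup hamb)
  exact ⟨n, Nat.one_le_iff_ne_zero.2 fun h => hA.off.ne_bot (Subgroup.card_eq_one.1 (by rw [hn, h, pow_zero])),
    F, iF, iFF, by rw [S.card_F, hn], hnat⟩

/-- Blocks with different roots in `T` commute. -/
theorem Lin.pair (h : Lin ρ T N A L) (h' : Lin ρ T N A' L') (hne : A' ≠ A) : L' ≤ centFix ρ L := by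
  obtain ⟨F, _, _, S, -, hw, hgen, -⟩ := id h'.block
  have hA' : A' ≤ centFix ρ L := fun x hx => h.centralise h'.good h'.leT hne x hx
  have hA := h'.centralise h.good h.leT (Ne.symm hne)
  have hne' : RankOneFF.cj S.w A' ≠ A := by
    intro e
    refine h'.not_fix_w hgen (Subgroup.eq_of_le_of_card_ge (fun x hx => ?_) (card_cj _ _).ge)
    have hxA : x ∈ A := e ▸ hx
    have hc := (hA x hxA).1 S.w hw
    have e' : x = S.w⁻¹ * x * S.w := by
      calc x = S.w⁻¹ * (S.w * x) := by group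
        _ = _ := by rw [← hc, mul_assoc]
    rw [e']
    exact mem_cj.1 hx
  have hwA' : RankOneFF.cj S.w A' ≤ centFix ρ L := fun x hx =>
    h.block.centralises h.base h.good h.three (h'.good.cj _) hne'
      (fun a ha y hy => (hA a ha).1 y ((RankOneFF.cj_le h'.block.le hw) hy)) x hx
  exact hgen ▸ sup_le hA' hwA'

/-- An element normalizing the block and unipotent in coordinates has linear off-diagonal part. -/
theorem gamma_linear {F : Type} [Field F] [Fintype F] (S : Frame ρ A F) (hC0 : S.C0 = fx ρ L)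
    (hgen : A ⊔ RankOneFF.cj S.w A = L)
    {d : H} {g : F → F} (hgr : ∀ r, ρ d (S.f r) - S.f r - S.e (g r) ∈ S.C0)
    (he : ∀ s, ρ d (S.e s) - S.e s ∈ S.C0) (hwL : S.w ∈ L) (hd : RankOneFF.cj d L = L) (r : F) :
    g r = g 1 * r := by
  have hdec : ∀ v, ∃ c : F × F, v - (S.e c.1 + S.f c.2) ∈ S.C0 := fun v => by
    obtain ⟨a, b, c, hc', rfl⟩ := S.dec v
    exact ⟨(a, b), by rw [add_sub_cancel_left]; exact hc'⟩
  choose χ hχ using hdec
  have huniq : ∀ (v : W) (a b : F), v - (S.e a + S.f b) ∈ S.C0 → χ v = (a, b) := fun v a b hm => by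
    have h1 := sub_mem hm (hχ v)
    have := S.indep ((χ v).1 - a) ((χ v).2 - b) (by rw [map_sub, map_sub]; convert h1 using 1; abel)
    exact Prod.ext (sub_eq_zero.1 this.1) (sub_eq_zero.1 this.2)
  -- the generators act linearly in coordinates
  let P : Submonoid H :=
    { carrier := {x | ∀ (μ : F) (v v' : W), χ v' = (μ * (χ v).1, μ * (χ v).2) →
        χ (ρ x v') = (μ * (χ (ρ x v)).1, μ * (χ (ρ x v)).2)}
      one_mem' := fun μ v v' h => by rw [RankOneFF.act_one, RankOneFF.act_one]; exact h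
      mul_mem' := fun {x y} hx hy μ v v' h => by
        rw [act_mul, act_mul]
        exact hx μ _ _ (hy μ v v' h) }
  have hwχ : ∀ v, χ (ρ S.w v) = ((χ v).2, -(χ v).1) := fun v => by
    refine huniq _ _ _ ?_
    have h1 : ρ S.w (v - (S.e (χ v).1 + S.f (χ v).2)) ∈ S.C0 := by
      rw [S.w_C0 _ (hχ v)]
      exact hχ v
    rw [map_sub, map_add, S.w_e, S.w_f] at h1
    convert h1 using 1
    abel
  have hAχ : ∀ t v, χ (ρ (S.a t) v) = ((χ v).1 + t * (χ v).2, (χ v).2) := fun t v => by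
    refine huniq _ _ _ ?_
    have h1 : ρ (S.a t) (v - (S.e (χ v).1 + S.f (χ v).2)) ∈ S.C0 := by
      rw [S.C0_le (hχ v) _ (S.a_mem t)]
      exact hχ v
    have h2 := add_mem h1 (S.nu_mem t (χ v).2)
    rw [map_sub, map_add, S.e_mem _ _ (S.a_mem t), eq_add_of_sub_eq (S.act_eq t _)] at h2
    convert h2 using 1
    rw [map_add]
    abel
  have hwP : S.w ∈ P := fun μ v v' h => by
    rw [hwχ, hwχ, h]
    simp
  have hAP : ∀ t, S.a t ∈ P := fun t μ v v' h => by
    rw [hAχ, hAχ, h]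
    exact Prod.ext (show μ * (χ v).1 + t * (μ * (χ v).2) = μ * ((χ v).1 + t * (χ v).2) by ring) rfl
  have hLP : ∀ x ∈ L, x ∈ P := by
    intro x hx
    have hsub : L ≤ Subgroup.closure (P : Set H) := by
      have hA : A ≤ Subgroup.closure (P : Set H) := fun a ha => by
        obtain ⟨t, rfl⟩ := S.a_surj a ha
        exact Subgroup.subset_closure (hAP t)
      rw [← hgen]
      exact sup_le hA (RankOneFF.cj_le hA (Subgroup.subset_closure hwP))
    have := hsub hx
    rw [← Subgroup.mem_toSubmonoid, Subgroup.closure_toSubmonoid_of_finite, Submonoid.closure_eq] at this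
    exact this
  have hpres : ∀ c ∈ S.C0, ρ d c ∈ S.C0 ∧ ρ d⁻¹ c ∈ S.C0 := fun c hc => by
    have hd' : RankOneFF.cj d⁻¹ L = L := by
      conv_lhs => rw [← hd]
      rw [cj_cj, inv_mul_cancel, cj_one]
    rw [hC0] at hc ⊢
    exact ⟨hd ▸ act_mem_fx ρ d hc, hd' ▸ act_mem_fx ρ d⁻¹ hc⟩
  have hy : d * S.w * d⁻¹ ∈ P := hLP _ (hd ▸ conj_mem_cj d hwL)
  have hinv : ∀ r, ρ d⁻¹ (S.f r) - (S.e (-(g r)) + S.f r) ∈ S.C0 := fun r => by
    have h1 := (hpres _ (add_mem (hgr r) (he (-(g r))))).2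
    rw [show ρ d (S.f r) - S.f r - S.e (g r) + (ρ d (S.e (-(g r))) - S.e (-(g r))) =
        ρ d (S.e (-(g r)) + S.f r) - S.f r by rw [map_add, map_neg S.e]; abel, map_sub, RankOneFF.act_inv] at h1
    convert neg_mem h1 using 1
    abel
  have hval : ∀ r, χ (ρ (d * S.w * d⁻¹) (S.f r)) = (r + g (g r), g r) := fun r => by
    refine huniq _ _ _ ?_
    rw [act_mul, act_mul]
    have h1 := (hpres (ρ S.w (ρ d⁻¹ (S.f r) - (S.e (-(g r)) + S.f r))) (by rw [S.w_C0 _ (hinv r)]; exact hinv r)).1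
    have h2 := add_mem (add_mem h1 (he r)) (hgr (g r))
    rw [map_sub, map_sub, map_add, map_add, S.w_e, S.w_f, neg_neg] at h2
    convert h2 using 1
    rw [map_add]
    abel
  have h := hy r (S.f 1) (S.f r) (by
    rw [huniq (S.f 1) 0 1 (by rw [map_zero, zero_add, sub_self]; exact zero_mem _),
      huniq (S.f r) 0 r (by rw [map_zero, zero_add, sub_self]; exact zero_mem _), mul_zero, mul_one])
  rw [hval, hval] at h
  have h' := (Prod.ext_iff.1 h).2
  dsimp only at h'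
  rw [h', mul_comm]

/-- A good offender in a group normalizing its block splits off. -/
theorem LinearBlock.step (hc : Base ρ T N) (hA : Good ρ A) (hB : LinearBlock ρ A L) {D : Subgroup H}
    (hcomm : ∀ a ∈ D, ∀ b ∈ D, a * b = b * a) (hpow : ∀ a ∈ D, a ^ p = 1)
    (hwt : Nat.card W ≤ Nat.card D * Nat.card (fx ρ D)) (hAD : A ≤ D)
    (hnorm : ∀ d ∈ D, RankOneFF.cj d L = L) :
    ∃ D₁ ≤ D, D₁ ≠ D ∧ Nat.card W ≤ Nat.card D₁ * Nat.card (fx ρ D₁) ∧ D ≤ L ⊔ D₁ := by
  classical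
  obtain ⟨F, _, _, S, hC0, hwL, hgen, φ, ψ, hφ, hψ, hψ0, hψe⟩ := id hB
  have hAL := hB.le
  have hpres : ∀ d ∈ D, ∀ c ∈ S.C0, ρ d c ∈ S.C0 := fun d hd c hc' => by
    rw [hC0] at hc' ⊢
    exact hnorm d hd ▸ act_mem_fx ρ d hc'
  have hdA : ∀ d ∈ D, RankOneFF.cj d A = A := fun d hd =>
    Subgroup.eq_of_le_of_card_ge (fun x hx => by
      have h1 := mem_cj.1 hx
      have e : x = d⁻¹ * x * d := by
        calc x = d * (d⁻¹ * x * d) * d⁻¹ := by group
          _ = (d⁻¹ * x * d) * d * d⁻¹ := by rw [hcomm d hd _ (hAD h1)]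
          _ = _ := by group
      exact e.symm ▸ h1) (card_cj d A).ge
  -- the action of `D` in coordinates
  have hcoord : ∀ d ∈ D, ∃ (g : F → F) (t : F), (∀ r, ρ d (S.f r) - S.f r - S.e (t * r) ∈ S.C0) ∧
      ∀ s, ρ d (S.e s) - S.e s ∈ S.C0 := by
    intro d hd
    have he : ∀ s, ∃ s', ρ d (S.e s) - S.e s' ∈ S.C0 := fun s => by
      obtain ⟨s', c, hc', hs'⟩ := (S.mem_fx_iff _).1 (hdA d hd ▸ act_mem_fx ρ d (S.e_mem s))
      exact ⟨s', by rw [hs', add_sub_cancel_left]; exact hc'⟩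
    choose ε hε using he
    have hf : ∀ r, ∃ g r', ρ d (S.f r) - S.e g - S.f r' ∈ S.C0 := fun r => by
      obtain ⟨g, r', c, hc', hs'⟩ := S.dec (ρ d (S.f r))
      exact ⟨g, r', by rw [hs']; convert hc' using 1; abel⟩
    choose g δ hgδ using hf
    have huniq : ∀ {s r s' r' : F}, S.e s + S.f r - (S.e s' + S.f r') ∈ S.C0 → s = s' ∧ r = r' := by
      intro s r s' r' hm
      have := S.indep (s - s') (r - r') (by rw [map_sub, map_sub]; convert hm using 1; abel)
      exact ⟨sub_eq_zero.1 this.1, sub_eq_zero.1 this.2⟩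
    have hrel : ∀ s r, ε (s * r) = s * δ r := by
      intro s r
      have hcd := hcomm d hd _ (hAD (S.a_mem s))
      have h1 : ρ d (ρ (S.a s) (S.f r)) = ρ (S.a s) (ρ d (S.f r)) := by rw [← act_mul, hcd, act_mul]
      have hR : ρ d (S.f r) = S.e (g r) + S.f (δ r) + (ρ d (S.f r) - S.e (g r) - S.f (δ r)) := by abel
      rw [eq_add_of_sub_eq (S.act_eq s r), map_add, map_add, hR, map_add, map_add, S.e_mem _ _ (S.a_mem s),
        S.C0_le (hgδ r) _ (S.a_mem s), eq_add_of_sub_eq (S.act_eq s (δ r))] at h1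
      refine (huniq (r := 0) (r' := 0) ?_).1
      rw [map_zero, add_zero, add_zero]
      have h2 := sub_mem (sub_mem (S.nu_mem s (δ r)) (hε (s * r))) (hpres d hd _ (S.nu_mem s r))
      convert h2 using 1
      have h3 : ρ d (S.e (s * r)) + ρ d (S.nu s r) = S.e (s * δ r) + S.nu s (δ r) := by
        refine add_right_cancel (b := S.e (g r) + S.f (δ r) + (ρ d (S.f r) - S.e (g r) - S.f (δ r))) ?_
        convert h1 using 1 <;> abel
      rw [eq_sub_of_add_eq h3]
      abel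
    have hκ : ∀ r, δ r = δ 1 * r := fun r => by
      have h1 := hrel 1 r
      have h2 := hrel r 1
      rw [one_mul, one_mul] at h1
      rw [mul_one] at h2
      rw [← h1, h2, mul_comm]
    have hεκ : ∀ s, ε s = δ 1 * s := fun s => by
      have h2 := hrel s 1
      rw [mul_one] at h2
      rw [h2, mul_comm]
    have hpowe : ∀ n : ℕ, ρ (d ^ n) (S.e 1) - S.e (δ 1 ^ n) ∈ S.C0 := by
      intro n
      induction n with
      | zero => rw [pow_zero, pow_zero, RankOneFF.act_one, sub_self]; exact zero_mem _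
      | succ n ih =>
        have h1 := add_mem (hpres d hd _ ih) (hε (δ 1 ^ n))
        rw [map_sub, sub_add_sub_cancel, hεκ, ← act_mul, ← pow_succ', ← pow_succ'] at h1
        exact h1
    haveI : CharP F p := by
      obtain ⟨n, hn⟩ := IsPGroup.iff_card.1 (hA.isPGroup hc.amb)
      exact charP_of_card_eq_prime_pow (by rw [S.card_F, hn])
    have hκ1 : δ 1 = 1 := by
      have h1 := hpowe p
      rw [hpow d hd, RankOneFF.act_one] at h1
      have h2 : δ 1 ^ p = 1 := ((huniq (s := 1) (r := 0) (s' := δ 1 ^ p) (r' := 0)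
        (by rw [map_zero, add_zero, add_zero]; exact h1)).1).symm
      refine sub_eq_zero.1 ((pow_eq_zero_iff (Fact.out : p.Prime).ne_zero).1 ?_)
      rw [sub_pow_char, h2, one_pow, sub_self]
    refine ⟨g, g 1, fun r => ?_, fun s => by have := hε s; rwa [hεκ, hκ1, one_mul] at this⟩
    have hgr : ∀ r, ρ d (S.f r) - S.f r - S.e (g r) ∈ S.C0 := fun r => by
      have := hgδ r
      rw [hκ, hκ1, one_mul] at this
      convert this using 1
      abel
    suffices hlin : g r = g 1 * r by rw [← hlin]; exact hgr r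
    -- conjugating a lower transvection
    exact gamma_linear S hC0 hgen hgr (fun s => by have := hε s; rwa [hεκ, hκ1, one_mul] at this)
      hwL (hnorm d hd) r
  choose g t ht hte using hcoord
  have hAd : ∀ d (hd : d ∈ D), ∀ v, ρ ((S.a (t d hd))⁻¹ * d) v - v ∈ S.C0 := by
    intro d hd v
    obtain ⟨s, r, c, hc', rfl⟩ := S.dec v
    set x := (S.a (t d hd))⁻¹
    have hxe : ∀ s, ρ x (S.e s) = S.e s := fun s => S.e_mem s _ (inv_mem (S.a_mem _))
    have hxc : ∀ c ∈ S.C0, ρ x c = c := fun c hc => S.C0_le hc _ (inv_mem (S.a_mem _))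
    have hxf : ρ x (S.f r) - S.f r + S.e (t d hd * r) ∈ S.C0 := by
      have := neg_mem (S.nu_mem (t d hd) r)
      convert this using 1
      rw [show ρ x (S.f r) - S.f r = -(ρ (S.a (t d hd)) (S.f r) - S.f r) from hA.off.comm_inv ρ (S.a_mem _) _,
        S.act_eq]
      abel
    have h1 := ht d hd r
    have h2 := hte d hd s
    have h3 := hpres d hd c hc'
    have e : ρ (x * d) (S.e s + S.f r + c) - (S.e s + S.f r + c) =
        (ρ d (S.e s) - S.e s) + (ρ d (S.f r) - S.f r - S.e (t d hd * r)) +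
          (ρ x (S.f r) - S.f r + S.e (t d hd * r)) + (ρ d c - c) := by
      have e1 := hxc _ h1
      have e2 := hxc _ h2
      have e3 := hxc _ h3
      simp only [map_sub] at e1 e2
      rw [act_mul, map_add, map_add, map_add, map_add, e3,
        show ρ x (ρ d (S.f r)) = ρ x (ρ d (S.f r) - S.f r - S.e (t d hd * r)) + ρ x (S.f r) +
          ρ x (S.e (t d hd * r)) by simp only [map_sub]; abel,
        show ρ x (ρ d (S.e s)) = ρ x (ρ d (S.e s) - S.e s) + ρ x (S.e s) by simp only [map_sub]; abel,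
        hxc _ h1, hxc _ h2, hxe, hxe]
      abel
    rw [e]
    exact add_mem (add_mem (add_mem h2 h1) hxf) (sub_mem h3 hc')
  set D₁ : Subgroup H := D ⊓ centFix ρ L with hD₁
  have hmem : ∀ d (hd : d ∈ D), (S.a (t d hd))⁻¹ * d ∈ D₁ := by
    intro d hd
    have hxD : (S.a (t d hd))⁻¹ * d ∈ D := mul_mem (inv_mem (hAD (S.a_mem _))) hd
    refine Subgroup.mem_inf.2 ⟨hxD, mem_centFix.2 ⟨fun l hl => ?_, fun v => hC0 ▸ hAd d hd v⟩⟩
    set x := (S.a (t d hd))⁻¹ * d with hx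
    have hxC : ∀ v, ρ x v - v ∈ S.C0 := hAd d hd
    have hm : x * l * x⁻¹ ∈ L := hnorm x hxD ▸ conj_mem_cj x hl
    have hone : (⟨l, hl⟩ : L)⁻¹ * ⟨x * l * x⁻¹, hm⟩ = 1 := by
      refine hφ.1 (Subtype.ext ?_)
      rw [map_one]
      refine Matrix.ext_of_mulVec_single fun i => ?_
      obtain ⟨v, hv⟩ := hψ (Pi.single i 1)
      have hψx : ∀ v, ψ (ρ x v) = ψ v := fun v => by
        rw [← sub_eq_zero, ← map_sub, hψ0, ← hC0]; exact hxC v
      rw [← hv, ← hψe, Matrix.SpecialLinearGroup.coe_one, Matrix.one_mulVec, Subgroup.coe_mul]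
      show ψ (ρ ((((⟨l, hl⟩ : L)⁻¹ : L) : H) * (x * l * x⁻¹)) v) = ψ v
      rw [act_mul, hψe, act_mul, act_mul, hψx, show ψ (ρ l (ρ x⁻¹ v)) = _ from hψe ⟨l, hl⟩ _, ← hψx (ρ x⁻¹ v),
        act_inv', Matrix.mulVec_mulVec, ← Matrix.SpecialLinearGroup.coe_mul, ← map_mul, inv_mul_cancel, map_one,
        Matrix.SpecialLinearGroup.coe_one, Matrix.one_mulVec]
    have e : x * l * x⁻¹ = l := congrArg Subtype.val (inv_mul_eq_one.1 hone).symm
    exact mul_inv_eq_iff_eq_mul.1 e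
  have hDle : D ≤ A ⊔ D₁ := fun d hd => by
    have h1 := mul_mem (Subgroup.mem_sup_left (T := D₁) (S.a_mem (t d hd))) (Subgroup.mem_sup_right (hmem d hd))
    rwa [mul_inv_cancel_left] at h1
  have hcard : Nat.card D ≤ Nat.card F * Nat.card D₁ := by
    rw [← Nat.card_prod]
    refine Nat.card_le_card_of_injective (fun d : D => (t d d.2, (⟨_, hmem d d.2⟩ : D₁))) fun d d' e => ?_
    obtain ⟨e1, e2⟩ := Prod.ext_iff.1 e
    have e3 : (S.a (t d d.2))⁻¹ * (d : H) = (S.a (t d' d'.2))⁻¹ * (d' : H) := congrArg Subtype.val e2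
    rw [show t d d.2 = t d' d'.2 from e1] at e3
    exact Subtype.ext (mul_left_cancel e3)
  have hfix : Nat.card F * Nat.card (fx ρ D) ≤ Nat.card (fx ρ D₁) := by
    rw [← Nat.card_prod]
    have hu : ∀ r : F, ∃ u ∈ fx ρ D₁, ψ u = ψ (S.f r) := fun r => by
      obtain ⟨u, hu, hd⟩ := hB.split (S.f r)
      refine ⟨u, commSub_mem_fx (fun l hl y hy v => ?_) hu, ?_⟩
      · have hy' := (Subgroup.mem_inf.1 hy).2
        rw [← sub_eq_zero, ← act_comm_sub (hy'.1 l hl), hy'.2 v l hl, sub_self]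
      · rw [eq_comm, ← sub_eq_zero, ← map_sub, hψ0]
        exact hd
    choose u hu hψu using hu
    refine Nat.card_le_card_of_injective (fun z : F × fx ρ D => (⟨u z.1 + (z.2 : W),
      add_mem (hu z.1) (fx_anti ρ inf_le_left z.2.2)⟩ : fx ρ D₁)) ?_
    rintro ⟨r, c⟩ ⟨r', c'⟩ e
    have e' : u r + (c : W) = u r' + (c' : W) := congrArg Subtype.val e
    obtain ⟨s₁, c₁, hc₁, hs₁⟩ := (S.mem_fx_iff _).1 (fx_anti ρ hAD c.2)
    obtain ⟨s₂, c₂, hc₂, hs₂⟩ := (S.mem_fx_iff _).1 (fx_anti ρ hAD c'.2)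
    have h1 := congrArg ψ e'
    rw [map_add, map_add, hψu, hψu, ← map_add, ← map_add, ← sub_eq_zero, ← map_sub, hψ0, ← hC0, hs₁, hs₂] at h1
    obtain ⟨-, hr⟩ := S.indep (s₁ - s₂) (r - r') (by
      have := add_mem h1 (sub_mem hc₂ hc₁)
      convert this using 1
      rw [map_sub, map_sub]
      abel)
    obtain rfl := sub_eq_zero.1 hr
    exact Prod.ext rfl (Subtype.ext (add_left_cancel e'))
  refine ⟨D₁, inf_le_left, fun e => hA.off.ne_bot (eq_bot_iff.2 fun a ha => ?_), ?_,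
    hDle.trans (sup_le_sup_right hAL _)⟩
  · have ha' : a ∈ centFix ρ L := (Subgroup.mem_inf.1 (e.symm ▸ hAD ha : a ∈ D₁)).2
    obtain ⟨s, rfl⟩ := S.a_surj a ha
    have h1 := hC0 ▸ ha'.2 (S.f 1)
    rw [S.act_eq, mul_one, AddSubgroup.add_mem_cancel_right _ (S.nu_mem _ _)] at h1
    obtain ⟨hs, -⟩ := S.indep s 0 (by rwa [map_zero, add_zero])
    rw [hs, S.a_zero]
    exact one_mem _
  · refine hwt.trans (le_trans (Nat.mul_le_mul_right _ hcard) ?_)
    rw [mul_comm (Nat.card F), mul_assoc]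
    exact Nat.mul_le_mul_left _ hfix

/-- The family of blocks over a root. -/
theorem Lin.exists_family (h : Lin ρ T N A L) : ∃ (r : ℕ) (E : Fin r → Subgroup H), Family ρ T E := by
  classical
  let ι := {X : Subgroup H // Good ρ X ∧ X ≤ (T : Subgroup H)}
  choose τ hτT hτ using fun X : ι => h.orbit X.2.1 X.2.2
  let e : Fin (Nat.card ι) ≃ ι := (Finite.equivFin ι).symm
  let B : ι → Subgroup H := fun X => RankOneFF.cj (τ X) L
  have hlin : ∀ X : ι, Lin ρ T N X.1 (B X) := fun X => by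
    have := h.transport (hτT X)
    rwa [hτ X] at this
  have hB : ∀ (X : ι) (t : H), t ∈ (T : Subgroup H) → RankOneFF.cj t A = X.1 → RankOneFF.cj t L = B X := by
    intro X t ht he
    have hfix : RankOneFF.cj ((τ X)⁻¹ * t) A = A := by
      rw [← cj_cj, he, ← hτ X, cj_cj, inv_mul_cancel, cj_one]
    have := congrArg (RankOneFF.cj (τ X)) (h.fix_block (mul_mem (inv_mem (hτT X)) ht) hfix)
    rwa [cj_cj, mul_inv_cancel_left] at this
  have hpair : ∀ X Y : ι, X ≠ Y → B Y ≤ centFix ρ (B X) := fun X Y hne =>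
    (hlin X).pair (hlin Y) fun e' => hne (Subtype.ext e'.symm)
  have hact : ∀ t ∈ (T : Subgroup H), ∀ X : ι, ∃ Y : ι, RankOneFF.cj t X.1 = Y.1 ∧ RankOneFF.cj t (B X) = B Y := by
    intro t ht X
    refine ⟨⟨RankOneFF.cj t X.1, X.2.1.cj t, RankOneFF.cj_le X.2.2 ht⟩, rfl, ?_⟩
    show RankOneFF.cj t (RankOneFF.cj (τ X) L) = _
    rw [cj_cj]
    exact hB _ _ (mul_mem ht (hτT X)) (by rw [← cj_cj, hτ X])
  let i₀ : ι := ⟨A, h.good, h.leT⟩
  have hi₀ : B i₀ = L := by rw [← hB i₀ 1 (one_mem _) (cj_one A), cj_one]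
  set Z : Subgroup H := ⨆ i, B (e i) with hZ
  have hBZ : ∀ X : ι, B X ≤ Z := fun X => le_iSup_of_le (e.symm X) (by rw [e.apply_symm_apply])
  have htop : Z ⊔ (T : Subgroup H) = ⊤ :=
    eq_top_iff.2 (h.sup_T.ge.trans (sup_le_sup_right (hi₀ ▸ hBZ i₀) _))
  have hZN : ∀ X : ι, Z ≤ Subgroup.normalizer (B X : Set H) := fun X => iSup_le fun i => by
    by_cases e' : X = e i
    · rw [← e']
      exact Subgroup.le_normalizer
    · exact (hpair X (e i) e').trans centFix_le_normalizer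
  haveI hZn : Z.Normal := by
    rw [← Subgroup.normalizer_eq_top_iff, eq_top_iff, ← htop]
    refine sup_le Subgroup.le_normalizer (le_normalizer_of_map_conj fun t ht => ?_)
    refine Subgroup.eq_of_le_of_card_ge ?_ (card_cj t Z).ge
    rw [hZ, Subgroup.map_iSup]
    refine iSup_le fun i => ?_
    obtain ⟨Y, -, hY⟩ := hact t ht (e i)
    exact hY.le.trans (hBZ Y)
  have hdecomp : ∀ g : H, ∃ z ∈ Z, ∃ t ∈ (T : Subgroup H), g = z * t := fun g => by
    obtain ⟨z, hz, t, ht, he⟩ := Subgroup.mem_sup_of_normal_left.1 (htop.symm ▸ Subgroup.mem_top g : g ∈ Z ⊔ T)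
    exact ⟨z, hz, t, ht, he.symm⟩
  have hinside : ∀ Y, Good ρ Y → ∃ X : ι, ∃ z ∈ Z, Y = RankOneFF.cj z X.1 ∧ Y ≤ B X := by
    intro Y hY
    obtain ⟨P, hP⟩ := (hY.isPGroup h.base.amb).exists_le_sylow
    obtain ⟨g, hg⟩ := MulAction.exists_smul_eq H P T
    obtain ⟨t, ht, hte⟩ := h.orbit (hY.cj g) (hg ▸ Subgroup.map_mono hP)
    obtain ⟨z, hz, t', ht', he⟩ := hdecomp (g⁻¹ * t)
    have hYe : Y = RankOneFF.cj (g⁻¹ * t) A := by rw [← cj_cj, hte, cj_cj, inv_mul_cancel, cj_one]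
    rw [he, ← cj_cj] at hYe
    obtain ⟨X, hX, -⟩ := hact t' ht' i₀
    rw [show RankOneFF.cj t' A = X.1 from hX] at hYe
    refine ⟨X, z, hz, hYe, hYe.le.trans ?_⟩
    rw [← map_conj_eq_iff.2 (hZN X hz)]
    exact Subgroup.map_mono (hlin X).block.le
  have hcf : ∀ i : Fin (Nat.card ι), ∀ x ∈ B (e i), x ∈ centFix ρ (B (e i)) → x = 1 := by
    intro i x hx hcx
    obtain ⟨F, _, _, S, -, -, -, φ, ψ, hφ, hψ, hψ0, hψe⟩ := (hlin (e i)).block
    have : (⟨x, hx⟩ : B (e i)) = 1 := by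
      refine hφ.1 (Subtype.ext ?_)
      rw [map_one]
      refine Matrix.ext_of_mulVec_single fun j => ?_
      obtain ⟨v, hv⟩ := hψ (Pi.single j 1)
      rw [← hv, ← hψe, Matrix.SpecialLinearGroup.coe_one, Matrix.one_mulVec, ← sub_eq_zero, ← map_sub, hψ0]
      exact hcx.2 v
    exact congrArg Subtype.val this
  refine ⟨_, fun i => B (e i), ?_, ?_, ?_, ?_, htop, ?_, ?_, fun i v => (hlin (e i)).block.split v,
    fun i => ?_⟩
  · intro i j
    refine ⟨τ (e j) * (τ (e i))⁻¹, mul_mem (hτT _) (inv_mem (hτT _)), ?_⟩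
    show RankOneFF.cj _ (RankOneFF.cj (τ (e i)) L) = _
    rw [cj_cj, inv_mul_cancel_right]
  · exact fun i j hij x hx y hy => (hpair (e j) (e i) (fun e' => hij (e.injective e').symm) hx).1 y hy
  · exact fun i j hij x hx y hy v => (hpair (e j) (e i) (fun e' => hij (e.injective e').symm) hx).2 v y hy
  · intro i
    rw [eq_bot_iff]
    intro x hx
    refine (Subgroup.mem_bot).2 (hcf i x (Subgroup.mem_inf.1 hx).1 ?_)
    exact (iSup_le fun j => iSup_le fun hj => hpair (e i) (e j) fun e' => hj (e.injective e').symm :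
      (⨆ j ∈ {j | j ≠ i}, B (e j)) ≤ centFix ρ (B (e i))) (Subgroup.mem_inf.1 hx).2
  · intro J hJ Y hY hYJ i
    obtain ⟨X, z, -, hYe, -⟩ := hinside Y hY
    have hconj : ∀ (g : H) (K : Subgroup H), K ≤ J → RankOneFF.cj g K ≤ J := fun g K hK x hx => by
      have := hJ.conj_mem _ (hK (mem_cj.1 hx)) g
      simpa [mul_assoc] using this
    obtain ⟨F, _, _, S, -, -, hgen, -⟩ := (hlin (e i)).block
    have hi : (e i).1 ≤ J := by
      have h1 : X.1 ≤ J := by
        have := hconj z⁻¹ _ hYJ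
        rwa [hYe, cj_cj, inv_mul_cancel, cj_one] at this
      have h2 := hconj (τ (e i) * (τ X)⁻¹) _ h1
      rwa [← hτ X, cj_cj, inv_mul_cancel_right, hτ] at h2
    exact hgen.ge.trans (sup_le hi (hconj _ _ hi))
  · refine offender_le h.base fun D hcomm hpow hwt Y hYD hY => ?_
    obtain ⟨X, z, hz, hYe, hYX⟩ := hinside Y hY
    have hblk : LinearBlock ρ Y (B X) := by
      have := (hlin X).block.cj z
      rwa [← hYe, RankOneFF.cj, map_conj_eq_iff.2 (hZN X hz)] at this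
    obtain ⟨D₁, h1, h2, h3, h4⟩ := hblk.step h.base hY hcomm hpow hwt hYD fun d hd => by
      obtain ⟨z', hz', t', ht', hde⟩ := hdecomp d
      obtain ⟨X', -, hX'⟩ := hact t' ht' X
      have hdB : RankOneFF.cj d (B X) = B X' := by
        rw [hde, ← cj_cj, hX', RankOneFF.cj, map_conj_eq_iff.2 (hZN X' hz')]
      by_cases e' : X = X'
      · exact hdB.trans (congrArg B e'.symm)
      · exfalso
        refine hY.off.ne_bot (eq_bot_iff.2 fun y hy => (Subgroup.mem_bot).2 ?_)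
        have hy' : y ∈ B X' := hdB ▸ by
          have : d * y * d⁻¹ = y := by rw [hcomm d hd y (hYD hy), mul_inv_cancel_right]
          exact this ▸ conj_mem_cj d (hYX hy)
        have h5 := hcf (e.symm X) y (by rw [e.apply_symm_apply]; exact hYX hy)
        rw [e.apply_symm_apply] at h5
        exact h5 (hpair X X' e' hy')
    exact ⟨D₁, fun a ha b hb => hcomm a (h1 ha) b (h1 hb), fun a ha => hpow a (h1 ha),
      lt_of_le_of_ne (Subgroup.card_le_of_le h1) fun e => h2 (Subgroup.eq_of_le_of_card_ge h1 e.ge),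
      h3, h4.trans (sup_le_sup_right (hBZ X) _)⟩
  · obtain ⟨n, hn, hmodel⟩ := (hlin (e i)).block.slModel h.base.amb (hlin (e i)).good
    exact ⟨n, hn, Or.inl hmodel⟩

/-- A good offender of order at least three gives a family. -/
theorem exists_family_of_linear (hc : Base ρ T N) {A₀ : Subgroup H} (hA₀ : Good ρ A₀) (h3 : 3 ≤ Nat.card A₀) :
    ∃ (r : ℕ) (E : Fin r → Subgroup H), Family ρ T E := by
  obtain ⟨P, hP⟩ := (hA₀.isPGroup hc.amb).exists_le_sylow
  obtain ⟨g, hg⟩ := MulAction.exists_smul_eq H P T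
  have hex : ∃ B ≤ (T : Subgroup H), Good ρ B ∧ 3 ≤ Nat.card B :=
    ⟨_, hg ▸ Subgroup.map_mono hP, hA₀.cj g, by rw [card_cj]; exact h3⟩
  obtain ⟨B, L, hB, hBL, hLN, hloc, hmin⟩ := CfsgLib.Fsys.CentralTorus.exists_isolated
    (Q := fun B => Good ρ B ∧ 3 ≤ Nat.card B) (fun g B h => ⟨h.1.cj g, by rw [card_cj]; exact h.2⟩) T N hc.ne_top
    hc.overgroup hc.core (fun B hB => hB.1.off.ne_bot) hex
  obtain ⟨hBN, -⟩ := hloc B hBL (hB.1.isPGroup hc.amb) le_rfl
  obtain ⟨u, hu, hle⟩ := hc.exists_sylow (hB.1.isPGroup hc.amb) hBN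
  refine Lin.exists_family (A := RankOneFF.cj u⁻¹ B) (L := RankOneFF.cj u⁻¹ L) ⟨hc, hB.1.cj _,
    cj_mem_of_conj hle, by rw [card_cj]; exact hB.2,
    ((block_of_isolated hc hB.1.off hB.1.strict hBL hLN hloc hmin).2.2 hB.2).cj _, fun h => hLN fun x hx => ?_⟩
  have h1 := h (conj_mem_cj u⁻¹ hx)
  have h2 := mul_mem (mul_mem hu h1) (inv_mem hu)
  simpa [mul_assoc] using h2

end CfsgLib.LocalEven.MovesFixed
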