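import Cfsg.Agent.Lib.LocalEven.MovesFixed.Linear
import Cfsg.Agent.Lib.FusionSystem.CentralTorus.Climb

/-!
A good offender of order at least three with a block outside `N`: the good offenders in `T` are its conjugates,
and the block is the only one with this root.
-/

set_option autoImplicit false
set_option linter.unusedSectionVars false
set_option linter.style.haveILetI false

namespace CfsgLib.LocalEven.MovesFixed

open CfsgLib.LocalEven.RankOneFF CfsgLib.LocalEven.SylowIn CfsgLib.Fsys.CentralTorus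

variable {H : Type*} [Group H] [Finite H] {W : Type*} [AddCommGroup W] [Finite W] {p : ℕ} [Fact p.Prime]
  {ρ : H →* AddMonoid.End W} {T : Sylow p H} {N : Subgroup H} {A L X : Subgroup H}

/-- A root in `T` with its block. -/
structure Lin (ρ : H →* AddMonoid.End W) (T : Sylow p H) (N A L : Subgroup H) : Prop where
  base : Base ρ T N
  good : Good ρ A
  leT : A ≤ (T : Subgroup H)
  three : 3 ≤ Nat.card A
  block : LinearBlock ρ A L
  outside : ¬ L ≤ N

theorem Base.cj_le_N (hc : Base ρ T N) {u : H} (hu : u ∈ N) {X : Subgroup H} (hX : X ≤ N) :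
    RankOneFF.cj u X ≤ N := RankOneFF.cj_le hX hu

/-- A `p`-subgroup of `N` is in an `N`-conjugate of `T`. -/
theorem Base.exists_sylow (hc : Base ρ T N) {R : Subgroup H} (hR : IsPGroup p R) (hRN : R ≤ N) :
    ∃ u ∈ N, R ≤ RankOneFF.cj u (T : Subgroup H) := by
  obtain ⟨R', hR', hle⟩ := exists_isSylowIn N hRN hR
  obtain ⟨u, hu, rfl⟩ :=
    IsSylowIn.conjugate (⟨hc.le, T.2, fun U _ hU hle => T.3 hU hle⟩ : IsSylowIn p (T : Subgroup H) N) hR'
  exact ⟨u, hu, hle⟩

theorem cj_mem_of_conj {g : H} {X Y : Subgroup H} (h : X ≤ RankOneFF.cj g Y) : RankOneFF.cj g⁻¹ X ≤ Y := by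
  have := Subgroup.map_mono (f := (MulAut.conj g⁻¹).toMonoidHom) h
  rwa [map_conj_conj, inv_mul_cancel, map_conj_one] at this

namespace Lin

variable (h : Lin ρ T N A L)

include h

theorem sup_T : L ⊔ (T : Subgroup H) = ⊤ := by
  by_contra e
  exact h.outside (le_sup_left.trans (h.base.overgroup _ le_sup_right e))

theorem transport {t : H} (ht : t ∈ (T : Subgroup H)) : Lin ρ T N (RankOneFF.cj t A) (RankOneFF.cj t L) where
  base := h.base
  good := h.good.cj t
  leT := RankOneFF.cj_le h.leT ht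
  three := by rw [card_cj]; exact h.three
  block := h.block.cj t
  outside hle := h.outside fun x hx => by
    have h1 := hle (conj_mem_cj t hx)
    have h2 := mul_mem (mul_mem (inv_mem (h.base.le ht)) h1) (h.base.le ht)
    simpa [mul_assoc] using h2

/-- The other good offenders in `T` centralise the block. -/
theorem centralise (hX : Good ρ X) (hXT : X ≤ (T : Subgroup H)) (hne : X ≠ A) :
    ∀ x ∈ X, (∀ l ∈ L, x * l = l * x) ∧ ∀ v, ρ x v - v ∈ fx ρ L :=
  h.block.centralises h.base h.good h.three hX hne (comm_of_pgroup h.base T T.2 A X h.leT hXT h.good hX)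

/-- The good offenders in `T` form one orbit. -/
theorem orbit (hX : Good ρ X) (hXT : X ≤ (T : Subgroup H)) :
    ∃ t ∈ (T : Subgroup H), RankOneFF.cj t A = X := by
  by_contra hall
  push Not at hall
  set Z : Subgroup H := ⨆ t : (T : Subgroup H), RankOneFF.cj (t : H) L with hZ
  have hLZ : L ≤ Z := le_iSup_of_le (1 : (T : Subgroup H)) (by rw [Subgroup.coe_one, cj_one])
  have hZn : Z.Normal := by
    rw [← Subgroup.normalizer_eq_top_iff, eq_top_iff, ← h.sup_T]
    refine sup_le (hLZ.trans Subgroup.le_normalizer) (le_normalizer_of_map_conj fun t ht => ?_)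
    refine Subgroup.eq_of_le_of_card_ge ?_ (card_cj t Z).ge
    rw [hZ, Subgroup.map_iSup]
    refine iSup_le fun t' => ?_
    rw [map_conj_conj]
    exact le_iSup_of_le (⟨t, ht⟩ * t' : (T : Subgroup H)) le_rfl
  have hXZ : X ≤ Subgroup.centralizer (Z : Set H) := by
    refine Subgroup.le_centralizer_iff.1 (iSup_le fun t l hl => Subgroup.mem_centralizer_iff.2 fun x hx => ?_)
    exact ((h.transport t.2).centralise hX hXT (fun e => hall t t.2 e.symm) x hx).1 l hl
  haveI := hZn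
  have htop := normal_sup_eq_top h.base hX hXZ
  set B := gen (fun Y => Y ≤ Z ∧ ∃ t ∈ (T : Subgroup H), RankOneFF.cj t A = Y) (T : Subgroup H) with hB
  have hAB : A ≤ B := le_gen ⟨h.block.le.trans hLZ, 1, one_mem _, cj_one A⟩ h.leT
  have hBn : B.Normal := by
    rw [← Subgroup.normalizer_eq_top_iff, eq_top_iff, ← htop]
    refine sup_le ?_ (le_normalizer_of_map_conj fun t ht => ?_)
    · refine le_trans ?_ (Subgroup.centralizer_le_normalizer _)
      exact Subgroup.centralizer_le (SetLike.coe_subset_coe.2 ((sSup_le fun Y hY => hY.1.1 : B ≤ Z)))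
    · refine Subgroup.eq_of_le_of_card_ge ?_ (card_cj t B).ge
      rw [hB, gen, Subgroup.map_le_iff_le_comap]
      refine sSup_le fun Y hY => Subgroup.map_le_iff_le_comap.1 ?_
      obtain ⟨⟨hYZ, t', ht', rfl⟩, hYT⟩ := hY
      rw [map_conj_conj]
      refine le_gen ⟨le_trans ?_ (map_conj_eq_iff.2 ((Subgroup.normalizer_eq_top_iff.2 hZn).symm ▸ Subgroup.mem_top t)).le,
        t * t', mul_mem ht ht', rfl⟩ (RankOneFF.cj_le h.leT (mul_mem ht ht'))
      rw [← map_conj_conj]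
      exact Subgroup.map_mono hYZ
  exact h.good.off.ne_bot (le_bot_iff.1 (hAB.trans (h.base.core B hBn (T.2.to_le (gen_le _ _))).le))

theorem card_eq (hX : Good ρ X) : Nat.card X = Nat.card A := by
  obtain ⟨P, hP⟩ := (hX.isPGroup h.base.amb).exists_le_sylow
  obtain ⟨g, hg⟩ := MulAction.exists_smul_eq H P T
  obtain ⟨t, -, ht⟩ := h.orbit (hX.cj g) (hg ▸ Subgroup.map_mono hP)
  rw [← card_cj g X, ← ht, card_cj]

theorem not_fix_w {w : H} (hw : A ⊔ RankOneFF.cj w A = L) (e : RankOneFF.cj w A = A) : False := by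
  rw [e, sup_idem] at hw
  exact h.outside (hw ▸ h.leT.trans h.base.le)

/-- The good offenders in `T` other than `A`. -/
theorem others_le_centralizer :
    gen (fun Y => Good ρ Y ∧ Y ≠ A) (T : Subgroup H) ≤ Subgroup.centralizer (L : Set H) :=
  sSup_le fun Y hY y hy => Subgroup.mem_centralizer_iff.2 fun l hl =>
    ((h.centralise hY.1.1 hY.2 hY.1.2 y hy).1 l hl).symm

theorem block_le_normalizer :
    L ≤ Subgroup.normalizer ((gen (fun Y => Good ρ Y ∧ Y ≠ A) (T : Subgroup H) : Subgroup H) : Set H) :=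
  (Subgroup.le_centralizer_iff.1 h.others_le_centralizer).trans (Subgroup.centralizer_le_normalizer _)

theorem not_le_others : ¬ A ≤ gen (fun Y => Good ρ Y ∧ Y ≠ A) (T : Subgroup H) := by
  intro hle
  obtain ⟨F, _, _, S, -, hw, hgen, -⟩ := h.block
  refine h.not_fix_w hgen (Subgroup.eq_of_le_of_card_ge (fun x hx => ?_) (card_cj _ _).ge)
  have hc := Subgroup.mem_centralizer_iff.1 (h.others_le_centralizer (hle (mem_cj.1 hx))) S.w hw
  have e : x = S.w⁻¹ * x * S.w := by
    calc x = S.w * (S.w⁻¹ * x * S.w) * S.w⁻¹ := by group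
      _ = (S.w⁻¹ * x * S.w) * S.w * S.w⁻¹ := by rw [hc]
      _ = _ := by group
  rw [e]
  exact mem_cj.1 hx

/-- Isolation in the normalizer of the other good offenders. -/
theorem loc {U : Subgroup H} (hU : U = gen (fun Y => Good ρ Y ∧ Y ≠ A) (T : Subgroup H)) (hX : Good ρ X)
    (hXN : X ≤ N) (hXU : ¬ X ≤ U) : Loc p N (Subgroup.normalizer (U : Set H)) X := by
  classical
  intro R hRL hR hXR
  have hUT : U ≤ (T : Subgroup H) := hU ▸ gen_le _ _
  have hUR : IsPGroup p (U ⊔ R : Subgroup H) := (T.2.to_le hUT).to_sup_of_normal_left' hR hRL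
  set R₀ := (U ⊔ R) ⊓ N with hR₀
  obtain ⟨u, hu, hR₀T⟩ := h.base.exists_sylow (R := R₀) (hUR.to_le inf_le_left) inf_le_right
  set S₁ : Set (Subgroup H) := {Y | Good ρ Y ∧ Y ≤ (T : Subgroup H)}
  set S₂ : Set (Subgroup H) := {Y | Good ρ Y ∧ Y ≤ R₀}
  have hsub : S₂ ⊆ RankOneFF.cj u '' S₁ := fun Y hY =>
    ⟨RankOneFF.cj u⁻¹ Y, ⟨hY.1.cj _, cj_mem_of_conj (hY.2.trans hR₀T)⟩, by
      rw [cj_cj, mul_inv_cancel, cj_one]⟩
  have hsup : insert X (S₁ \ {A}) ⊆ S₂ := by
    rintro Y (rfl | ⟨hY, hne⟩)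
    · exact ⟨hX, le_inf (hXR.trans le_sup_right) hXN⟩
    · have hYU : Y ≤ U := hU ▸ le_gen ⟨hY.1, hne⟩ hY.2
      exact ⟨hY.1, le_inf (hYU.trans le_sup_left) (hYU.trans (hUT.trans h.base.le))⟩
  have hXmem : X ∉ S₁ \ {A} := fun hmem => hXU (hU ▸ le_gen ⟨hX, hmem.2⟩ hmem.1.2)
  have heq : S₂ = RankOneFF.cj u '' S₁ := by
    refine Set.eq_of_subset_of_ncard_le hsub ?_ (Set.toFinite _)
    refine le_trans (Set.ncard_image_le (Set.toFinite _)) (le_trans (le_of_eq ?_) (Set.ncard_le_ncard hsup (Set.toFinite _)))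
    rw [Set.ncard_insert_of_notMem hXmem (Set.toFinite _),
      Set.ncard_sdiff_singleton_add_one (show A ∈ S₁ from ⟨h.good, h.leT⟩) (Set.toFinite _)]
  set B := gen (Good ρ) (T : Subgroup H) with hBdef
  have hgen : gen (Good ρ) R₀ = RankOneFF.cj u B := by
    refine le_antisymm (sSup_le fun Y hY => ?_) ?_
    · obtain ⟨Y', hY', rfl⟩ := hsub hY
      exact Subgroup.map_mono (le_gen hY'.1 hY'.2)
    · rw [hBdef, gen, Subgroup.map_le_iff_le_comap]
      refine sSup_le fun Y hY => Subgroup.map_le_iff_le_comap.1 ?_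
      obtain ⟨hY1, hY2⟩ : RankOneFF.cj u Y ∈ S₂ := heq.symm ▸ Set.mem_image_of_mem _ hY
      exact le_gen hY1 hY2
  have hBN : Subgroup.normalizer (B : Set H) ≤ N := by
    refine h.base.overgroup _ (Subgroup.le_normalizer.trans (normalizer_le_gen (Q := Good ρ) (fun g _ hY => hY.cj g) _)) fun e => ?_
    have := h.base.core B (Subgroup.normalizer_eq_top_iff.1 e) (T.2.to_le (gen_le _ _))
    exact h.good.off.ne_bot (le_bot_iff.1 ((le_gen h.good h.leT).trans this.le))
  have h1 : Subgroup.normalizer (R₀ : Set H) ≤ N := by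
    refine (normalizer_le_gen (Q := Good ρ) (fun g _ hY => hY.cj g) R₀).trans ?_
    rw [hgen, RankOneFF.cj, normalizer_map_conj]
    exact Base.cj_le_N h.base hu hBN
  have hle : U ⊔ R ≤ N := by
    by_contra hne'
    haveI := hUR.isNilpotent
    have hlt : R₀.subgroupOf (U ⊔ R) < ⊤ :=
      lt_top_iff_ne_top.2 fun e => hne' fun x hx => (Subgroup.subgroupOf_eq_top.1 e hx).2
    obtain ⟨⟨g, hgR⟩, hg, hgN⟩ := SetLike.exists_of_lt (Group.normalizerCondition_of_isNilpotent _ hlt)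
    refine hgN (Subgroup.mem_subgroupOf.2 ⟨hgR, h1 (Subgroup.mem_normalizer_fintype fun n hn => ?_)⟩)
    exact (Subgroup.mem_normalizer_iff.1 hg ⟨n, hn.1⟩).1 hn
  refine ⟨le_sup_right.trans hle, fun x hx => h1 ?_⟩
  rw [hR₀, inf_eq_left.2 hle, ← map_conj_eq_iff, Subgroup.map_sup, map_conj_eq_iff.2 hx.1,
    map_conj_eq_iff.2 hx.2]

/-- `A` is the only good offender in `N` normalizing the others and outside them. -/
theorem eq_root {U : Subgroup H} (hU : U = gen (fun Y => Good ρ Y ∧ Y ≠ A) (T : Subgroup H)) (hX : Good ρ X)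
    (hXN : X ≤ N) (hXL : X ≤ Subgroup.normalizer (U : Set H)) (hXU : ¬ X ≤ U) : X = A := by
  classical
  by_contra hne
  set L₀ := Subgroup.normalizer (U : Set H)
  have hLL₀ : L ≤ L₀ := h.block_le_normalizer.trans (le_of_eq (by rw [← hU]))
  have hAL₀ : A ≤ L₀ := h.block.le.trans hLL₀
  have hcom : ∀ x ∈ X, ∀ a ∈ A, x * a = a * x := by
    by_cases hall : ∀ x ∈ X, ∀ v, ρ x v - v ∈ fx ρ A
    · exact comm_of_comm_mem h.base hX h.good hall
    push Not at hall
    obtain ⟨x, hx, v, hv⟩ := hall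
    obtain ⟨a, ha, w, hw, hgen, hu⟩ := (h.block.exists_root (ρ x v - v)).resolve_left hv
    have hst := stab_inf_le h.base hX (h.card_eq hX ▸ h.three) hXL (h.loc hU hX hXN hXU) hx
      fun e => hv (e ▸ zero_mem _)
    have hRN : RankOneFF.cj (a * w) A ≤ N := (le_inf (RankOneFF.cj_le hAL₀ (mul_mem (hAL₀ ha) (hLL₀ hw)))
      ((mem_fx_iff_le ρ).1 hu)).trans hst
    refine (h.outside (hgen ▸ sup_le (h.leT.trans h.base.le) ?_)).elim
    have haN : a ∈ N := h.base.le (h.leT ha)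
    have h1 := Base.cj_le_N h.base (inv_mem haN) hRN
    rwa [cj_cj, inv_mul_cancel_left] at h1
  have hAX : IsPGroup p (A ⊔ X : Subgroup H) :=
    (h.good.isPGroup h.base.amb).to_sup_of_normal_left' (hX.isPGroup h.base.amb) (le_trans
      (fun x hx => Subgroup.mem_centralizer_iff.2 fun a ha => (hcom x hx a ha).symm)
      (Subgroup.centralizer_le_normalizer _))
  have hUT : U ≤ (T : Subgroup H) := hU ▸ gen_le _ _
  have hR : IsPGroup p (U ⊔ (A ⊔ X) : Subgroup H) :=
    (T.2.to_le hUT).to_sup_of_normal_left' hAX (sup_le hAL₀ hXL)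
  obtain ⟨u, hu, hle⟩ := h.base.exists_sylow hR
    (sup_le (hUT.trans h.base.le) (sup_le (h.leT.trans h.base.le) hXN))
  set S₁ : Set (Subgroup H) := {Y | Good ρ Y ∧ Y ≤ (T : Subgroup H)}
  have hX1 : X ∉ S₁ := fun hmem => hXU (hU ▸ le_gen ⟨hX, hne⟩ hmem.2)
  have hsub : insert X S₁ ⊆ RankOneFF.cj u '' S₁ := by
    intro Y hY
    have hYR : Good ρ Y ∧ Y ≤ U ⊔ (A ⊔ X) := by
      rcases hY with rfl | hY
      · exact ⟨hX, le_sup_right.trans le_sup_right⟩
      · by_cases e : Y = A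
        · exact ⟨e ▸ h.good, e ▸ le_sup_left.trans le_sup_right⟩
        · exact ⟨hY.1, (hU ▸ le_gen ⟨hY.1, e⟩ hY.2 : Y ≤ U).trans le_sup_left⟩
    exact ⟨RankOneFF.cj u⁻¹ Y, ⟨hYR.1.cj _, cj_mem_of_conj (hYR.2.trans hle)⟩,
      by rw [cj_cj, mul_inv_cancel, cj_one]⟩
  have hn := (Set.ncard_le_ncard hsub (Set.toFinite _)).trans (Set.ncard_image_le (Set.toFinite _))
  rw [Set.ncard_insert_of_notMem hX1 (Set.toFinite _)] at hn
  omega

/-- The block is normal in the normalizer of the others. -/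
theorem root_le {U : Subgroup H} (hU : U = gen (fun Y => Good ρ Y ∧ Y ≠ A) (T : Subgroup H)) {l : H}
    (hl : l ∈ Subgroup.normalizer (U : Set H)) : RankOneFF.cj l A ≤ L := by
  classical
  set L₀ := Subgroup.normalizer (U : Set H)
  have hLL₀ : L ≤ L₀ := h.block_le_normalizer.trans (le_of_eq (by rw [← hU]))
  have hAL₀ : A ≤ L₀ := h.block.le.trans hLL₀
  have hAU : ¬ A ≤ U := hU ▸ h.not_le_others
  obtain ⟨a₁, ha₁, ha₁1⟩ := exists_ne_one h.good.off.ne_bot
  obtain ⟨v, hv⟩ : ∃ v, ρ a₁ v - v ≠ 0 := by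
    by_contra hall
    push Not at hall
    exact ha₁1 (h.base.amb.faithful (AddMonoidHom.ext fun v => by
      show ρ a₁ v = ρ 1 v
      rw [RankOneFF.act_one]
      exact sub_eq_zero.1 (hall v)))
  obtain ⟨g, hgL₀, hgL, hfix⟩ : ∃ g ∈ L₀, RankOneFF.cj g A ≤ L ∧
      ρ l (ρ a₁ v - v) ∈ fx ρ (RankOneFF.cj g A) := by
    rcases h.block.exists_root (ρ l (ρ a₁ v - v)) with h1 | ⟨a, ha, w, hw, -, h1⟩
    · exact ⟨1, one_mem _, by rw [cj_one]; exact h.block.le, by rwa [cj_one]⟩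
    · exact ⟨a * w, mul_mem (hAL₀ ha) (hLL₀ hw),
        RankOneFF.cj_le h.block.le (mul_mem (h.block.le ha) hw), h1⟩
  have hgU : ¬ RankOneFF.cj (l⁻¹ * g) A ≤ U := fun hle => hAU (by
    have := Subgroup.map_mono (f := (MulAut.conj (l⁻¹ * g)⁻¹).toMonoidHom) hle
    rwa [map_conj_conj, inv_mul_cancel, map_conj_one,
      map_conj_eq_iff.2 (inv_mem (mul_mem (inv_mem hl) hgL₀))] at this)
  have hR' : RankOneFF.cj (l⁻¹ * g) A ≤ L₀ := RankOneFF.cj_le hAL₀ (mul_mem (inv_mem hl) hgL₀)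
  have hst := stab_inf_le h.base h.good h.three hAL₀ (h.loc hU h.good (h.leT.trans h.base.le) hAU) ha₁ hv
  have hfix' : ρ a₁ v - v ∈ fx ρ (RankOneFF.cj (l⁻¹ * g) A) := by
    have h2 := act_mem_fx ρ l⁻¹ hfix
    rwa [RankOneFF.act_inv, cj_cj] at h2
  have heq := h.eq_root hU (h.good.cj _) ((le_inf hR' ((mem_fx_iff_le ρ).1 hfix')).trans hst) hR' hgU
  have h3 := congrArg (RankOneFF.cj l) heq
  rw [cj_cj, mul_inv_cancel_left] at h3
  exact h3 ▸ hgL

/-- An element of `T` fixing the root fixes the block. -/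
theorem fix_block {t : H} (ht : t ∈ (T : Subgroup H)) (hA : RankOneFF.cj t A = A) : RankOneFF.cj t L = L := by
  set U := gen (fun Y => Good ρ Y ∧ Y ≠ A) (T : Subgroup H) with hU
  have htU : t ∈ Subgroup.normalizer (U : Set H) := by
    refine map_conj_eq_iff.1 (Subgroup.eq_of_le_of_card_ge ?_ (card_cj t U).ge)
    rw [hU, gen, Subgroup.map_le_iff_le_comap]
    refine sSup_le fun Y hY => Subgroup.map_le_iff_le_comap.1 (le_gen ⟨hY.1.1.cj t, fun e => hY.1.2 ?_⟩
      (RankOneFF.cj_le hY.2 ht))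
    have e' : RankOneFF.cj t Y = RankOneFF.cj t A := e.trans hA.symm
    have := congrArg (RankOneFF.cj t⁻¹) e'
    rwa [cj_cj, cj_cj, inv_mul_cancel, cj_one, cj_one] at this
  obtain ⟨F, _, _, S, -, hw, hgen, -⟩ := h.block
  refine Subgroup.eq_of_le_of_card_ge ?_ (card_cj t L).ge
  conv_lhs => rw [← hgen, cj_sup, hA, cj_cj]
  exact sup_le h.block.le (h.root_le hU (mul_mem htU (h.block_le_normalizer hw)))

end Lin

end CfsgLib.LocalEven.MovesFixed
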