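import Cfsg.Agent.Lib.LocalEven.MovesFixed.Centres

/-!
The section of a module given by the commutators with the elements of order prime to `p` modulo their fixed points.
-/

set_option autoImplicit false
set_option linter.unusedSectionVars false
set_option linter.style.haveILetI false

namespace CfsgLib.LocalEven.MovesFixed

open CfsgLib.LocalEven.RankOneFF CfsgLib.LocalEven.SylowIn

variable {H : Type*} [Group H] [Finite H] {M : Type*} [AddCommGroup M] [Finite M] (p : ℕ) [Fact p.Prime]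
  (ρ₀ : H →* AddMonoid.End M)

/-- The fixed points of the elements of order prime to `p`. -/
def opFix : AddSubgroup M where
  carrier := {v | ∀ x : H, (orderOf x).Coprime p → ρ₀ x v = v}
  zero_mem' := fun x _ => map_zero _
  add_mem' := fun hv hw x hx => by rw [map_add, hv x hx, hw x hx]
  neg_mem' := fun hv x hx => by rw [map_neg, hv x hx]

/-- The commutators with the elements of order prime to `p`. -/
def opComm : AddSubgroup M :=
  AddSubgroup.closure {u | ∃ x : H, (orderOf x).Coprime p ∧ ∃ v, u = ρ₀ x v - v}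

theorem coprime_conj (g : H) {x : H} (hx : (orderOf x).Coprime p) : (orderOf (g * x * g⁻¹)).Coprime p := by
  rwa [← MulAut.conj_apply, MulEquiv.orderOf_eq]

theorem comm_mem_opComm {x : H} (hx : (orderOf x).Coprime p) (v : M) : ρ₀ x v - v ∈ opComm p ρ₀ :=
  AddSubgroup.subset_closure ⟨x, hx, v, rfl⟩

theorem act_mem_opComm (g : H) {v : M} (hv : v ∈ opComm p ρ₀) : ρ₀ g v ∈ opComm p ρ₀ := by
  have : opComm p ρ₀ ≤ AddSubgroup.comap (ρ₀ g) (opComm p ρ₀) := (AddSubgroup.closure_le _).2 (by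
    rintro _ ⟨x, hx, u, rfl⟩
    show ρ₀ g (ρ₀ x u - u) ∈ opComm p ρ₀
    rw [map_sub, ← act_mul, show g * x = (g * x * g⁻¹) * g by group, act_mul]
    exact comm_mem_opComm p ρ₀ (coprime_conj p g hx) _)
  exact this hv

theorem act_mem_opFix (g : H) {v : M} (hv : v ∈ opFix p ρ₀) : ρ₀ g v ∈ opFix p ρ₀ := fun x hx => by
  have hx' := coprime_conj p g⁻¹ hx
  rw [inv_inv] at hx'
  rw [← act_mul, show x * g = g * (g⁻¹ * x * g) by group, act_mul, hv _ hx']

/-- The action on the commutators. -/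
def commAct : H →* AddMonoid.End (opComm p ρ₀) where
  toFun g := ((ρ₀ g).comp (opComm p ρ₀).subtype).codRestrict (opComm p ρ₀) fun v => act_mem_opComm p ρ₀ g v.2
  map_one' := AddMonoidHom.ext fun v => Subtype.ext (RankOneFF.act_one ρ₀ (v : M))
  map_mul' g h := AddMonoidHom.ext fun v => Subtype.ext (act_mul ρ₀ g h (v : M))

/-- The section. -/
abbrev OpQuot := opComm p ρ₀ ⧸ (opFix p ρ₀).addSubgroupOf (opComm p ρ₀)

/-- The map onto the section. -/
def toQuot : opComm p ρ₀ →+ OpQuot p ρ₀ := QuotientAddGroup.mk' _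

/-- The action on the section. -/
def quotAct : H →* AddMonoid.End (OpQuot p ρ₀) where
  toFun g := QuotientAddGroup.map _ _ (commAct p ρ₀ g) fun _ hr => act_mem_opFix p ρ₀ g hr
  map_one' := AddMonoidHom.ext fun x => by
    induction x using QuotientAddGroup.induction_on with
    | H r => exact congrArg QuotientAddGroup.mk (RankOneFF.act_one (commAct p ρ₀) r)
  map_mul' g h := AddMonoidHom.ext fun x => by
    induction x using QuotientAddGroup.induction_on with
    | H r => exact congrArg QuotientAddGroup.mk (act_mul (commAct p ρ₀) g h r)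

variable {p} {ρ₀} {T : Sylow p H} {N : Subgroup H}

theorem toQuot_equiv (g : H) (r : opComm p ρ₀) :
    toQuot p ρ₀ (commAct p ρ₀ g r) = quotAct p ρ₀ g (toQuot p ρ₀ r) := rfl

theorem toQuot_eq_zero (r : opComm p ρ₀) : toQuot p ρ₀ r = 0 ↔ (r : M) ∈ opFix p ρ₀ :=
  QuotientAddGroup.eq_zero_iff r

theorem toQuot_surjective : Function.Surjective (toQuot p ρ₀) := QuotientAddGroup.mk'_surjective _

/-- The section has no fixed points and is spanned by the commutators. -/
theorem ctx_quotAct (hamb : Ambient ρ₀ p) (hTN : (T : Subgroup H) ≤ N) (hN : N ≠ ⊤)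
    (hover : ∀ K : Subgroup H, (T : Subgroup H) ≤ K → K ≠ ⊤ → K ≤ N)
    (hcore : ∀ U : Subgroup H, U.Normal → IsPGroup p U → U = ⊥) : Ctx (quotAct p ρ₀) T N := by
  let σ := commAct p ρ₀
  let ρ := quotAct p ρ₀
  let RM := opComm p ρ₀
  let π := toQuot p ρ₀
  let K := (opFix p ρ₀).addSubgroupOf (opComm p ρ₀)
  have hequiv : ∀ g r, π (σ g r) = ρ g (π r) := fun _ _ => rfl
  have hexpR : ∀ r : RM, p • r = 0 := fun r => Subtype.ext (hamb.exponent (r : M))
  have hcommR : ∀ x : H, (orderOf x).Coprime p → ∀ v, ρ₀ x v - v ∈ RM := fun x hx v => comm_mem_opComm p ρ₀ hx v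
  have hRinv : ∀ g : H, ∀ v ∈ RM, ρ₀ g v ∈ RM := fun g v hv => act_mem_opComm p ρ₀ g hv
  have hπ0 : ∀ r : RM, π r = 0 ↔ (r : M) ∈ opFix p ρ₀ := toQuot_eq_zero
  have hkfix : ∀ x : H, (orderOf x).Coprime p → ∀ r, π r = 0 → σ x r = r := fun x hx r hr =>
    Subtype.ext ((hπ0 r).1 hr x hx)
  have hπfix : ∀ x : H, (orderOf x).Coprime p → ∀ r, ρ x (π r) = π r → σ x r = r := fun x hx r hr =>
    act_eq_of_coprime σ hexpR hx (hkfix x hx _ (by rw [map_sub, hequiv, hr, sub_self]))
  have hfaith : Function.Injective ρ := by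
    refine (injective_iff_map_eq_one ρ).2 fun y hy => ?_
    have hbot : ρ.ker = ⊥ := by
      refine hcore _ (MonoidHom.normal_ker ρ) fun z => ?_
      set k := (orderOf (z : H)).factorization p
      refine ⟨k, Subtype.ext ?_⟩
      have hzp : ((z : H) ^ p ^ k) ∈ ρ.ker := pow_mem z.2 _
      have hcop : (orderOf ((z : H) ^ p ^ k)).Coprime p := by
        rw [orderOf_pow_of_dvd (pow_ne_zero _ (Fact.out : p.Prime).ne_zero) (Nat.ordProj_dvd _ p)]
        exact (Nat.coprime_ordCompl Fact.out (orderOf_pos (z : H)).ne').symm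
      refine hamb.faithful (AddMonoidHom.ext fun v => ?_)
      show ρ₀ ((z : H) ^ p ^ k) v = ρ₀ 1 v
      rw [RankOneFF.act_one]
      have hw := hπfix _ hcop ⟨_, hcommR _ hcop v⟩ (by rw [MonoidHom.mem_ker.1 hzp]; rfl)
      exact act_eq_of_coprime ρ₀ hamb.exponent hcop (congrArg Subtype.val hw)
    exact (Subgroup.mem_bot).1 (hbot ▸ MonoidHom.mem_ker.2 hy)
  have hexpW : ∀ w : RM ⧸ K, p • w = 0 := fun w => by
    induction w using QuotientAddGroup.induction_on with
    | H r => rw [← QuotientAddGroup.mk_nsmul, hexpR, QuotientAddGroup.mk_zero]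
  have hnfix : fx ρ (⊤ : Subgroup H) = ⊥ := by
    rw [eq_bot_iff]
    intro w hw
    induction w using QuotientAddGroup.induction_on with
    | H r =>
      exact (AddSubgroup.mem_bot).2 ((hπ0 r).2 fun x hx =>
        congrArg Subtype.val (hπfix x hx r (hw x (Subgroup.mem_top x))))
  have hspan : AddSubgroup.closure {u : RM ⧸ K | ∃ x : H, (orderOf x).Coprime p ∧ ∃ v, u = ρ x v - v} = ⊤ := by
    set U := AddSubgroup.closure {u : RM ⧸ K | ∃ x : H, (orderOf x).Coprime p ∧ ∃ v, u = ρ x v - v} with hU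
    have hgen : ∀ (x : H) (hx : (orderOf x).Coprime p), ∀ v, π ⟨_, hcommR x hx v⟩ ∈ U := by
      intro x hx v
      set w := π ⟨_, hcommR x hx v⟩ with hw
      have key : ∀ n : ℕ, ∃ hn : ρ₀ (x ^ n) v - v ∈ RM, π ⟨_, hn⟩ - n • w ∈ U := by
        intro n
        induction n with
        | zero =>
          have h0 : ρ₀ (x ^ 0) v - v = 0 := by rw [pow_zero, RankOneFF.act_one, sub_self]
          refine ⟨by rw [h0]; exact zero_mem _, ?_⟩
          rw [zero_nsmul, sub_zero, show (⟨ρ₀ (x ^ 0) v - v, _⟩ : RM) = 0 from Subtype.ext h0, map_zero]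
          exact zero_mem _
        | succ n ih =>
          obtain ⟨hn, hU'⟩ := ih
          have he : ρ₀ (x ^ (n + 1)) v - v = ρ₀ x (ρ₀ (x ^ n) v - v) + (ρ₀ x v - v) := by
            rw [pow_succ', act_mul, map_sub]; abel
          refine ⟨by rw [he]; exact add_mem (hRinv x _ hn) (hcommR x hx v), ?_⟩
          rw [show (⟨ρ₀ (x ^ (n + 1)) v - v, _⟩ : RM) = σ x ⟨_, hn⟩ + ⟨_, hcommR x hx v⟩ from Subtype.ext he,
            map_add, hequiv, succ_nsmul, ← hw, add_sub_add_right_eq_sub]
          have hgen' : ρ x (π ⟨_, hn⟩) - π ⟨_, hn⟩ ∈ U := AddSubgroup.subset_closure ⟨x, hx, _, rfl⟩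
          have := add_mem hgen' hU'
          rwa [sub_add_sub_cancel] at this
      obtain ⟨hn, hU'⟩ := key (orderOf x)
      have h0 : ρ₀ (x ^ orderOf x) v - v = 0 := by rw [pow_orderOf_eq_one, RankOneFF.act_one, sub_self]
      rw [show (⟨ρ₀ (x ^ orderOf x) v - v, hn⟩ : RM) = 0 from Subtype.ext h0, map_zero, zero_sub, neg_mem_iff]
        at hU'
      have hb : (1 : ℤ) = (orderOf x : ℤ) * Nat.gcdA (orderOf x) p + (p : ℤ) * Nat.gcdB (orderOf x) p := by
        rw [← Nat.gcd_eq_gcd_ab, Nat.Coprime.gcd_eq_one hx, Nat.cast_one]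
      rw [← one_zsmul w, hb, add_zsmul, mul_comm (orderOf x : ℤ), mul_comm (p : ℤ), ← smul_smul, ← smul_smul,
        natCast_zsmul, natCast_zsmul, hexpW, zsmul_zero, add_zero]
      exact zsmul_mem hU' _
    have hmain : ∀ (v : M) (hv : v ∈ RM), π ⟨v, hv⟩ ∈ U := fun v hv => by
      induction hv using AddSubgroup.closure_induction with
      | mem v hv =>
        obtain ⟨x, hx, u, rfl⟩ := hv
        exact hgen x hx u
      | zero =>
        rw [show (⟨0, _⟩ : RM) = 0 from rfl, map_zero]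
        exact zero_mem _
      | add v v' hv hv' h h' =>
        have := add_mem h h'
        rwa [← map_add] at this
      | neg v hv h =>
        have := neg_mem h
        rwa [← map_neg] at this
    refine eq_top_iff.2 fun w _ => ?_
    induction w using QuotientAddGroup.induction_on with
    | H r => exact hmain r.1 r.2
  exact ⟨⟨hfaith, hexpW⟩, hTN, hN, hover, hcore, hnfix, hspan⟩

/-- A quadratic offender stays one on the section and fixes the kernel. -/
theorem off_quotAct (hc : Ctx (quotAct p ρ₀) T N) {B : Subgroup H} (hB : Off ρ₀ B) :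
    Off (quotAct p ρ₀) B ∧ ∀ b ∈ B, ∀ r, toQuot p ρ₀ r = 0 → commAct p ρ₀ b r = r := by
  let σ := commAct p ρ₀
  let ρ := quotAct p ρ₀
  let RM := opComm p ρ₀
  let π := toQuot p ρ₀
  let K := (opFix p ρ₀).addSubgroupOf (opComm p ρ₀)
  have hequiv : ∀ g r, π (σ g r) = ρ g (π r) := fun _ _ => rfl
  have hquadR : ∀ a ∈ B, ∀ b ∈ B, ∀ r, σ a (σ b r - r) = σ b r - r := fun a ha b hb r =>
    Subtype.ext (hB.quad a ha b hb (r : M))
  have hquadW : ∀ a ∈ B, ∀ b ∈ B, ∀ w, ρ a (ρ b w - w) = ρ b w - w := fun a ha b hb w => by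
    induction w using QuotientAddGroup.induction_on with
    | H r => exact congrArg QuotientAddGroup.mk (hquadR a ha b hb r)
  let f₁ : fx σ B →+ fx ρ B := (π.comp (fx σ B).subtype).codRestrict (fx ρ B) fun r b hb => by
    show ρ b (π (r : RM)) = π (r : RM)
    rw [← hequiv, r.2 b hb]
  have hc1 : Nat.card (fx σ B) ≤ Nat.card (fx ρ B) * Nat.card f₁.ker := by
    rw [AddSubgroup.card_eq_card_quotient_mul_card_addSubgroup f₁.ker,
      Nat.card_congr (QuotientAddGroup.quotientKerEquivRange f₁).toEquiv]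
    exact Nat.mul_le_mul_right _ (Nat.card_le_card_of_injective _ Subtype.val_injective)
  have hc2 : Nat.card RM ≤ Nat.card B * Nat.card (fx σ B) := by
    have e : Nat.card (fx σ B) = Nat.card (RM ⊓ fx ρ₀ B : AddSubgroup M) := Nat.card_congr
      { toFun := fun r => ⟨((r : RM) : M), (r : RM).2, fun b hb => congrArg Subtype.val (r.2 b hb)⟩
        invFun := fun v => ⟨⟨(v : M), v.2.1⟩, fun b hb => Subtype.ext (v.2.2 b hb)⟩
        left_inv := fun r => rfl
        right_inv := fun v => rfl }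
    have h1 := card_sup_inf RM (fx ρ₀ B)
    have h2 : Nat.card (RM ⊔ fx ρ₀ B : AddSubgroup M) ≤ Nat.card M :=
      Nat.card_le_card_of_injective _ Subtype.val_injective
    rw [e]
    refine Nat.le_of_mul_le_mul_left ?_ (Nat.card_pos (α := M))
    calc Nat.card M * Nat.card RM ≤ (Nat.card B * Nat.card (fx ρ₀ B)) * Nat.card RM :=
          Nat.mul_le_mul_right _ hB.off
      _ = Nat.card B * (Nat.card (RM ⊔ fx ρ₀ B : AddSubgroup M) * Nat.card (RM ⊓ fx ρ₀ B : AddSubgroup M)) := by
          rw [h1]; ring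
      _ ≤ Nat.card B * (Nat.card M * Nat.card (RM ⊓ fx ρ₀ B : AddSubgroup M)) :=
          Nat.mul_le_mul_left _ (Nat.mul_le_mul_right _ h2)
      _ = _ := by ring
  have hc3 : Nat.card RM = Nat.card (RM ⧸ K) * Nat.card K :=
    AddSubgroup.card_eq_card_quotient_mul_card_addSubgroup K
  have hkerK : Nat.card f₁.ker ≤ Nat.card K := Nat.card_le_card_of_injective
    (fun z => (⟨((z : fx σ B) : RM), (QuotientAddGroup.eq_zero_iff _).1 (congrArg Subtype.val z.2)⟩ : K))
    fun z z' e => Subtype.ext (Subtype.ext (congrArg Subtype.val e :))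
  have hover' := CfsgLib.LocalEven.MovesFixed.no_over hc.base B hquadW
  have hoffW : Off ρ B := by
    refine ⟨hB.ne_bot, hquadW, Nat.le_of_mul_le_mul_right ?_ (Nat.card_pos (α := K))⟩
    calc Nat.card (RM ⧸ K) * Nat.card K = Nat.card RM := hc3.symm
      _ ≤ Nat.card B * (Nat.card (fx ρ B) * Nat.card f₁.ker) := hc2.trans (Nat.mul_le_mul_left _ hc1)
      _ ≤ Nat.card B * (Nat.card (fx ρ B) * Nat.card K) :=
          Nat.mul_le_mul_left _ (Nat.mul_le_mul_left _ hkerK)
      _ = _ := by ring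
  have hKfix : ∀ b ∈ B, ∀ r, π r = 0 → σ b r = r := by
    have hbij : Function.Bijective (fun z : f₁.ker => (⟨((z : fx σ B) : RM),
        (QuotientAddGroup.eq_zero_iff _).1 (congrArg Subtype.val z.2)⟩ : K)) := by
      refine (Nat.bijective_iff_injective_and_card _).2
        ⟨fun z z' e => Subtype.ext (Subtype.ext (congrArg Subtype.val e :)), le_antisymm hkerK ?_⟩
      refine Nat.le_of_mul_le_mul_left ?_ (Nat.mul_pos (Nat.card_pos (α := B)) (Nat.card_pos (α := fx ρ B)))
      calc Nat.card B * Nat.card (fx ρ B) * Nat.card K ≤ Nat.card (RM ⧸ K) * Nat.card K :=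
            Nat.mul_le_mul_right _ hover'
        _ = Nat.card RM := hc3.symm
        _ ≤ Nat.card B * (Nat.card (fx ρ B) * Nat.card f₁.ker) := hc2.trans (Nat.mul_le_mul_left _ hc1)
        _ = _ := by ring
    intro b hb r hr
    obtain ⟨z, hz⟩ := hbij.2 ⟨r, (QuotientAddGroup.eq_zero_iff r).1 hr⟩
    have hz' : ((z : fx σ B) : RM) = r := congrArg Subtype.val hz
    rw [← hz']
    exact (z : fx σ B).2 b hb
  exact ⟨hoffW, hKfix⟩

end CfsgLib.LocalEven.MovesFixed
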