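import Cfsg.Agent.Lib.LocalEven.MovesFixed.Transvection
import Cfsg.Agent.Lib.LocalEven.MovesFixed.Independent
import Cfsg.Agent.Lib.LocalEven.MovesFixed.Section

/-!
A group with a Sylow subgroup in a unique maximal subgroup, trivial `p`-core and a quadratic offender moves some
fixed point of its Sylow subgroup.
-/

set_option autoImplicit false
set_option linter.unusedSectionVars false
set_option linter.style.haveILetI false

namespace CfsgLib.LocalEven.MovesFixed

open CfsgLib.LocalEven.RankOneFF CfsgLib.LocalEven.SylowIn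

variable {H : Type*} [Group H] [Finite H] {p : ℕ} [Fact p.Prime]

section Endgame

variable {W : Type*} [AddCommGroup W] [Finite W] {R : Type*} [AddCommGroup R] [Finite R]
  {ρ : H →* AddMonoid.End W} {σ : H →* AddMonoid.End R} {π : R →+ W} {T : Sylow p H} {N : Subgroup H}
  {A : Subgroup H}

/-- A fixed point of `T` with nonzero image. -/
theorem exists_fixed_lift (hc : Ctx ρ T N) (hA : Good ρ A) (hAT : A ≤ (T : Subgroup H))
    (hK : Cover p ρ σ π A) : ∃ r ∈ fx σ (T : Subgroup H), π r ≠ 0 := by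
  classical
  set S : Subgroup H := (T : Subgroup H) ⊓ Subgroup.normalizer (A : Set H) with hSdef
  have hSp : IsPGroup p S := T.2.to_le inf_le_left
  have hSA : ∀ s ∈ S, cj s A = A := fun s hs => map_conj_eq_iff.2 (Subgroup.mem_inf.1 hs).2
  -- an element of `A` centralised by `S`
  obtain ⟨a, ha, ha1, haS⟩ : ∃ a ∈ A, a ≠ 1 ∧ ∀ s ∈ S, s * a = a * s := by
    letI : MulAction S A :=
      { smul := fun s a => ⟨(s : H) * (a : H) * (s : H)⁻¹, (hSA s s.2).le (conj_mem_cj (s : H) a.2)⟩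
        one_smul := fun a => Subtype.ext (show (1 : H) * (a : H) * (1 : H)⁻¹ = a by simp)
        mul_smul := fun s t a => Subtype.ext
          (show ((s : H) * t) * (a : H) * ((s : H) * t)⁻¹ = (s : H) * ((t : H) * a * (t : H)⁻¹) * (s : H)⁻¹ by group) }
    have hdvd : p ∣ Nat.card A := by
      obtain ⟨k, hk⟩ := IsPGroup.iff_card.1 (hA.isPGroup hc.amb)
      refine hk ▸ dvd_pow_self p ?_
      rintro rfl
      exact hA.off.ne_bot (Subgroup.card_eq_one.1 (by rw [hk, pow_zero]))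
    obtain ⟨b, hb, hb1⟩ := hSp.exists_fixed_point_of_prime_dvd_card_of_fixed_point A hdvd
      (a := (1 : A)) (fun s => Subtype.ext (show (s : H) * (1 : H) * (s : H)⁻¹ = 1 by simp))
    refine ⟨b, b.2, fun e => hb1 (Subtype.ext e.symm), fun s hs => ?_⟩
    exact mul_inv_eq_iff_eq_mul.1 (congrArg Subtype.val (hb ⟨s, hs⟩))
  obtain ⟨y, hyA, hy⟩ := exists_fixed_class hc.amb hSp (M := fx ρ A)
    (fun s hs v hv => hSA s hs ▸ act_mem_fx ρ s hv) (hA.fx_ne_top hc.amb)
  obtain ⟨r₀, rfl⟩ := hK.surj y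
  set c := σ a r₀ - r₀ with hcdef
  have hcS : ∀ s ∈ S, σ s c = c := by
    intro s hs
    have hlift := lift_fixed hc hA hK a ha (σ s r₀ - r₀) (by rw [map_sub, hK.equiv]; exact hy s hs)
    rw [map_sub, sub_eq_sub_iff_sub_eq_sub] at hlift
    rw [hcdef, map_sub, ← act_mul, haS s hs, act_mul, hlift]
  let Φ : T ⧸ S.subgroupOf (T : Subgroup H) → R := fun q => σ ((q.out : T) : H) c
  have hΦ : ∀ t : T, Φ (t : T ⧸ S.subgroupOf (T : Subgroup H)) = σ (t : H) c := fun t => by
    obtain ⟨s, hs⟩ := QuotientGroup.mk_out_eq_mul (S.subgroupOf (T : Subgroup H)) t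
    show σ _ c = _
    rw [hs, Subgroup.coe_mul, act_mul, hcS _ (Subgroup.mem_subgroupOf.1 s.2)]
  haveI := Fintype.ofFinite (T ⧸ S.subgroupOf (T : Subgroup H))
  refine ⟨∑ q, Φ q, fun t ht => ?_, ?_⟩
  · rw [map_sum]
    refine Fintype.sum_equiv (MulAction.toPerm (⟨t, ht⟩ : T)) _ _ fun q => ?_
    induction q using QuotientGroup.induction_on with
    | H u =>
      show σ t (Φ (u : T ⧸ S.subgroupOf (T : Subgroup H))) = Φ ((⟨t, ht⟩ : T) • (u : T ⧸ S.subgroupOf (T : Subgroup H)))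
      rw [MulAction.Quotient.smul_coe, smul_eq_mul, hΦ, hΦ, Subgroup.coe_mul, act_mul]
  rw [map_sum]
  have hterm : ∀ q, π (Φ q) = ρ (((q.out : T) : H) * a * ((q.out : T) : H)⁻¹) (ρ ((q.out : T) : H) (π r₀)) -
      ρ ((q.out : T) : H) (π r₀) := fun q => by
    show π (σ ((q.out : T) : H) c) = _
    rw [hK.equiv, hcdef, map_sub, hK.equiv, map_sub, act_mul, act_mul, RankOneFF.act_inv]
  have hcj : ∀ q q' : T ⧸ S.subgroupOf (T : Subgroup H),
      cj ((q.out : T) : H) A = cj ((q'.out : T) : H) A → q = q' := by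
    intro q q' h
    rw [← q.out_eq', ← q'.out_eq', QuotientGroup.eq, Subgroup.mem_subgroupOf]
    refine Subgroup.mem_inf.2 ⟨SetLike.coe_mem _, map_conj_eq_iff.1 ?_⟩
    rw [Subgroup.coe_mul, Subgroup.coe_inv]
    show cj _ A = A
    rw [← cj_cj, ← h, cj_cj, inv_mul_cancel, cj_one]
  have hle : ∀ q : T ⧸ S.subgroupOf (T : Subgroup H), cj ((q.out : T) : H) A ≤ (T : Subgroup H) :=
    fun q => cj_le hAT (q.out : T).2
  by_cases h3 : 3 ≤ Nat.card A
  · obtain ⟨F, iF, iFF, ⟨Fr⟩⟩ := (nice_of_strict hc.base hA.off hA.strict).2 h3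
    intro hzero
    set q₀ : T ⧸ S.subgroupOf (T : Subgroup H) := ((1 : T) : T ⧸ S.subgroupOf (T : Subgroup H))
    rw [← Finset.add_sum_erase _ _ (Finset.mem_univ q₀)] at hzero
    have hrest : ∑ q ∈ Finset.univ.erase q₀, π (Φ q) ∈ Fr.C0 := by
      refine sum_mem fun q hq => ?_
      rw [hterm]
      have hne : cj ((q.out : T) : H) A ≠ A := by
        intro e
        refine (Finset.mem_erase.1 hq).1 (hcj _ _ ?_)
        obtain ⟨s, hs⟩ := QuotientGroup.mk_out_eq_mul (S.subgroupOf (T : Subgroup H)) (1 : T)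
        rw [e, hs, one_mul, hSA _ (Subgroup.mem_subgroupOf.1 s.2)]
      exact twin hc.base Fr hA h3 (hA.cj _) hne
        (comm_of_pgroup hc.base T T.2 A _ hAT (hle q) hA (hA.cj _)) _ (conj_mem_cj _ ha) _
    have hc0 : π (Φ q₀) ∈ Fr.C0 := by
      rw [eq_neg_of_add_eq_zero_left hzero]
      exact neg_mem hrest
    rw [show Φ q₀ = c by rw [hΦ, Subgroup.coe_one, RankOneFF.act_one], hcdef, map_sub, hK.equiv] at hc0
    obtain ⟨s', r, c', hc', he⟩ := Fr.dec (π r₀)
    obtain ⟨s, hs⟩ := Fr.a_surj a ha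
    subst hs
    rw [he, map_add, map_add, Fr.e_mem s' _ ha, Fr.C0_le hc' _ ha, add_sub_add_right_eq_sub,
      add_sub_add_left_eq_sub, Fr.act_eq] at hc0
    have he' : Fr.e (s * r) ∈ Fr.C0 := by
      have := sub_mem hc0 (Fr.nu_mem s r)
      rwa [add_sub_cancel_right] at this
    obtain ⟨hsr, -⟩ := Fr.indep (s * r) 0 (by rwa [map_zero, add_zero])
    rcases mul_eq_zero.1 hsr with h | h
    · exact ha1 (by rw [h, Fr.a_zero])
    · exact hyA (by rw [he, h, map_zero, add_zero]; exact add_mem (Fr.e_mem s') (Fr.C0_le hc'))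
  · have h2 : Nat.card A = 2 := by
      have h1 : 1 < Nat.card A := (Subgroup.one_lt_card_iff_ne_bot _).2 hA.off.ne_bot
      omega
    set m : T ⧸ S.subgroupOf (T : Subgroup H) → H := fun q => ((q.out : T) : H) * a * ((q.out : T) : H)⁻¹ with hm
    have hmem : ∀ q, Member A (m q) := fun q =>
      ⟨fun e => ha1 (conj_eq_one_iff.1 e), _, conj_mem_cj _ ha⟩
    have hminj : Function.Injective m := fun q q' h => hcj q q' (by
      obtain ⟨g, hg⟩ := (hmem q).zpowers h2
      have e1 : Subgroup.zpowers (m q) = cj ((q.out : T) : H) A :=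
        Subgroup.eq_of_le_of_card_ge (Subgroup.zpowers_le.2 (conj_mem_cj _ ha))
          (by rw [hg, card_cj, card_cj])
      obtain ⟨g', hg'⟩ := (hmem q').zpowers h2
      have e2 : Subgroup.zpowers (m q') = cj ((q'.out : T) : H) A :=
        Subgroup.eq_of_le_of_card_ge (Subgroup.zpowers_le.2 (conj_mem_cj _ ha))
          (by rw [hg', card_cj, card_cj])
      rw [← e1, ← e2, h])
    let u : H → W := Function.extend m (fun q => ρ ((q.out : T) : H) (π r₀)) 0
    have hu : ∀ q, π (Φ q) = ρ (m q) (u (m q)) - u (m q) := fun q => by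
      rw [hterm, show u (m q) = ρ ((q.out : T) : H) (π r₀) from hminj.extend_apply _ _ q]
    rw [Finset.sum_congr rfl fun q _ => hu q, ← Finset.sum_image (f := fun x => ρ x (u x) - u x) hminj.injOn]
    refine sum_centres_ne_zero hc hA h2 u _ (Finset.univ_nonempty.image m) (fun x hx => ?_) fun x hx x' hx' => ?_
    · obtain ⟨q, -, rfl⟩ := Finset.mem_image.1 hx
      refine ⟨hmem q, ?_⟩
      rw [← hu, hterm]
      intro e
      rw [act_mul, act_mul, RankOneFF.act_inv, ← map_sub] at e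
      exact hyA (hA.fix a ha ha1 _ (sub_eq_zero.1 (act_inj ρ _ (e.trans (map_zero _).symm))))
    · obtain ⟨q, -, rfl⟩ := Finset.mem_image.1 hx
      obtain ⟨q', -, rfl⟩ := Finset.mem_image.1 hx'
      exact comm_of_pgroup hc.base T T.2 _ _ (hle q) (hle q') (hA.cj _) (hA.cj _) _ (conj_mem_cj _ ha) _
        (conj_mem_cj _ ha)

end Endgame

section Module

variable {M : Type*} [AddCommGroup M] [Finite M] {ρ₀ : H →* AddMonoid.End M} {T : Sylow p H} {N : Subgroup H}

/-- The main result on modules. -/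
theorem exists_moved_fixed_point (hamb : Ambient ρ₀ p) (hTN : (T : Subgroup H) ≤ N) (hN : N ≠ ⊤)
    (hover : ∀ K : Subgroup H, (T : Subgroup H) ≤ K → K ≠ ⊤ → K ≤ N)
    (hcore : ∀ U : Subgroup H, U.Normal → IsPGroup p U → U = ⊥) {B : Subgroup H} (hB : Off ρ₀ B) :
    ∃ v ∈ fx ρ₀ (T : Subgroup H), v ∉ fx ρ₀ (⊤ : Subgroup H) := by
  classical
  -- move `B` into `T`
  obtain ⟨B, hBT, hB⟩ : ∃ B ≤ (T : Subgroup H), Off ρ₀ B := by
    obtain ⟨P, hP⟩ := (hB.isPGroup hamb).exists_le_sylow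
    obtain ⟨g, hg⟩ := MulAction.exists_smul_eq H P T
    exact ⟨cj g B, hg ▸ Subgroup.map_mono hP, hB.cj ρ₀ g⟩
  have hctx := ctx_quotAct hamb hTN hN hover hcore
  obtain ⟨hoffW, hKfix⟩ := off_quotAct hctx hB
  obtain ⟨A, hAB, hA, -⟩ := exists_good hctx.base hoffW
  have hcov : Cover p (quotAct p ρ₀) (commAct p ρ₀) (toQuot p ρ₀) A :=
    ⟨toQuot_surjective, toQuot_equiv, fun a ha => hKfix a (hAB ha),
      fun x hx r hr => Subtype.ext ((toQuot_eq_zero r).1 hr x hx),
      fun a ha b hb r => Subtype.ext (hB.quad a (hAB ha) b (hAB hb) (r : M))⟩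
  obtain ⟨r, hr, hr0⟩ := exists_fixed_lift hctx hA (hAB.trans hBT) hcov
  refine ⟨r, fun t ht => congrArg Subtype.val (hr t ht), fun htop => hr0 ((AddSubgroup.mem_bot).1 (hctx.nfix ▸ ?_))⟩
  intro g _
  rw [← toQuot_equiv, show commAct p ρ₀ g r = r from Subtype.ext (htop g (Subgroup.mem_top g))]

end Module

end CfsgLib.LocalEven.MovesFixed
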