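import Cfsg.Agent.Lib.LocalEven.MovesFixed.TransBasic
import Mathlib.Data.Fintype.Option
import Mathlib.Logic.Equiv.Option

/-!
Stars of transvections: pairwise noncommuting ones through a common point of a symmetric group.
A maximal star gives a whole class of the relation of noncommuting.
-/

set_option autoImplicit false
set_option linter.unusedSectionVars false
set_option linter.style.haveILetI false

namespace CfsgLib.LocalEven.MovesFixed

open CfsgLib.LocalEven.RankOneFF CfsgLib.LocalEven.SylowIn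

variable {H : Type*} [Group H] [Finite H] {W : Type*} [AddCommGroup W] [Finite W] {p : ℕ} [Fact p.Prime]
  {ρ : H →* AddMonoid.End W} {T : Sylow p H} {N : Subgroup H} {m : ℕ} {k : Fin m → H}

/-- A star. -/
structure Star (ρ : H →* AddMonoid.End W) (k : Fin m → H) : Prop where
  tv : ∀ i, Tv ρ (k i)
  nc : ∀ i j, i ≠ j → lam ρ (k i) (cen ρ (k j)) = 1
  tri : ∀ a b c, a ≠ b → c ≠ a → c ≠ b → k a * k b * k a ≠ k c

/-- The edge between two points. -/
def edge (k : Fin m → H) : Option (Fin m) → Option (Fin m) → H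
  | none, none => 1
  | none, some j => k j
  | some i, none => k i
  | some i, some j => k i * k j * k i

/-- The edges. -/
def edges (k : Fin m → H) : Set H := {h | ∃ x y, x ≠ y ∧ edge k x y = h}

/-- The centre attached to a point. -/
noncomputable def pointCen (ρ : H →* AddMonoid.End W) (k : Fin m → H) (x : Option (Fin m)) : W :=
  x.elim 0 fun i => cen ρ (k i)

/-- The functional attached to a point. -/
noncomputable def pointLam (ρ : H →* AddMonoid.End W) (k : Fin m → H) (x : Option (Fin m)) (v : W) : ZMod 2 :=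
  x.elim 0 fun i => lam ρ (k i) v

/-- The indicator of equality. -/
def ind {α : Type*} [DecidableEq α] (x u : α) : ZMod 2 := if x = u then 1 else 0

theorem ind_self {α : Type*} [DecidableEq α] (x : α) : ind x x = 1 := if_pos rfl

theorem ind_ne {α : Type*} [DecidableEq α] {x u : α} (h : x ≠ u) : ind x u = 0 := if_neg h

/-- A pair moved by a swap, in a group of exponent two. -/
theorem add_swap {α A : Type*} [DecidableEq α] [AddCommGroup A] (hA : ∀ a : A, a + a = 0) (F : α → A)
    {x y u v : α} (hxy : x ≠ y) (huv : u ≠ v) :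
    F (Equiv.swap u v x) + F (Equiv.swap u v y) =
      F x + F y + if ind x u + ind x v + (ind y u + ind y v) = 1 then F u + F v else 0 := by
  have h11 : ¬ ((1 : ZMod 2) + 1 = 1) := by decide
  have h01 : ¬ ((0 : ZMod 2) = 1) := by decide
  by_cases hxu : x = u
  · subst hxu
    by_cases hyv : y = v
    · subst hyv
      simp [ind_self, ind_ne hxy, ind_ne hxy.symm, h11, add_comm]
    · simp [Equiv.swap_apply_of_ne_of_ne hxy.symm hyv, ind_self, ind_ne huv, ind_ne hxy.symm, ind_ne hyv]
      rw [show F x + F y + (F x + F v) = F y + F v + (F x + F x) by abel, hA, add_zero, add_comm]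
  by_cases hxv : x = v
  · subst hxv
    by_cases hyu : y = u
    · subst hyu
      simp [ind_self, ind_ne hxy, ind_ne hxy.symm, h11, add_comm]
    · simp [Equiv.swap_apply_of_ne_of_ne hyu hxy.symm, ind_self, ind_ne hxu, ind_ne hxy.symm, ind_ne hyu]
      rw [show F x + F y + (F u + F x) = F u + F y + (F x + F x) by abel, hA, add_zero]
  by_cases hyu : y = u
  · subst hyu
    simp [Equiv.swap_apply_of_ne_of_ne hxu hxv, ind_self, ind_ne hxu, ind_ne hxv, ind_ne huv]
    rw [show F x + F y + (F y + F v) = F x + F v + (F y + F y) by abel, hA, add_zero]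
  by_cases hyv : y = v
  · subst hyv
    simp [Equiv.swap_apply_of_ne_of_ne hxu hxv, ind_self, ind_ne hxu, ind_ne hxv, ind_ne hyu]
    rw [show F x + F y + (F u + F y) = F x + F u + (F y + F y) by abel, hA, add_zero]
  simp [Equiv.swap_apply_of_ne_of_ne hxu hxv, Equiv.swap_apply_of_ne_of_ne hyu hyv, ind_ne hxu, ind_ne hxv,
    ind_ne hyu, ind_ne hyv, h01]

namespace Trans

variable (hT : Trans ρ T N)

include hT

theorem add_self {d : H} (hd : Tv ρ d) (v : W) : v + v = 0 := by
  rw [← two_nsmul, ← hT.two hd.2, hT.base.amb.exponent]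

theorem cen_conj_eq {d e : H} (hd : Tv ρ d) (he : Tv ρ e) :
    cen ρ (d * e * d⁻¹) = cen ρ e + if lam ρ d (cen ρ e) = 1 then cen ρ d else 0 := by
  rw [hT.cen_conj d he]
  rcases zmod2_cases (lam ρ d (cen ρ e)) with h | h
  · rw [if_neg (by rw [h]; decide), add_zero, act_of_zero hT h]
  · rw [if_pos h, hT.act_of_one hd h]

theorem lam_conj_eq {d e : H} (hd : Tv ρ d) (he : Tv ρ e) (v : W) :
    lam ρ (d * e * d⁻¹) v = lam ρ e v + if lam ρ d (cen ρ e) = 1 then lam ρ d v else 0 := by
  rw [lam_conj hT, hT.inv_eq hd]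
  rcases zmod2_cases (lam ρ d v) with h | h
  · rw [act_of_zero hT h, h, ite_self, add_zero]
  · rw [hT.act_of_one hd h, hT.lam_add he, h, hT.lam_symm he hd]
    rcases zmod2_cases (lam ρ d (cen ρ e)) with h' | h' <;> simp [h']

end Trans

theorem edge_mem_closure (k : Fin m → H) : ∀ x y, edge k x y ∈ Subgroup.closure (Set.range k)
  | none, none => one_mem _
  | none, some j => Subgroup.subset_closure ⟨j, rfl⟩
  | some i, none => Subgroup.subset_closure ⟨i, rfl⟩
  | some i, some j => mul_mem (mul_mem (Subgroup.subset_closure ⟨i, rfl⟩) (Subgroup.subset_closure ⟨j, rfl⟩))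
      (Subgroup.subset_closure ⟨i, rfl⟩)

theorem mem_edges (k : Fin m → H) (i : Fin m) : k i ∈ edges k := ⟨none, some i, by simp, rfl⟩

theorem closure_edges (k : Fin m → H) : Subgroup.closure (edges k) = Subgroup.closure (Set.range k) :=
  le_antisymm ((Subgroup.closure_le _).2 fun _ ⟨x, y, _, h⟩ => h ▸ edge_mem_closure k x y)
    (Subgroup.closure_mono fun _ ⟨i, h⟩ => h ▸ mem_edges k i)

namespace Star

variable (hs : Star ρ k) (hT : Trans ρ T N)

include hs

include hT

theorem injective {i j : Fin m} (h : k i = k j) : i = j := by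
  by_contra hne
  have h1 := hs.nc i j hne
  rw [← h, hT.lam_cen_self (hs.tv i)] at h1
  exact zero_ne_one h1

theorem tv_edge : ∀ x y, x ≠ y → Tv ρ (edge k x y)
  | none, none, h => absurd rfl h
  | none, some j, _ => hs.tv j
  | some i, none, _ => hs.tv i
  | some i, some j, _ => by
    have := hT.conj (k i) (hs.tv j)
    rwa [hT.inv_eq (hs.tv i)] at this

theorem cen_edge : ∀ x y, x ≠ y → cen ρ (edge k x y) = pointCen ρ k x + pointCen ρ k y
  | none, none, h => absurd rfl h
  | none, some j, _ => (zero_add _).symm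
  | some i, none, _ => (add_zero _).symm
  | some i, some j, h => (hT.cen_conj_one (hs.tv i) (hs.tv j)
      (hs.nc i j fun e => h (congrArg some e))).trans (add_comm _ _)

theorem lam_edge : ∀ x y, x ≠ y → ∀ v, lam ρ (edge k x y) v = pointLam ρ k x v + pointLam ρ k y v
  | none, none, h, _ => absurd rfl h
  | none, some j, _, _ => (zero_add _).symm
  | some i, none, _, _ => (add_zero _).symm
  | some i, some j, h, v => by
    show lam ρ (k i * k j * k i) v = lam ρ (k i) v + lam ρ (k j) v
    conv_lhs => rw [show k i * k j * k i = k i * k j * (k i)⁻¹ by rw [hT.inv_eq (hs.tv i)]]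
    rw [hT.lam_conj_eq (hs.tv i) (hs.tv j), if_pos (hs.nc i j fun e => h (congrArg some e)), add_comm]

theorem edge_symm {x y : Option (Fin m)} (h : x ≠ y) : edge k x y = edge k y x :=
  hT.eq_of_data (hs.tv_edge hT x y h) (hs.tv_edge hT y x h.symm)
    (by rw [hs.cen_edge hT x y h, hs.cen_edge hT y x h.symm, add_comm])
    fun v => by rw [hs.lam_edge hT x y h, hs.lam_edge hT y x h.symm, add_comm]

theorem pointLam_cen (x u : Option (Fin m)) :
    pointLam ρ k x (pointCen ρ k u) = 1 + ind x u + ind x none + ind u none := by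
  rcases x with _ | i
  · rcases u with _ | j
    · show (0 : ZMod 2) = _
      rw [ind_self]; decide
    · show (0 : ZMod 2) = _
      rw [ind_self, ind_ne (by simp), ind_ne (by simp)]; decide
  · rcases u with _ | j
    · show lam ρ (k i) 0 = _
      rw [ind_self, ind_ne (by simp), lam_eq_zero_iff.2 (map_zero _)]; decide
    · show lam ρ (k i) (cen ρ (k j)) = _
      by_cases hij : i = j
      · subst hij
        rw [hT.lam_cen_self (hs.tv i), ind_self, ind_ne (by simp)]; decide
      · rw [hs.nc i j hij, ind_ne (by simpa using hij), ind_ne (by simp), ind_ne (by simp)]; decide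

theorem lam_edge_cen {x y u v : Option (Fin m)} (hxy : x ≠ y) (huv : u ≠ v) :
    lam ρ (edge k u v) (cen ρ (edge k x y)) = ind x u + ind x v + (ind y u + ind y v) := by
  rw [hs.cen_edge hT x y hxy, hT.lam_add (hs.tv_edge hT u v huv), hs.lam_edge hT u v huv,
    hs.lam_edge hT u v huv, hs.pointLam_cen hT, hs.pointLam_cen hT, hs.pointLam_cen hT, hs.pointLam_cen hT]
  have key : ∀ a b c d g h i j : ZMod 2, 1 + a + g + i + (1 + b + h + i) + (1 + c + g + j + (1 + d + h + j)) =
      a + b + (c + d) := by decide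
  have hsymm : ∀ a b : Option (Fin m), ind a b = ind b a := fun a b => if_congr eq_comm rfl rfl
  rw [hsymm x u, hsymm x v, hsymm y u, hsymm y v]
  exact key _ _ _ _ _ _ _ _

theorem edge_conj {x y u v : Option (Fin m)} (hxy : x ≠ y) (huv : u ≠ v) :
    edge k u v * edge k x y * (edge k u v)⁻¹ = edge k (Equiv.swap u v x) (Equiv.swap u v y) := by
  have hd := hs.tv_edge hT u v huv
  have he := hs.tv_edge hT x y hxy
  have hne : Equiv.swap u v x ≠ Equiv.swap u v y := fun e => hxy ((Equiv.swap u v).injective e)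
  refine hT.eq_of_data (hT.conj _ he) (hs.tv_edge hT _ _ hne) ?_ fun w => ?_
  · rw [hT.cen_conj_eq hd he, hs.lam_edge_cen hT hxy huv, hs.cen_edge hT _ _ hne, hs.cen_edge hT x y hxy,
      hs.cen_edge hT u v huv, add_swap (hT.add_self hd) _ hxy huv]
  · rw [hT.lam_conj_eq hd he, hs.lam_edge_cen hT hxy huv, hs.lam_edge hT _ _ hne, hs.lam_edge hT x y hxy,
      hs.lam_edge hT u v huv]
    exact (add_swap (by decide) (fun z => pointLam ρ k z w) hxy huv).symm

theorem edge_eq_iff {x y u v : Option (Fin m)} (hxy : x ≠ y) (huv : u ≠ v) :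
    edge k x y = edge k u v ↔ x = u ∧ y = v ∨ x = v ∧ y = u := by
  refine ⟨fun h => ?_, ?_⟩
  · by_contra hne
    push Not at hne
    have h0 : ind x u + ind x v + (ind y u + ind y v) = 0 := by
      rw [← hs.lam_edge_cen hT hxy huv, h]
      exact hT.lam_cen_self (hs.tv_edge hT u v huv)
    by_cases hxu : x = u
    · subst hxu
      rw [ind_self, ind_ne huv, ind_ne hxy.symm, ind_ne (hne.1 rfl)] at h0
      exact absurd h0 (by decide)
    by_cases hxv : x = v
    · subst hxv
      rw [ind_self, ind_ne hxu, ind_ne hxy.symm, ind_ne (hne.2 rfl)] at h0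
      exact absurd h0 (by decide)
    by_cases hyu : y = u
    · subst hyu
      rw [ind_self, ind_ne hxu, ind_ne hxv, ind_ne huv] at h0
      exact absurd h0 (by decide)
    by_cases hyv : y = v
    · subst hyv
      rw [ind_self, ind_ne hxu, ind_ne hxv, ind_ne hyu] at h0
      exact absurd h0 (by decide)
    have htest : ∀ a b : Option (Fin m), a ≠ none → b ≠ none → a ≠ b → ∀ c d, c ≠ d → c ≠ none → d ≠ none →
        a ≠ c → a ≠ d → edge k a b ≠ edge k c d := by
      intro a b ha hb hab c d hcd hc hd hac had e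
      have h1 := hs.lam_edge_cen hT hab ha.symm
      rw [e, hs.lam_edge_cen hT hcd ha.symm, ind_ne hc, ind_ne hd, ind_ne hac.symm, ind_ne had.symm,
        ind_ne ha, ind_ne hb, ind_self, ind_ne hab.symm] at h1
      exact absurd h1 (by decide)
    have hsingle : ∀ a c d : Option (Fin m), a ≠ none → c ≠ none → d ≠ none → c ≠ d → a ≠ c → a ≠ d →
        edge k none a ≠ edge k c d := by
      intro a c d ha hc hd hcd hac had
      obtain ⟨i, rfl⟩ := Option.ne_none_iff_exists'.1 ha
      obtain ⟨j, rfl⟩ := Option.ne_none_iff_exists'.1 hc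
      obtain ⟨l, rfl⟩ := Option.ne_none_iff_exists'.1 hd
      exact fun e => hs.tri j l i (by simpa using hcd) (by simpa using hac) (by simpa using had) e.symm
    by_cases hx0 : x = none
    · subst hx0
      exact hsingle y u v hxy.symm (Ne.symm hxu) (Ne.symm hxv) huv hyu hyv h
    by_cases hy0 : y = none
    · subst hy0
      exact hsingle x u v hx0 (Ne.symm hyu) (Ne.symm hyv) huv hxu hxv ((hs.edge_symm hT hxy.symm).trans h)
    by_cases hu0 : u = none
    · subst hu0
      exact hsingle v x y huv.symm hx0 hy0 hxy (Ne.symm hxv) (Ne.symm hyv) h.symm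
    by_cases hv0 : v = none
    · subst hv0
      exact hsingle u x y hu0 hx0 hy0 hxy (Ne.symm hxu) (Ne.symm hyu) ((hs.edge_symm hT huv.symm).trans h.symm)
    exact htest x y hx0 hy0 hxy u v huv hu0 hv0 hxu hxv h
  · rintro (⟨rfl, rfl⟩ | ⟨rfl, rfl⟩)
    exacts [rfl, hs.edge_symm hT hxy]

theorem edges_conj {f g : H} (hf : f ∈ edges k) (hg : g ∈ edges k) : f * g * f⁻¹ ∈ edges k := by
  obtain ⟨u, v, huv, rfl⟩ := hf
  obtain ⟨x, y, hxy, rfl⟩ := hg
  exact ⟨_, _, fun e => hxy ((Equiv.swap u v).injective e), (hs.edge_conj hT hxy huv).symm⟩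

theorem tv_of_mem {f : H} (hf : f ∈ edges k) : Tv ρ f := by
  obtain ⟨u, v, huv, rfl⟩ := hf
  exact hs.tv_edge hT u v huv

/-- A property of edges passing to neighbours holds for all edges. -/
theorem spread {P : H → Prop} {a b : Option (Fin m)} (hab : a ≠ b) (h0 : P (edge k a b))
    (hstep : ∀ x y z, x ≠ y → x ≠ z → y ≠ z → P (edge k x y) → P (edge k x z)) :
    ∀ x y, x ≠ y → P (edge k x y) := by
  have ha : ∀ z, z ≠ a → P (edge k a z) := fun z hz => by
    by_cases hzb : z = b
    · exact hzb ▸ h0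
    · exact hstep a b z hab hz.symm (Ne.symm hzb) h0
  intro x y hxy
  by_cases hxa : x = a
  · exact hxa ▸ ha y (fun e => hxy (hxa.trans e.symm))
  by_cases hya : y = a
  · rw [hs.edge_symm hT hxy, hya]
    exact ha x hxa
  refine hstep x a y hxa hxy (Ne.symm hya) ?_
  rw [hs.edge_symm hT hxa]
  exact ha x hxa

end Star

/-- A star with no extension. -/
structure MaxStar (ρ : H →* AddMonoid.End W) (k : Fin m → H) : Prop extends Star ρ k where
  max : ∀ f, Tv ρ f → (∀ i, lam ρ f (cen ρ (k i)) = 1) → f ∈ edges k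

theorem Trans.exists_maxStar (hT : Trans ρ T N) {d : H} (hd : Tv ρ d) :
    ∃ (m : ℕ) (k : Fin m → H), MaxStar ρ k ∧ 1 ≤ m ∧ d ∈ edges k := by
  classical
  haveI := Fintype.ofFinite H
  set S : Set ℕ := {n | ∃ k : Fin (n + 1) → H, Star ρ k ∧ k 0 = d}
  have hbdd : ∀ n ∈ S, n ≤ Fintype.card H := by
    rintro n ⟨k, hk, -⟩
    have := Fintype.card_le_of_injective k fun i j => hk.injective hT
    rw [Fintype.card_fin] at this
    omega
  obtain ⟨n, ⟨k, hk, hk0⟩, hmax⟩ := Set.exists_max_image S id
    ((Set.finite_Iic (Fintype.card H)).subset hbdd)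
    ⟨0, fun _ => d, ⟨fun _ => hd, fun i j h => absurd (Fin.ext (by omega)) h,
      fun a b c h => absurd (Fin.ext (by omega)) h⟩, rfl⟩
  refine ⟨_, k, ⟨hk, fun f hf hall => ?_⟩, by omega, hk0 ▸ mem_edges k 0⟩
  by_contra hfe
  have hmem : ∀ i j, i ≠ j → k i * k j * k i ∈ edges k := fun i j hij =>
    ⟨some i, some j, by simpa using hij, rfl⟩
  have hS : n + 1 ∈ S := by
    refine ⟨Fin.snoc k f, ⟨fun i => ?_, fun i j hij => ?_, fun a b c hab hca hcb => ?_⟩, ?_⟩
    · refine Fin.lastCases ?_ (fun i => ?_) i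
      · rw [Fin.snoc_last]; exact hf
      · rw [Fin.snoc_castSucc]; exact hk.tv i
    · induction i using Fin.lastCases <;> induction j using Fin.lastCases
      · exact absurd rfl hij
      · rw [Fin.snoc_last, Fin.snoc_castSucc]; exact hall _
      · rw [Fin.snoc_last, Fin.snoc_castSucc, hT.lam_symm (hk.tv _) hf]; exact hall _
      · rw [Fin.snoc_castSucc, Fin.snoc_castSucc]
        exact hk.nc _ _ fun e => hij (congrArg Fin.castSucc e)
    · induction a using Fin.lastCases <;> induction b using Fin.lastCases <;>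
        induction c using Fin.lastCases <;>
        first
          | exact absurd rfl hab
          | exact absurd rfl hca
          | exact absurd rfl hcb
          | skip
      · simp only [Fin.snoc_last, Fin.snoc_castSucc]
        rename_i b c
        intro e
        rw [hT.braid hf (hk.tv b) (hall b)] at e
        refine hfe ?_
        have : f = k b * k c * k b := by
          rw [← e, ← mul_assoc, ← mul_assoc, hT.mul_self (hk.tv b), one_mul, mul_assoc, hT.mul_self (hk.tv b),
            mul_one]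
        exact this ▸ hmem b c fun h => hcb (congrArg Fin.castSucc h.symm)
      · simp only [Fin.snoc_last, Fin.snoc_castSucc]
        rename_i a c
        intro e
        refine hfe ?_
        have : f = k a * k c * k a := by
          rw [← e, ← mul_assoc, ← mul_assoc, hT.mul_self (hk.tv a), one_mul, mul_assoc, hT.mul_self (hk.tv a),
            mul_one]
        exact this ▸ hmem a c fun h => hca (congrArg Fin.castSucc h.symm)
      · simp only [Fin.snoc_last, Fin.snoc_castSucc]
        rename_i a b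
        exact fun e => hfe (e ▸ hmem a b fun h => hab (congrArg Fin.castSucc h))
      · simp only [Fin.snoc_castSucc]
        rename_i a b c
        exact hk.tri a b c (fun h => hab (congrArg Fin.castSucc h)) (fun h => hca (congrArg Fin.castSucc h))
          fun h => hcb (congrArg Fin.castSucc h)
    · rw [show (0 : Fin (n + 1 + 1)) = Fin.castSucc 0 from rfl, Fin.snoc_castSucc, hk0]
  have := hmax _ hS
  simp only [id] at this
  omega

namespace MaxStar

variable (hs : MaxStar ρ k) (hT : Trans ρ T N)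

include hs hT

/-- A transvection is an edge or commutes with all edges. -/
theorem dichotomy {f : H} (hf : Tv ρ f) : f ∈ edges k ∨ ∀ e ∈ edges k, lam ρ f (cen ρ e) = 0 := by
  classical
  have hs' := hs.toStar
  refine or_iff_not_imp_left.2 fun hfe => ?_
  set g : Option (Fin m) → ZMod 2 := fun x => lam ρ f (pointCen ρ k x) with hg
  have hval : ∀ x y, x ≠ y → lam ρ f (cen ρ (edge k x y)) = g x + g y := fun x y h => by
    rw [hs'.cen_edge hT x y h, hT.lam_add hf]
  have hcross : ∀ x y, x ≠ y → g x ≠ g y → lam ρ f (cen ρ (edge k x y)) = 1 := fun x y h hne => by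
    rw [hval x y h]
    revert hne
    generalize g x = a
    generalize g y = b
    revert a b
    decide
  have hsame : ∀ x y, x ≠ y → g x = g y → lam ρ f (cen ρ (edge k x y)) = 0 := fun x y h e => by
    rw [hval x y h, e]
    generalize g y = b
    revert b
    decide
  suffices hconst : ∀ x, g x = g none by
    rintro _ ⟨x, y, hxy, rfl⟩
    exact hsame x y hxy ((hconst x).trans (hconst y).symm)
  by_contra hnc
  push Not at hnc
  obtain ⟨p₁, hp₁⟩ := hnc
  have hnone : g none = 0 := lam_eq_zero_iff.2 (map_zero _)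
  have hg1 : ∀ x, g x ≠ g none → g x = 1 := fun x h => (zmod2_cases _).resolve_left (hnone ▸ h)
  -- the class of the point `none` has another member
  obtain ⟨q₂, hq₂, hq₂'⟩ : ∃ q, q ≠ none ∧ g q = g none := by
    by_contra hall
    push Not at hall
    exact hfe (hs.max f hf fun i => hg1 _ (hall (some i) (by simp)))
  -- so has the other class
  obtain ⟨p₂, hp₂, hp₂'⟩ : ∃ q, q ≠ p₁ ∧ g q = g p₁ := by
    by_contra hall
    push Not at hall
    obtain ⟨a, rfl⟩ := Option.ne_none_iff_exists'.1 (show p₁ ≠ none from fun e => hp₁ (by rw [e]))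
    have ha : lam ρ f (cen ρ (k a)) = 1 := hg1 _ hp₁
    have hf' := hT.conj (k a) hf
    have hedge : k a * f * (k a)⁻¹ ∉ edges k := fun hm => hfe (by
      have := hs'.edges_conj hT (mem_edges k a) hm
      rwa [hT.inv_eq (hs.tv a), ← mul_assoc, ← mul_assoc, hT.mul_self (hs.tv a), one_mul, mul_assoc,
        hT.mul_self (hs.tv a), mul_one] at this)
    refine hedge (hs.max _ hf' fun i => ?_)
    rw [hT.lam_conj_eq (hs.tv a) hf, hT.lam_symm (hs.tv a) hf, ha, if_pos rfl]
    by_cases hia : i = a
    · rw [hia, ha, hT.lam_cen_self (hs.tv a), add_zero]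
    · rw [show lam ρ f (cen ρ (k i)) = 0 from (zmod2_cases _).resolve_right fun h1 =>
        hall (some i) (by simpa using hia) (h1.trans (hg1 _ hp₁).symm), hs.nc a i (Ne.symm hia), zero_add]
  have hpair : ∀ {a b c d : Option (Fin m)}, a ≠ b → c ≠ d → a ≠ c → a ≠ d → b ≠ c → b ≠ d →
      edge k a b ≠ edge k c d ∧ lam ρ (edge k a b) (cen ρ (edge k c d)) = 0 := fun {a b c d} h1 h2 hac had hbc hbd =>
    ⟨fun e => ((hs'.edge_eq_iff hT h1 h2).1 e).elim (fun h => hac h.1) fun h => had h.1, by
      rw [hs'.lam_edge_cen hT h2 h1, ind_ne hac.symm, ind_ne hbc.symm, ind_ne had.symm, ind_ne hbd.symm]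
      decide⟩
  have hdiff : ∀ {a b}, g a ≠ g b → a ≠ b := fun h e => h (congrArg g e)
  -- two members on each side give a claw
  obtain ⟨x, y, q, r, hxy, exy, hqr, eqr, hxq⟩ : ∃ x y q r, x ≠ y ∧ g x = g y ∧ q ≠ r ∧ g q = g r ∧ g x ≠ g q :=
    ⟨p₁, p₂, none, q₂, hp₂.symm, hp₂'.symm, hq₂.symm, hq₂'.symm, hp₁⟩
  have hyq : g y ≠ g q := exy ▸ hxq
  have hxr : g x ≠ g r := eqr ▸ hxq
  have hyr : g y ≠ g r := eqr ▸ hyq
  obtain ⟨h12, c12⟩ := hpair hxy hqr (hdiff hxq) (hdiff hxr) (hdiff hyq) (hdiff hyr)
  refine hT.no_claw (hs'.tv_edge hT x q (hdiff hxq)) (hs'.tv_edge hT x y hxy) (hs'.tv_edge hT q r hqr) hf h12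
    (fun e => hfe ⟨x, y, hxy, e⟩) (fun e => hfe ⟨q, r, hqr, e⟩) c12
    ((hT.lam_symm (hs'.tv_edge hT x y hxy) hf).trans (hsame x y hxy exy))
    ((hT.lam_symm (hs'.tv_edge hT q r hqr) hf).trans (hsame q r hqr eqr)) ?_ ?_ ?_
  · rw [hs'.lam_edge_cen hT hxy (hdiff hxq), ind_self, ind_ne (hdiff hxq), ind_ne hxy.symm, ind_ne (hdiff hyq)]
    decide
  · rw [hs'.lam_edge_cen hT hqr (hdiff hxq), ind_self, ind_ne (hdiff hxq).symm, ind_ne (hdiff hxr).symm,
      ind_ne hqr.symm]
    decide
  · rw [hT.lam_symm (hs'.tv_edge hT x q (hdiff hxq)) hf]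
    exact hcross x q (hdiff hxq) hxq

/-- Maximal stars sharing an edge have the same edges. -/
theorem edges_subset {m' : ℕ} {k' : Fin m' → H} (hs' : Star ρ k') {f : H} (hf : f ∈ edges k) (hf' : f ∈ edges k') :
    edges k' ⊆ edges k := by
  obtain ⟨a, b, hab, rfl⟩ := hf'
  rintro _ ⟨x, y, hxy, rfl⟩
  refine hs'.spread hT (P := fun h => h ∈ edges k) hab hf (fun x y z hxy hxz hyz hP => ?_) x y hxy
  refine (hs.dichotomy hT (hs'.tv_edge hT x z hxz)).resolve_right fun h => ?_
  have h1 := h _ hP
  rw [hs'.lam_edge_cen hT hxy hxz, ind_self, ind_ne hxz, ind_ne hxy.symm, ind_ne hyz] at h1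
  exact absurd h1 (by decide)

end MaxStar

end CfsgLib.LocalEven.MovesFixed
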