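import Cfsg.Agent.Lib.LocalEven.MovesFixed.Star
import Cfsg.Agent.Lib.LocalEven.MovesFixed.LinearFamily
import Mathlib.GroupTheory.Perm.Basic
import Mathlib.GroupTheory.Perm.Closure

/-!
A star with an even number of members generates a symmetric group acting on the even-weight permutation module.
-/

set_option autoImplicit false
set_option linter.unusedSectionVars false
set_option linter.style.haveILetI false

namespace CfsgLib.LocalEven.MovesFixed

open CfsgLib.LocalEven.RankOneFF CfsgLib.LocalEven.SylowIn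

variable {H : Type*} [Group H] [Finite H] {W : Type*} [AddCommGroup W] [Finite W] {p : ℕ} [Fact p.Prime]
  {ρ : H →* AddMonoid.End W} {T : Sylow p H} {N : Subgroup H} {m : ℕ} {k : Fin m → H}

/-- The span of the centres. -/
noncomputable def cenSpan (ρ : H →* AddMonoid.End W) (k : Fin m → H) : AddSubgroup W :=
  AddSubgroup.closure (Set.range fun i => cen ρ (k i))

/-- The coordinates in the permutation module. -/
noncomputable def coord (ρ : H →* AddMonoid.End W) (k : Fin m → H) (v : W) (x : Option (Fin m)) : ZMod 2 :=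
  pointLam ρ k x v + ∑ i, lam ρ (k i) v

namespace Star

open Trans (act_of_zero lam_conj)

variable (hs : Star ρ k) (hT : Trans ρ T N)

include hs hT

theorem coord_add (v w : W) (x : Option (Fin m)) : coord ρ k (v + w) x = coord ρ k v x + coord ρ k w x := by
  have hsum : ∑ i, lam ρ (k i) (v + w) = ∑ i, lam ρ (k i) v + ∑ i, lam ρ (k i) w := by
    rw [← Finset.sum_add_distrib]
    exact Finset.sum_congr rfl fun i _ => hT.lam_add (hs.tv i) v w
  rcases x with _ | i
  · show 0 + _ = 0 + _ + (0 + _)
    rw [hsum]; abel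
  · show lam ρ (k i) (v + w) + _ = lam ρ (k i) v + _ + (lam ρ (k i) w + _)
    rw [hsum, hT.lam_add (hs.tv i)]; abel

/-- The coordinates as a homomorphism. -/
noncomputable def coordHom : W →+ (Option (Fin m) → ZMod 2) :=
  AddMonoidHom.mk' (coord ρ k) fun v w => funext (hs.coord_add hT v w)

theorem coordHom_apply (v : W) (x : Option (Fin m)) : hs.coordHom hT v x = coord ρ k v x := rfl

theorem coord_zero (x : Option (Fin m)) : coord ρ k 0 x = 0 := congrFun (map_zero (hs.coordHom hT)) x

theorem pointLam_add_pointLam (v : W) (x y : Option (Fin m)) :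
    pointLam ρ k x v + pointLam ρ k y v = coord ρ k v x + coord ρ k v y := by
  unfold coord
  generalize pointLam ρ k x v = a
  generalize pointLam ρ k y v = b
  generalize (∑ i, lam ρ (k i) v) = c
  revert a b c
  decide

variable (heven : Even m)

include heven

theorem coord_cen (j : Fin m) (x : Option (Fin m)) :
    coord ρ k (cen ρ (k j)) x = ind x none + ind x (some j) := by
  have h1 : pointLam ρ k x (cen ρ (k j)) = 1 + ind x (some j) + ind x none := by
    have := hs.pointLam_cen hT x (some j)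
    rwa [ind_ne (show (some j : Option (Fin m)) ≠ none by simp), add_zero] at this
  have h2 : ∑ i, lam ρ (k i) (cen ρ (k j)) = 1 := by
    rw [← Finset.add_sum_erase _ _ (Finset.mem_univ j), hT.lam_cen_self (hs.tv j), zero_add,
      Finset.sum_congr rfl fun i hi => hs.nc i j (Finset.ne_of_mem_erase hi), Finset.sum_const,
      Finset.card_erase_of_mem (Finset.mem_univ j), Finset.card_univ, Fintype.card_fin, nsmul_eq_mul, mul_one]
    obtain ⟨a, rfl⟩ := heven
    have : 0 < a + a := j.pos
    rw [show a + a - 1 = 2 * (a - 1) + 1 by omega, Nat.cast_add, Nat.cast_mul, Nat.cast_one,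
      show ((2 : ℕ) : ZMod 2) = 0 from rfl, zero_mul, zero_add]
  unfold coord
  rw [h1, h2]
  generalize ind x none = a
  generalize ind x (some j) = b
  revert a b
  decide

theorem coord_pointCen (a x : Option (Fin m)) : coord ρ k (pointCen ρ k a) x = ind x none + ind x a := by
  rcases a with _ | j
  · show coord ρ k 0 x = _
    rw [hs.coord_zero hT]
    generalize ind x none = a
    revert a
    decide
  · exact hs.coord_cen hT heven j x

theorem coord_edge {a b : Option (Fin m)} (hab : a ≠ b) (x : Option (Fin m)) :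
    coord ρ k (cen ρ (edge k a b)) x = ind x a + ind x b := by
  rw [hs.cen_edge hT a b hab, hs.coord_add hT, hs.coord_pointCen hT heven, hs.coord_pointCen hT heven]
  generalize ind x none = c
  generalize ind x a = d
  generalize ind x b = e
  revert c d e
  decide

theorem coord_sum (v : W) : ∑ x, coord ρ k v x = 0 := by
  unfold coord
  rw [Finset.sum_add_distrib, Fintype.sum_option, Finset.sum_const, Finset.card_univ, Fintype.card_option,
    Fintype.card_fin, nsmul_eq_mul]
  show (0 : ZMod 2) + ∑ i, lam ρ (k i) v + _ = 0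
  obtain ⟨a, rfl⟩ := heven
  generalize ∑ i, lam ρ (k i) v = c
  rw [show a + a + 1 = 2 * a + 1 by omega, Nat.cast_add, Nat.cast_mul, Nat.cast_one,
    show ((2 : ℕ) : ZMod 2) = 0 from rfl, zero_mul]
  revert c
  decide

theorem coord_gen (j : Fin m) (v : W) (x : Option (Fin m)) :
    coord ρ k (ρ (k j) v) x = coord ρ k v (Equiv.swap none (some j) x) := by
  have hrel : lam ρ (k j) v = coord ρ k v none + coord ρ k v (some j) := by
    rw [← hs.pointLam_add_pointLam hT v none (some j)]
    exact (zero_add _).symm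
  rcases zmod2_cases (lam ρ (k j) v) with h | h
  · have heq : coord ρ k v none = coord ρ k v (some j) := by
      rw [h] at hrel
      revert hrel
      generalize coord ρ k v none = a
      generalize coord ρ k v (some j) = b
      revert a b
      decide
    rw [act_of_zero hT h]
    by_cases hx : x = none
    · rw [hx, Equiv.swap_apply_left, heq]
    by_cases hx' : x = some j
    · rw [hx', Equiv.swap_apply_right, heq]
    rw [Equiv.swap_apply_of_ne_of_ne hx hx']
  · have heq : coord ρ k v none + 1 = coord ρ k v (some j) ∧ coord ρ k v (some j) + 1 = coord ρ k v none := by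
      rw [h] at hrel
      revert hrel
      generalize coord ρ k v none = a
      generalize coord ρ k v (some j) = b
      revert a b
      decide
    rw [hT.act_of_one (hs.tv j) h, hs.coord_add hT, hs.coord_cen hT heven]
    by_cases hx : x = none
    · rw [hx, Equiv.swap_apply_left, ind_self, ind_ne (by simp), add_zero, heq.1]
    by_cases hx' : x = some j
    · rw [hx', Equiv.swap_apply_right, ind_self, ind_ne (by simp), zero_add, heq.2]
    rw [Equiv.swap_apply_of_ne_of_ne hx hx', ind_ne hx, ind_ne hx', add_zero, add_zero]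

theorem exists_perm {g : H} (hg : g ∈ Subgroup.closure (Set.range k)) :
    ∃ σ : Equiv.Perm (Option (Fin m)), ∀ v x, coord ρ k (ρ g v) x = coord ρ k v (σ⁻¹ x) := by
  induction hg using Subgroup.closure_induction with
  | mem g hg =>
    obtain ⟨j, rfl⟩ := hg
    exact ⟨Equiv.swap none (some j), fun v x => by rw [Equiv.swap_inv]; exact hs.coord_gen hT heven j v x⟩
  | one => exact ⟨1, fun v x => by rw [RankOneFF.act_one, inv_one, Equiv.Perm.one_apply]⟩
  | mul a b _ _ iha ihb =>
    obtain ⟨σ, hσ⟩ := iha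
    obtain ⟨τ, hτ⟩ := ihb
    exact ⟨σ * τ, fun v x => by rw [act_mul, hσ, hτ, mul_inv_rev, Equiv.Perm.mul_apply]⟩
  | inv a _ iha =>
    obtain ⟨σ, hσ⟩ := iha
    refine ⟨σ⁻¹, fun v x => ?_⟩
    have h := hσ (ρ a⁻¹ v) (σ x)
    rw [act_inv', Equiv.Perm.inv_def, Equiv.symm_apply_apply] at h
    rw [inv_inv, h]

variable (h2 : 2 ≤ m)

include h2

theorem perm_unique {σ τ : Equiv.Perm (Option (Fin m))}
    (h : ∀ v x, coord ρ k v (σ⁻¹ x) = coord ρ k v (τ⁻¹ x)) : σ = τ := by
  refine inv_injective (Equiv.ext fun x => ?_)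
  by_contra hne
  obtain ⟨z, hz1, hz2⟩ : ∃ z, z ≠ σ⁻¹ x ∧ z ≠ τ⁻¹ x := by
    by_contra hall
    push Not at hall
    have hsub : (Finset.univ : Finset (Option (Fin m))) ⊆ {σ⁻¹ x, τ⁻¹ x} := fun z _ => by
      by_cases e : z = σ⁻¹ x
      · simp [e]
      · simp [hall z e]
    have := (Finset.card_le_card hsub).trans Finset.card_le_two
    rw [Finset.card_univ, Fintype.card_option, Fintype.card_fin] at this
    omega
  have := h (cen ρ (edge k (σ⁻¹ x) z)) x
  rw [hs.coord_edge hT heven hz1.symm, hs.coord_edge hT heven hz1.symm, ind_self, ind_ne hz1.symm,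
    ind_ne (Ne.symm hne), ind_ne hz2.symm] at this
  exact absurd this (by decide)

/-- The permutation representation. -/
noncomputable def toPerm : Subgroup.closure (Set.range k) →* Equiv.Perm (Option (Fin m)) :=
  MonoidHom.mk' (fun g => (hs.exists_perm hT heven g.2).choose) fun a b => by
    refine hs.perm_unique hT heven h2 fun v x => ?_
    rw [← (hs.exists_perm hT heven (a * b).2).choose_spec v x, Subgroup.coe_mul, act_mul,
      (hs.exists_perm hT heven a.2).choose_spec, (hs.exists_perm hT heven b.2).choose_spec, mul_inv_rev,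
      Equiv.Perm.mul_apply]

theorem coord_act (g : Subgroup.closure (Set.range k)) (v : W) (x : Option (Fin m)) :
    coord ρ k (ρ (g : H) v) x = coord ρ k v ((hs.toPerm hT heven h2 g)⁻¹ x) :=
  (hs.exists_perm hT heven g.2).choose_spec v x

omit heven h2

theorem mem_fx_closure (v : W) :
    v ∈ fx ρ (Subgroup.closure (Set.range k)) ↔ ∀ i, lam ρ (k i) v = 0 := by
  rw [mem_fx_iff_le, Subgroup.closure_le]
  exact ⟨fun h i => lam_eq_zero_iff.2 (h ⟨i, rfl⟩), fun h _ ⟨i, e⟩ => e ▸ lam_eq_zero_iff.1 (h i)⟩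

theorem comm_mem_cenSpan {g : H} (hg : g ∈ Subgroup.closure (Set.range k)) (v : W) :
    ρ g v - v ∈ cenSpan ρ k := by
  have hgen : ∀ i v, ρ (k i) v - v ∈ cenSpan ρ k := fun i v => by
    rw [hT.comm_cases (hs.tv i)]
    split_ifs
    · exact zero_mem _
    · exact AddSubgroup.subset_closure ⟨i, rfl⟩
  induction hg using Subgroup.closure_induction generalizing v with
  | mem g hg =>
    obtain ⟨i, rfl⟩ := hg
    exact hgen i v
  | one => rw [RankOneFF.act_one, sub_self]; exact zero_mem _
  | mul a b _ _ iha ihb =>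
    rw [act_mul, ← sub_add_sub_cancel (ρ a (ρ b v)) (ρ b v) v]
    exact add_mem (iha _) (ihb _)
  | inv a _ iha =>
    have h := neg_mem (iha (ρ a⁻¹ v))
    rwa [act_inv', neg_sub] at h

theorem commSub_le : commSub ρ (Subgroup.closure (Set.range k)) ≤ cenSpan ρ k :=
  (AddSubgroup.closure_le _).2 (by rintro _ ⟨g, hg, v, rfl⟩; exact hs.comm_mem_cenSpan hT hg v)

theorem cen_mem_commSub (i : Fin m) : cen ρ (k i) ∈ commSub ρ (Subgroup.closure (Set.range k)) := by
  obtain ⟨v, hv⟩ : ∃ v, lam ρ (k i) v ≠ 0 := by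
    by_contra hall
    push Not at hall
    exact (hs.tv i).1 (hT.base.amb.faithful (AddMonoidHom.ext fun v => by
      show ρ (k i) v = ρ 1 v
      rw [RankOneFF.act_one]
      exact act_of_zero hT (hall v)))
  have := hT.comm_cases (hs.tv i) v
  rw [if_neg hv] at this
  exact this ▸ AddSubgroup.subset_closure ⟨k i, Subgroup.subset_closure ⟨i, rfl⟩, v, rfl⟩

include heven

theorem act_cenSpan {g : H} (hg : g ∈ Subgroup.closure (Set.range k)) {u : W} (hu : u ∈ cenSpan ρ k) :
    ρ g u ∈ cenSpan ρ k := by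
  rw [← sub_add_cancel (ρ g u) u]
  exact add_mem (hs.comm_mem_cenSpan hT hg u) hu

theorem cenSpan_repr {u : W} (hu : u ∈ cenSpan ρ k) :
    ∃ s : Finset (Fin m), u = ∑ i ∈ s, cen ρ (k i) ∧ ∀ j, coord ρ k u (some j) = if j ∈ s then 1 else 0 := by
  classical
  have hrep : ∃ a : Fin m → ZMod 2, u = ∑ i, if a i = 1 then cen ρ (k i) else 0 := by
    induction hu using AddSubgroup.closure_induction with
    | mem u hu =>
      obtain ⟨i, rfl⟩ := hu
      exact ⟨fun j => if j = i then 1 else 0, by simp⟩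
    | zero => exact ⟨0, by simp⟩
    | add u w _ _ hu hw =>
      obtain ⟨a, rfl⟩ := hu
      obtain ⟨b, rfl⟩ := hw
      refine ⟨a + b, ?_⟩
      rw [← Finset.sum_add_distrib]
      refine Finset.sum_congr rfl fun i _ => ?_
      rcases zmod2_cases (a i) with ha | ha <;> rcases zmod2_cases (b i) with hb | hb <;>
        simp [ha, hb, hT.add_self (hs.tv i), show (1 : ZMod 2) + 1 = 0 from rfl]
    | neg u _ hu =>
      obtain ⟨a, rfl⟩ := hu
      refine ⟨a, ?_⟩
      rw [← Finset.sum_neg_distrib]
      refine Finset.sum_congr rfl fun i _ => ?_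
      split_ifs
      · exact neg_eq_of_add_eq_zero_left (hT.cen_add (hs.tv i))
      · exact neg_zero
  obtain ⟨a, rfl⟩ := hrep
  refine ⟨Finset.univ.filter fun i => a i = 1, (Finset.sum_filter _ _).symm, fun j => ?_⟩
  rw [← Finset.sum_filter, ← hs.coordHom_apply hT, map_sum, Finset.sum_apply]
  simp only [hs.coordHom_apply hT, hs.coord_cen hT heven]
  simp [ind]

theorem cenSpan_ext {u w : W} (hu : u ∈ cenSpan ρ k) (hw : w ∈ cenSpan ρ k)
    (h : ∀ x, coord ρ k u x = coord ρ k w x) : u = w := by
  classical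
  obtain ⟨s, rfl, hs'⟩ := hs.cenSpan_repr hT heven hu
  obtain ⟨t, rfl, ht⟩ := hs.cenSpan_repr hT heven hw
  congr 1
  refine Finset.ext fun j => ?_
  have := h (some j)
  rw [hs', ht] at this
  by_cases h1 : j ∈ s <;> by_cases h2 : j ∈ t <;> simp_all

theorem coord_eq_zero_iff (v : W) :
    (∀ x, coord ρ k v x = 0) ↔ v ∈ fx ρ (Subgroup.closure (Set.range k)) := by
  rw [hs.mem_fx_closure hT]
  refine ⟨fun h i => ?_, fun h x => ?_⟩
  · have h0 : ∑ i, lam ρ (k i) v = 0 := by
      have := h none
      rwa [coord, show pointLam ρ k none v = 0 from rfl, zero_add] at this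
    have := h (some i)
    rwa [coord, h0, add_zero] at this
  · rw [coord, Finset.sum_eq_zero fun i _ => h i, add_zero]
    rcases x with _ | i
    exacts [rfl, h i]

/-- The module splits. -/
theorem exists_split (v : W) :
    ∃ u ∈ cenSpan ρ k, v - u ∈ fx ρ (Subgroup.closure (Set.range k)) := by
  classical
  set s := Finset.univ.filter fun i => coord ρ k v (some i) = 1
  refine ⟨∑ i ∈ s, cen ρ (k i), sum_mem fun i _ => AddSubgroup.subset_closure ⟨i, rfl⟩,
    (hs.coord_eq_zero_iff hT heven _).1 fun x => ?_⟩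
  have hsome : ∀ j, coord ρ k (v - ∑ i ∈ s, cen ρ (k i)) (some j) = 0 := fun j => by
    rw [← hs.coordHom_apply hT, map_sub, map_sum, Pi.sub_apply, Finset.sum_apply]
    simp only [hs.coordHom_apply hT, hs.coord_cen hT heven]
    rcases zmod2_cases (coord ρ k v (some j)) with h | h <;> simp [ind, s, h]
  rcases x with _ | j
  · have := hs.coord_sum hT heven (v - ∑ i ∈ s, cen ρ (k i))
    rwa [Fintype.sum_option, Finset.sum_eq_zero fun j _ => hsome j, add_zero] at this
  · exact hsome j

include h2

theorem toPerm_injective : Function.Injective (hs.toPerm hT heven h2) := by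
  refine (injective_iff_map_eq_one _).2 fun g hg => Subtype.ext (hT.base.amb.faithful (AddMonoidHom.ext fun v => ?_))
  show ρ (g : H) v = ρ 1 v
  obtain ⟨u, hu, hd⟩ := hs.exists_split hT heven v
  have hgu : ρ (g : H) u = u := hs.cenSpan_ext hT heven (hs.act_cenSpan hT heven g.2 hu) hu fun x => by
    rw [hs.coord_act hT heven h2, hg, inv_one, Equiv.Perm.one_apply]
  rw [RankOneFF.act_one, ← sub_add_cancel v u, map_add, hgu, hd _ g.2]

theorem toPerm_gen (j : Fin m) (h : k j ∈ Subgroup.closure (Set.range k)) :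
    hs.toPerm hT heven h2 ⟨k j, h⟩ = Equiv.swap none (some j) :=
  hs.perm_unique hT heven h2 fun v x => by
    rw [← hs.coord_act hT heven h2, Equiv.swap_inv]
    exact hs.coord_gen hT heven j v x

theorem toPerm_surjective : Function.Surjective (hs.toPerm hT heven h2) := by
  classical
  rw [← MonoidHom.range_eq_top, eq_top_iff, ← Equiv.Perm.closure_isSwap, Subgroup.closure_le]
  have hbase : ∀ a, a ≠ none → Equiv.swap (none : Option (Fin m)) a ∈ (hs.toPerm hT heven h2).range := by
    intro a ha
    obtain ⟨j, rfl⟩ := Option.ne_none_iff_exists'.1 ha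
    exact ⟨⟨k j, Subgroup.subset_closure ⟨j, rfl⟩⟩, hs.toPerm_gen hT heven h2 j _⟩
  rintro _ ⟨a, b, hab, rfl⟩
  by_cases ha : a = none
  · exact ha ▸ hbase b (fun hb => hab (ha.trans hb.symm))
  by_cases hb : b = none
  · rw [hb, Equiv.swap_comm]
    exact hbase a ha
  have := Equiv.swap_apply_apply (Equiv.swap none a) none b
  rw [Equiv.swap_apply_left, Equiv.swap_apply_of_ne_of_ne hb hab.symm] at this
  rw [this]
  exact mul_mem (mul_mem (hbase a ha) (hbase b hb)) (inv_mem (hbase a ha))

theorem conj_edge (g : Subgroup.closure (Set.range k)) {a b : Option (Fin m)} (hab : a ≠ b) :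
    (g : H) * edge k a b * (g : H)⁻¹ =
      edge k (hs.toPerm hT heven h2 g a) (hs.toPerm hT heven h2 g b) := by
  set σ := hs.toPerm hT heven h2 g with hσ
  have hne : σ a ≠ σ b := fun e => hab (σ.injective e)
  have hd := hs.tv_edge hT a b hab
  refine hT.eq_of_data (hT.conj _ hd) (hs.tv_edge hT _ _ hne) ?_ fun v => ?_
  · rw [hT.cen_conj _ hd]
    have hmem : ∀ {x y}, x ≠ y → cen ρ (edge k x y) ∈ cenSpan ρ k := fun {x y} h => by
      rw [hs.cen_edge hT x y h]
      exact add_mem (by cases x <;> [exact zero_mem _; exact AddSubgroup.subset_closure ⟨_, rfl⟩])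
        (by cases y <;> [exact zero_mem _; exact AddSubgroup.subset_closure ⟨_, rfl⟩])
    refine hs.cenSpan_ext hT heven (hs.act_cenSpan hT heven g.2 (hmem hab)) (hmem hne) fun x => ?_
    rw [hs.coord_act hT heven h2, ← hσ, hs.coord_edge hT heven hab, hs.coord_edge hT heven hne]
    simp only [ind, Equiv.Perm.inv_eq_iff_eq]
  · rw [lam_conj hT, hs.lam_edge hT a b hab, hs.lam_edge hT _ _ hne, hs.pointLam_add_pointLam hT,
      hs.pointLam_add_pointLam hT]
    have hrel : ∀ x, coord ρ k (ρ (g : H)⁻¹ v) x = coord ρ k v (σ x) := fun x => by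
      have h := hs.coord_act hT heven h2 g (ρ (g : H)⁻¹ v) (σ x)
      rw [act_inv', ← hσ, Equiv.Perm.inv_def, Equiv.symm_apply_apply] at h
      exact h.symm
    rw [hrel, hrel]

/-- Nothing in the group but the identity has all commutators fixed by it. -/
theorem eq_one_of_fix {x : H} (hx : x ∈ Subgroup.closure (Set.range k))
    (hfix : ∀ v, ρ x v - v ∈ fx ρ (Subgroup.closure (Set.range k))) : x = 1 := by
  have h1 : hs.toPerm hT heven h2 ⟨x, hx⟩ = 1 := hs.perm_unique hT heven h2 fun v y => by
    rw [← hs.coord_act hT heven h2, inv_one, Equiv.Perm.one_apply, ← sub_eq_zero, ← hs.coordHom_apply hT,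
      ← hs.coordHom_apply hT, ← Pi.sub_apply, ← map_sub, hs.coordHom_apply hT]
    exact (hs.coord_eq_zero_iff hT heven _).2 (hfix v) y
  exact congrArg Subtype.val (hs.toPerm_injective hT heven h2 (h1.trans (map_one _).symm))

omit heven h2

/-- The permutation module of degree `2ⁿ + 1`. -/
theorem symModel {n : ℕ} (hn : 1 ≤ n) (hm : m = 2 ^ n) : SymModel ρ (Subgroup.closure (Set.range k)) n := by
  classical
  subst hm
  have heven : Even (2 ^ n) := (Nat.even_pow.2 ⟨even_two, by omega⟩)
  have h2 : 2 ≤ 2 ^ n := le_trans (by norm_num) (Nat.pow_le_pow_right (by norm_num) hn)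
  let e : Option (Fin (2 ^ n)) ≃ Fin (2 ^ n + 1) := (finSuccEquiv _).symm
  refine ⟨e.permCongrHom.toMonoidHom.comp (hs.toPerm hT heven h2),
    AddMonoidHom.mk' (fun v i => coord ρ k v (e.symm i)) fun v w => funext fun i => hs.coord_add hT v w _,
    e.permCongrHom.bijective.comp ⟨hs.toPerm_injective hT heven h2, hs.toPerm_surjective hT heven h2⟩,
    fun v => ?_, fun y hy => ?_, fun v => ?_, fun g v i => ?_⟩
  · exact (Equiv.sum_comp e.symm (coord ρ k v)).trans (hs.coord_sum hT heven v)
  · set s := Finset.univ.filter fun j => y (e (some j)) = 1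
    have hsome : ∀ j, coord ρ k (∑ i ∈ s, cen ρ (k i)) (some j) = y (e (some j)) := fun j => by
      rw [← hs.coordHom_apply hT, map_sum, Finset.sum_apply]
      simp only [hs.coordHom_apply hT, hs.coord_cen hT heven]
      rcases zmod2_cases (y (e (some j))) with h | h <;> simp [ind, s, h]
    refine ⟨∑ i ∈ s, cen ρ (k i), funext fun i => ?_⟩
    obtain ⟨x, rfl⟩ := e.surjective i
    show coord ρ k _ (e.symm (e x)) = y (e x)
    rw [e.symm_apply_apply]
    rcases x with _ | j
    · have h1 := hs.coord_sum hT heven (∑ i ∈ s, cen ρ (k i))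
      rw [← Equiv.sum_comp e, Fintype.sum_option] at hy
      rw [Fintype.sum_option, Finset.sum_congr rfl fun j _ => hsome j] at h1
      exact add_right_cancel (h1.trans hy.symm)
    · exact hsome j
  · rw [← hs.coord_eq_zero_iff hT heven]
    exact ⟨fun h x => by simpa using congrFun h (e x), fun h => funext fun i => h _⟩
  · show coord ρ k (ρ (g : H) v) (e.symm i) = coord ρ k v (e.symm ((e.permCongrHom (hs.toPerm hT heven h2 g))⁻¹ i))
    rw [hs.coord_act hT heven h2]
    congr 1
    show (hs.toPerm hT heven h2 g)⁻¹ (e.symm i) = e.symm (e ((hs.toPerm hT heven h2 g)⁻¹ (e.symm i)))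
    rw [e.symm_apply_apply]

include heven h2

/-- An element permuting the edges acts like a member of the group times one centralising it. -/
theorem exists_decomp {h : H} (hn : ∀ f ∈ edges k, h * f * h⁻¹ ∈ edges k) :
    ∃ g ∈ Subgroup.closure (Set.range k), g⁻¹ * h ∈ centFix ρ (Subgroup.closure (Set.range k)) := by
  classical
  choose u v huv he using fun i => hn (k i) (mem_edges k i)
  have hlam : ∀ i j, i ≠ j → lam ρ (edge k (u i) (v i)) (cen ρ (edge k (u j) (v j))) = 1 := fun i j hij => by
    rw [he, he, lam_conj hT, hT.cen_conj _ (hs.tv j), RankOneFF.act_inv]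
    exact hs.nc i j hij
  have hinter : ∀ i j, i ≠ j → ind (u j) (u i) + ind (u j) (v i) + (ind (v j) (u i) + ind (v j) (v i)) = 1 :=
    fun i j hij => (hs.lam_edge_cen hT (huv j) (huv i)).symm.trans (hlam i j hij)
  set i₀ : Fin m := ⟨0, by omega⟩
  set i₁ : Fin m := ⟨1, by omega⟩
  have h01 : i₀ ≠ i₁ := by simp [i₀, i₁]
  obtain ⟨x₀, a, b, hxa, hxb, hab, hea, heb⟩ : ∃ x₀ a b, x₀ ≠ a ∧ x₀ ≠ b ∧ a ≠ b ∧
      edge k x₀ a = h * k i₀ * h⁻¹ ∧ edge k x₀ b = h * k i₁ * h⁻¹ := by
    have h1 := hinter i₀ i₁ h01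
    have hne : ¬((u i₁ = u i₀ ∧ v i₁ = v i₀) ∨ (u i₁ = v i₀ ∧ v i₁ = u i₀)) := fun e => h01 (hs.injective hT (by
      have := (hs.edge_eq_iff hT (huv i₁) (huv i₀)).2 e
      rw [he, he] at this
      exact (mul_left_cancel (mul_right_cancel this)).symm))
    push Not at hne
    by_cases c1 : u i₁ = u i₀
    · exact ⟨u i₀, v i₀, v i₁, huv _, c1 ▸ huv _, (hne.1 c1).symm, he _, c1 ▸ he _⟩
    by_cases c2 : u i₁ = v i₀
    · exact ⟨v i₀, u i₀, v i₁, (huv _).symm, c2 ▸ huv _, (hne.2 c2).symm,
        (hs.edge_symm hT (huv _).symm).trans (he _), c2 ▸ he _⟩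
    by_cases c3 : v i₁ = u i₀
    · exact ⟨u i₀, v i₀, u i₁, huv _, c3 ▸ (huv _).symm, Ne.symm c2, he _,
        c3 ▸ (hs.edge_symm hT (huv _).symm).trans (he _)⟩
    by_cases c4 : v i₁ = v i₀
    · exact ⟨v i₀, u i₀, u i₁, (huv _).symm, c4 ▸ (huv _).symm, Ne.symm c1,
        (hs.edge_symm hT (huv _).symm).trans (he _), c4 ▸ (hs.edge_symm hT (huv _).symm).trans (he _)⟩
    rw [ind_ne c1, ind_ne c2, ind_ne c3, ind_ne c4] at h1
    exact absurd h1 (by decide)
  have hstar : ∀ i, ∃ c, x₀ ≠ c ∧ edge k x₀ c = h * k i * h⁻¹ := by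
    intro i
    by_cases e0 : i = i₀
    · exact ⟨a, hxa, e0 ▸ hea⟩
    by_cases e1 : i = i₁
    · exact ⟨b, hxb, e1 ▸ heb⟩
    by_cases c1 : u i = x₀
    · exact ⟨v i, c1 ▸ huv i, c1 ▸ he i⟩
    by_cases c2 : v i = x₀
    · exact ⟨u i, c2 ▸ (huv i).symm, c2 ▸ (hs.edge_symm hT (huv i).symm).trans (he i)⟩
    exfalso
    have haj : ∀ c j, i ≠ j → x₀ ≠ c → edge k x₀ c = h * k j * h⁻¹ → u i = c ∨ v i = c := by
      intro c j hij hxc hec
      by_contra hno
      push Not at hno
      have h1 := hs.lam_edge_cen hT (huv i) hxc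
      rw [ind_ne c1, ind_ne c2, ind_ne hno.1, ind_ne hno.2, hec, he, lam_conj hT, hT.cen_conj _ (hs.tv i),
        RankOneFF.act_inv, hs.nc j i (Ne.symm hij)] at h1
      exact absurd h1 (by decide)
    have hia := haj a i₀ e0 hxa hea
    have hib := haj b i₁ e1 hxb heb
    have hi : edge k (u i) (v i) = edge k a b := (hs.edge_eq_iff hT (huv i) hab).2 (by
      rcases hia with e | e <;> rcases hib with e' | e'
      · exact absurd (e.symm.trans e') hab
      · exact Or.inl ⟨e, e'⟩
      · exact Or.inr ⟨e', e⟩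
      · exact absurd (e.symm.trans e') hab)
    refine hs.tri i₀ i₁ i h01 e0 e1 (mul_left_cancel (mul_right_cancel (?_ : h * _ * h⁻¹ = h * k i * h⁻¹)))
    have := hs.edge_conj hT hxb hxa
    rw [Equiv.swap_apply_left, Equiv.swap_apply_of_ne_of_ne hxb.symm hab.symm, hea, heb] at this
    rw [← he i, hi, ← this, mul_inv_rev, mul_inv_rev, inv_inv, hT.inv_eq (hs.tv i₀)]
    group
  choose c hxc hc using hstar
  have hinj : Function.Injective fun x : Option (Fin m) => x.elim x₀ c := by
    rintro (_ | i) (_ | j) e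
    · rfl
    · exact absurd e (hxc j)
    · exact absurd e.symm (hxc i)
    · refine congrArg some (hs.injective hT (mul_left_cancel (mul_right_cancel (?_ : h * _ * h⁻¹ = h * _ * h⁻¹))))
      rw [← hc i, ← hc j]
      exact congrArg (edge k x₀) e
  obtain ⟨g, hg⟩ := hs.toPerm_surjective hT heven h2 (Equiv.ofBijective _ (Finite.injective_iff_bijective.1 hinj))
  refine ⟨g, g.2, ?_⟩
  have hconj : ∀ i, (g : H) * k i * (g : H)⁻¹ = h * k i * h⁻¹ := fun i => by
    have := hs.conj_edge hT heven h2 g (show (none : Option (Fin m)) ≠ some i by simp)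
    rw [hg] at this
    exact this.trans (hc i)
  set z := (g : H)⁻¹ * h with hz
  have hzk : ∀ i, z * k i * z⁻¹ = k i := fun i => by
    rw [hz, show (g : H)⁻¹ * h * k i * ((g : H)⁻¹ * h)⁻¹ = (g : H)⁻¹ * (h * k i * h⁻¹) * g by group, ← hconj]
    group
  have hzc : ∀ l ∈ Subgroup.closure (Set.range k), z * l = l * z := fun l hl => by
    have hle : Subgroup.closure (Set.range k) ≤ Subgroup.centralizer ({z} : Set H) :=
      (Subgroup.closure_le _).2 fun _ ⟨i, e⟩ => Subgroup.mem_centralizer_singleton_iff.2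
        (e ▸ (mul_inv_eq_iff_eq_mul.1 (hzk i)).symm)
    exact (Subgroup.mem_centralizer_singleton_iff.1 (hle hl)).symm
  refine mem_centFix.2 ⟨hzc, fun w => ?_⟩
  obtain ⟨y, hy, hd⟩ := hs.exists_split hT heven w
  have hzy : ρ z y = y := by
    clear hd
    induction hy using AddSubgroup.closure_induction with
    | mem y hy =>
      obtain ⟨i, rfl⟩ := hy
      have := hT.cen_conj z (hs.tv i)
      rw [hzk] at this
      exact this.symm
    | zero => exact map_zero _
    | add _ _ _ _ h1 h2 => rw [map_add, h1, h2]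
    | neg _ _ h1 => rw [map_neg, h1]
  have hzd : ρ z (w - y) ∈ fx ρ (Subgroup.closure (Set.range k)) := fun l hl => by
    rw [← act_mul, ← hzc l hl, act_mul, hd l hl]
  have := sub_mem hzd hd
  rwa [map_sub, hzy, sub_sub_sub_cancel_right] at this

end Star

end CfsgLib.LocalEven.MovesFixed
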