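import Cfsg.Agent.Lib.LocalEven.MovesFixed.StarModel

/-!
Transvections: the classes of noncommuting ones are conjugate under `T`, and meet `T` in perfect or almost
perfect matchings.
-/

set_option autoImplicit false
set_option linter.unusedSectionVars false
set_option linter.style.haveILetI false

namespace CfsgLib.LocalEven.MovesFixed

open CfsgLib.LocalEven.RankOneFF CfsgLib.LocalEven.SylowIn

variable {H : Type*} [Group H] [Finite H] {W : Type*} [AddCommGroup W] [Finite W] {p : ℕ} [Fact p.Prime]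
  {ρ : H →* AddMonoid.End W} {T : Sylow p H} {N : Subgroup H} {m : ℕ} {k : Fin m → H}

/-- The conjugate of a star. -/
def cjk (g : H) (k : Fin m → H) : Fin m → H := fun i => g * k i * g⁻¹

theorem edge_cjk (g : H) (k : Fin m → H) : ∀ x y, edge (cjk g k) x y = g * edge k x y * g⁻¹
  | none, none => show (1 : H) = g * 1 * g⁻¹ by group
  | none, some _ => rfl
  | some _, none => rfl
  | some i, some j => show g * k i * g⁻¹ * (g * k j * g⁻¹) * (g * k i * g⁻¹) = g * (k i * k j * k i) * g⁻¹ by group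

theorem mem_edges_cjk {g f : H} {k : Fin m → H} : f ∈ edges (cjk g k) ↔ g⁻¹ * f * g ∈ edges k := by
  constructor
  · rintro ⟨x, y, h, rfl⟩
    exact ⟨x, y, h, by rw [edge_cjk]; group⟩
  · rintro ⟨x, y, h, e⟩
    exact ⟨x, y, h, by rw [edge_cjk, e]; group⟩

theorem conj_mem_edges_cjk {g f : H} {k : Fin m → H} (hf : f ∈ edges k) : g * f * g⁻¹ ∈ edges (cjk g k) := by
  rw [mem_edges_cjk, show g⁻¹ * (g * f * g⁻¹) * g = f by group]
  exact hf

theorem MaxStar.cjk (hs : MaxStar ρ k) (hT : Trans ρ T N) (g : H) : MaxStar ρ (MovesFixed.cjk g k) := by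
  have hlam : ∀ d e : H, Tv ρ e → lam ρ (g * d * g⁻¹) (cen ρ (g * e * g⁻¹)) = lam ρ d (cen ρ e) := fun d e he => by
    rw [Trans.lam_conj hT, hT.cen_conj g he, RankOneFF.act_inv]
  refine ⟨⟨fun i => hT.conj g (hs.tv i), fun i j h => (hlam _ _ (hs.tv j)).trans (hs.nc i j h),
    fun a b c h1 h2 h3 e => hs.tri a b c h1 h2 h3 ?_⟩, fun f hf hall => mem_edges_cjk.2 ?_⟩
  · refine mul_left_cancel (mul_right_cancel (?_ : g * _ * g⁻¹ = g * k c * g⁻¹))
    exact (show g * (k a * k b * k a) * g⁻¹ = g * k a * g⁻¹ * (g * k b * g⁻¹) * (g * k a * g⁻¹) by group).trans e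
  · have hf' : Tv ρ (g⁻¹ * f * g) := by simpa using hT.conj g⁻¹ hf
    refine hs.max _ hf' fun i => ?_
    rw [← hlam _ _ (hs.tv i), show g * (g⁻¹ * f * g) * g⁻¹ = f by group]
    exact hall i

/-- A component outside `N`. -/
structure Sym (ρ : H →* AddMonoid.End W) (T : Sylow p H) (N : Subgroup H) (k : Fin m → H) : Prop where
  trans : Trans ρ T N
  star : MaxStar ρ k
  outside : ¬ Subgroup.closure (Set.range k) ≤ N

/-- The group generated by the conjugates of a component. -/
def blockSup (T : Sylow p H) (k : Fin m → H) : Subgroup H :=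
  ⨆ t : (T : Subgroup H), Subgroup.closure (Set.range (cjk (t : H) k))

theorem closure_cjk (g : H) (k : Fin m → H) :
    Subgroup.closure (Set.range (cjk g k)) = RankOneFF.cj g (Subgroup.closure (Set.range k)) := by
  rw [RankOneFF.cj, MonoidHom.map_closure, ← Set.range_comp]
  rfl

theorem cj_blockSup (T : Sylow p H) (k : Fin m → H) {t : H} (ht : t ∈ (T : Subgroup H)) :
    RankOneFF.cj t (blockSup T k) = blockSup T k := by
  refine Subgroup.eq_of_le_of_card_ge ?_ (card_cj t _).ge
  rw [blockSup, RankOneFF.cj, Subgroup.map_iSup]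
  refine iSup_le fun t' => ?_
  rw [closure_cjk, map_conj_conj]
  refine le_trans (le_of_eq ?_) (le_iSup _ (⟨t, ht⟩ * t' : (T : Subgroup H)))
  rw [closure_cjk, Subgroup.coe_mul]

theorem exists_outside (hT : Trans ρ T N) {A : Subgroup H} (hA : Good ρ A) : ∃ d, Tv ρ d ∧ d ∉ N := by
  by_contra hall
  push Not at hall
  set J := Subgroup.closure {d | Tv ρ d} with hJ
  haveI : J.Normal := ⟨fun x hx g => by
    have hle : J ≤ J.comap (MulAut.conj g).toMonoidHom :=
      (Subgroup.closure_le _).2 fun d hd => Subgroup.subset_closure (hT.conj g hd)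
    exact hle hx⟩
  obtain ⟨d, hd, rfl⟩ := hT.exists_tv hA
  have h := normal_sup_eq_top hT.base hA (K := J) (Subgroup.zpowers_le.2 (Subgroup.subset_closure hd))
  exact hT.base.ne_top (top_le_iff.1 (h.ge.trans (sup_le ((Subgroup.closure_le _).2 hall) hT.base.le)))

theorem exists_sym (hT : Trans ρ T N) {A : Subgroup H} (hA : Good ρ A) :
    ∃ (m : ℕ) (k : Fin m → H), Sym ρ T N k := by
  obtain ⟨d, hd, hdN⟩ := exists_outside hT hA
  obtain ⟨m, k, hk, -, hdk⟩ := hT.exists_maxStar hd
  exact ⟨m, k, hT, hk, fun h => hdN (h (closure_edges k ▸ Subgroup.subset_closure hdk))⟩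

/-- The edges of a component in `T`. -/
def inT (T : Sylow p H) (k : Fin m → H) : Set H := {e | e ∈ edges k ∧ e ∈ (T : Subgroup H)}

/-- The stabiliser of a component in `T`. -/
def stabT (T : Sylow p H) (k : Fin m → H) : Subgroup H := (T : Subgroup H) ⊓ Subgroup.normalizer (edges k)

open Classical in
/-- The other end of the edge in `T` at a point. -/
noncomputable def mate (T : Sylow p H) (k : Fin m → H) (x : Option (Fin m)) : Option (Fin m) :=
  if h : ∃ y, x ≠ y ∧ edge k x y ∈ (T : Subgroup H) then h.choose else x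

theorem mate_mem (T : Sylow p H) (k : Fin m → H) {x : Option (Fin m)} (h : mate T k x ≠ x) :
    edge k x (mate T k x) ∈ (T : Subgroup H) := by
  unfold mate at h ⊢
  split_ifs at h ⊢ with h'
  · exact h'.choose_spec.2
  · exact absurd rfl h

namespace Sym

variable (h : Sym ρ T N k)

include h

theorem transport {t : H} (ht : t ∈ (T : Subgroup H)) : Sym ρ T N (cjk t k) where
  trans := h.trans
  star := h.star.cjk h.trans t
  outside hle := h.outside fun x hx => by
    rw [closure_cjk] at hle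
    have h1 := hle (conj_mem_cj t hx)
    have h2 := mul_mem (mul_mem (inv_mem (h.trans.base.le ht)) h1) (h.trans.base.le ht)
    simpa [mul_assoc] using h2

theorem sup_T : Subgroup.closure (Set.range k) ⊔ (T : Subgroup H) = ⊤ := by
  by_contra e
  exact h.outside (le_sup_left.trans (h.trans.base.overgroup _ le_sup_right e))

theorem mem_blockSup {t : H} (ht : t ∈ (T : Subgroup H)) {f : H} (hf : f ∈ edges (cjk t k)) : f ∈ blockSup T k := by
  refine (le_iSup (fun t : (T : Subgroup H) => Subgroup.closure (Set.range (cjk (t : H) k))) ⟨t, ht⟩) ?_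
  exact closure_edges (cjk t k) ▸ Subgroup.subset_closure hf

theorem blockSup_normal : (blockSup T k).Normal := by
  rw [← Subgroup.normalizer_eq_top_iff, eq_top_iff, ← h.sup_T]
  refine sup_le (le_trans ?_ Subgroup.le_normalizer) (le_normalizer_of_map_conj fun t ht => cj_blockSup T k ht)
  refine le_iSup_of_le (1 : (T : Subgroup H)) (le_of_eq ?_)
  rw [closure_cjk, Subgroup.coe_one, cj_one]

theorem blockSup_sup_T : blockSup T k ⊔ (T : Subgroup H) = ⊤ :=
  eq_top_iff.2 (h.sup_T.ge.trans (sup_le_sup_right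
    (le_iSup_of_le (1 : (T : Subgroup H)) (le_of_eq (by rw [closure_cjk, Subgroup.coe_one, cj_one]))) _))

theorem edges_eq {m' : ℕ} {k' : Fin m' → H} (h' : MaxStar ρ k') {f : H} (hf : f ∈ edges k) (hf' : f ∈ edges k') :
    edges k' = edges k :=
  Set.Subset.antisymm (h.star.edges_subset h.trans h'.toStar hf hf')
    (h'.edges_subset h.trans h.star.toStar hf' hf)

theorem comm_of_notMem {f : H} (hf : Tv ρ f) (hfe : f ∉ edges k) {e : H} (he : e ∈ edges k) : f * e = e * f :=
  (h.trans.comm_iff hf (h.star.tv_of_mem h.trans he)).2 (((h.star.dichotomy h.trans hf).resolve_left hfe) e he)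

/-- No nontrivial normal `p`-subgroup of the sup of the blocks. -/
theorem no_normal_p {K : Subgroup H} (hK : IsPGroup p K) (hKZ : K ≤ blockSup T k)
    (hn : blockSup T k ≤ Subgroup.normalizer (K : Set H)) : K = ⊥ := by
  haveI := h.blockSup_normal
  set Z := blockSup T k
  set U : Subgroup H := sSup {K : Subgroup H | K ≤ Z ∧ Z ≤ Subgroup.normalizer (K : Set H) ∧ IsPGroup p K} with hU
  have hleT : ∀ K : Subgroup H, K ≤ Z → Z ≤ Subgroup.normalizer (K : Set H) → IsPGroup p K →
      K ≤ (T : Subgroup H) := by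
    intro K hKZ hn hK
    set P := K ⊔ ((T : Subgroup H) ⊓ Z) with hP
    have hPp : IsPGroup p P := hK.to_sup_of_normal_left' (T.2.to_le inf_le_left) (inf_le_right.trans hn)
    obtain ⟨P', hP'⟩ := hPp.exists_le_sylow
    obtain ⟨g, hg⟩ := MulAction.exists_smul_eq H P' T
    have hle : RankOneFF.cj g P ≤ (T : Subgroup H) ⊓ Z := le_inf (hg ▸ Subgroup.map_mono hP') fun z hz => by
      have h2 := ‹Z.Normal›.conj_mem _ ((sup_le hKZ inf_le_right : P ≤ Z) (mem_cj.1 hz)) g
      simpa [mul_assoc] using h2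
    have heq : (T : Subgroup H) ⊓ Z = P :=
      Subgroup.eq_of_le_of_card_ge le_sup_right ((card_cj g P).ge.trans (Subgroup.card_le_of_le hle))
    exact (le_sup_left.trans heq.ge).trans inf_le_left
  have hUn : U.Normal := by
    rw [← Subgroup.normalizer_eq_top_iff, eq_top_iff, ← h.blockSup_sup_T]
    refine sup_le (le_normalizer_of_map_conj fun z hz => ?_) (le_normalizer_of_map_conj fun t ht => ?_)
    · refine Subgroup.eq_of_le_of_card_ge ?_ (card_cj z U).ge
      rw [Subgroup.map_le_iff_le_comap, hU]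
      refine sSup_le fun L hL => Subgroup.map_le_iff_le_comap.1 ?_
      rw [map_conj_eq_iff.2 (hL.2.1 hz)]
      exact le_sSup hL
    · refine Subgroup.eq_of_le_of_card_ge ?_ (card_cj t U).ge
      rw [Subgroup.map_le_iff_le_comap, hU]
      refine sSup_le fun L hL => Subgroup.map_le_iff_le_comap.1 ?_
      refine le_sSup ⟨(Subgroup.map_mono hL.1).trans (cj_blockSup T k ht).le, ?_, hL.2.2.map _⟩
      rw [normalizer_map_conj]
      exact (cj_blockSup T k ht).ge.trans (Subgroup.map_mono hL.2.1)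
  have hUp : IsPGroup p U := T.2.to_le (sSup_le fun L hL => hleT L hL.1 hL.2.1 hL.2.2)
  exact eq_bot_iff.2 ((le_sSup ⟨hKZ, hn, hK⟩ : K ≤ U).trans (h.trans.base.core U hUn hUp).le)

/-- Every transvection lies in a conjugate of the component. -/
theorem cover {f : H} (hf : Tv ρ f) : ∃ t ∈ (T : Subgroup H), f ∈ edges (cjk t k) := by
  by_contra hall
  push Not at hall
  haveI := h.blockSup_normal
  set Z := blockSup T k
  have hfC : Subgroup.zpowers f ≤ Subgroup.centralizer (Z : Set H) := by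
    rw [Subgroup.zpowers_le, Subgroup.mem_centralizer_iff]
    intro z hz
    have hle : Z ≤ Subgroup.centralizer ({f} : Set H) := iSup_le fun t => (Subgroup.closure_le _).2 fun _ ⟨i, e⟩ =>
      Subgroup.mem_centralizer_singleton_iff.2
        (e ▸ ((h.transport t.2).comm_of_notMem hf (hall t t.2) (mem_edges _ i)).symm)
    exact Subgroup.mem_centralizer_singleton_iff.1 (hle hz)
  have htop := normal_sup_eq_top h.trans.base hf.2 hfC
  have hd : ∃ i : Fin m, k i ≠ 1 := by
    rcases Nat.eq_zero_or_pos m with rfl | hm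
    · exact absurd (by simp) h.outside
    · exact ⟨⟨0, hm⟩, (h.star.tv _).1⟩
  obtain ⟨i, hi⟩ := hd
  have hUn : ((T : Subgroup H) ⊓ Z).Normal := by
    rw [← Subgroup.normalizer_eq_top_iff, eq_top_iff, ← htop]
    refine sup_le ((Subgroup.centralizer_le inf_le_right).trans (Subgroup.centralizer_le_normalizer _))
      (le_normalizer_of_map_conj fun t ht => ?_)
    refine Subgroup.eq_of_le_of_card_ge (le_inf (RankOneFF.cj_le inf_le_left ht) ?_) (card_cj t _).ge
    exact (Subgroup.map_mono inf_le_right).trans (cj_blockSup T k ht).le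
  have hbot := h.trans.base.core _ hUn (T.2.to_le inf_le_left)
  obtain ⟨P, hP⟩ := ((h.star.tv i).2.isPGroup h.trans.base.amb).exists_le_sylow
  obtain ⟨g, hg⟩ := MulAction.exists_smul_eq H P T
  have h1 : g * k i * g⁻¹ ∈ (T : Subgroup H) :=
    (hg ▸ Subgroup.map_mono hP : RankOneFF.cj g (Subgroup.zpowers (k i)) ≤ (T : Subgroup H))
      (conj_mem_cj g (Subgroup.mem_zpowers _))
  have h2 : k i ∈ Z := h.mem_blockSup (one_mem _) (by simpa [mem_edges_cjk] using mem_edges k i)
  have h3 : g * k i * g⁻¹ ∈ (T : Subgroup H) ⊓ Z := ⟨h1, ‹Z.Normal›.conj_mem _ h2 g⟩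
  rw [hbot] at h3
  exact hi (conj_eq_one_iff.1 ((Subgroup.mem_bot).1 h3))

theorem comm_inT {d e : H} (hd : Tv ρ d) (he : Tv ρ e) (hdT : d ∈ (T : Subgroup H)) (heT : e ∈ (T : Subgroup H)) :
    d * e = e * d :=
  comm_of_pgroup h.trans.base T T.2 _ _ (Subgroup.zpowers_le.2 hdT) (Subgroup.zpowers_le.2 heT) hd.2 he.2
    d (Subgroup.mem_zpowers d) e (Subgroup.mem_zpowers e)

theorem mem_stabT {t w : H} (ht : t ∈ (T : Subgroup H)) (hw : w ∈ edges k) (htw : t * w * t⁻¹ ∈ edges k) :
    t ∈ stabT T k := by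
  refine Subgroup.mem_inf.2 ⟨ht, Subgroup.mem_normalizer_fintype fun e he => ?_⟩
  rw [← h.edges_eq (h.star.cjk h.trans t) htw (conj_mem_edges_cjk hw)]
  exact conj_mem_edges_cjk he

theorem inT_nonempty : ∃ e, e ∈ inT T k := by
  obtain ⟨d, hd⟩ : ∃ d, Tv ρ d := by
    rcases Nat.eq_zero_or_pos m with rfl | hm
    · exact absurd (by simp) h.outside
    · exact ⟨_, h.star.tv ⟨0, hm⟩⟩
  obtain ⟨P, hP⟩ := (hd.2.isPGroup h.trans.base.amb).exists_le_sylow
  obtain ⟨g, hg⟩ := MulAction.exists_smul_eq H P T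
  have h1 : g * d * g⁻¹ ∈ (T : Subgroup H) :=
    (hg ▸ Subgroup.map_mono hP : RankOneFF.cj g (Subgroup.zpowers d) ≤ (T : Subgroup H))
      (conj_mem_cj g (Subgroup.mem_zpowers _))
  obtain ⟨t, ht, hf⟩ := h.cover (h.trans.conj g hd)
  exact ⟨_, mem_edges_cjk.1 hf, mul_mem (mul_mem (inv_mem ht) h1) ht⟩

theorem stabT_inT {t e : H} (ht : t ∈ stabT T k) (he : e ∈ inT T k) : t * e * t⁻¹ ∈ inT T k :=
  ⟨(Subgroup.mem_set_normalizer_iff.1 ht.2 e).1 he.1, mul_mem (mul_mem ht.1 he.2) (inv_mem ht.1)⟩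

theorem mate_spec {x y : Option (Fin m)} (hxy : x ≠ y) (he : edge k x y ∈ (T : Subgroup H)) : mate T k x = y := by
  have hex : ∃ y, x ≠ y ∧ edge k x y ∈ (T : Subgroup H) := ⟨y, hxy, he⟩
  unfold mate
  rw [dif_pos hex]
  obtain ⟨hne, hmem⟩ := hex.choose_spec
  by_contra hne'
  have hs := h.star.toStar
  have h1 := (h.trans.comm_iff (hs.tv_edge h.trans _ _ hne) (hs.tv_edge h.trans x y hxy)).1
    (h.comm_inT (hs.tv_edge h.trans _ _ hne) (hs.tv_edge h.trans x y hxy) hmem he)
  rw [hs.lam_edge_cen h.trans hxy hne, ind_self, ind_ne hne, ind_ne hxy.symm, ind_ne (Ne.symm hne')] at h1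
  exact absurd h1 (by decide)

theorem mate_mate (x : Option (Fin m)) : mate T k (mate T k x) = x := by
  by_cases hx : mate T k x = x
  · rw [hx, hx]
  · refine h.mate_spec hx ?_
    rw [h.star.edge_symm h.trans hx]
    exact mate_mem T k hx

theorem fixed_unique {x y : Option (Fin m)} (hx : mate T k x = x) (hy : mate T k y = y) : x = y := by
  classical
  by_contra hxy
  have hs := h.star.toStar
  set e₀ := edge k x y
  have he₀ : Tv ρ e₀ := hs.tv_edge h.trans x y hxy
  have he₀T : e₀ ∉ (T : Subgroup H) := fun hm => hxy (hx.symm.trans (h.mate_spec hxy hm))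
  set S : Set H := {f | Tv ρ f ∧ f ∈ (T : Subgroup H)}
  have hcom : ∀ f ∈ S, f * e₀ = e₀ * f := by
    intro f hf
    by_cases hfe : f ∈ edges k
    · obtain ⟨u, v, huv, rfl⟩ := hfe
      have hu := h.mate_spec huv hf.2
      have hv := h.mate_spec huv.symm ((hs.edge_symm h.trans huv.symm).symm ▸ hf.2)
      refine (h.trans.comm_iff hf.1 he₀).2 ?_
      rw [hs.lam_edge_cen h.trans hxy huv, ind_ne (fun e => huv (by rw [← e, ← hx, e, hu])),
        ind_ne (fun e => huv (by rw [← e, ← hx, e, hv])), ind_ne (fun e => huv (by rw [← e, ← hy, e, hu])),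
        ind_ne (fun e => huv (by rw [← e, ← hy, e, hv]))]
      decide
    · exact h.comm_of_notMem hf.1 hfe ⟨x, y, hxy, rfl⟩
  have hB : Subgroup.closure S ≤ (T : Subgroup H) := (Subgroup.closure_le _).2 fun f hf => hf.2
  have hP : IsPGroup p (Subgroup.closure S ⊔ Subgroup.zpowers e₀ : Subgroup H) := by
    refine (T.2.to_le hB).to_sup_of_normal_left' (he₀.2.isPGroup h.trans.base.amb) (Subgroup.zpowers_le.2 ?_)
    exact Subgroup.centralizer_le_normalizer _ (by
      rw [Subgroup.centralizer_closure, Subgroup.mem_centralizer_iff]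
      exact hcom)
  obtain ⟨P, hP'⟩ := hP.exists_le_sylow
  obtain ⟨g, hg⟩ := MulAction.exists_smul_eq H P T
  have hle : RankOneFF.cj g (Subgroup.closure S ⊔ Subgroup.zpowers e₀) ≤ (T : Subgroup H) :=
    hg ▸ Subgroup.map_mono hP'
  have hsub : (fun f => g * f * g⁻¹) '' insert e₀ S ⊆ S := by
    rintro _ ⟨f, hf, rfl⟩
    rcases hf with rfl | hf
    · exact ⟨h.trans.conj g he₀, hle (conj_mem_cj g (Subgroup.mem_sup_right (Subgroup.mem_zpowers _)))⟩
    · exact ⟨h.trans.conj g hf.1, hle (conj_mem_cj g (Subgroup.mem_sup_left (Subgroup.subset_closure hf)))⟩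
  have h1 := Set.ncard_le_ncard hsub (Set.toFinite _)
  rw [Set.ncard_image_of_injective _ fun a b e => mul_left_cancel (mul_right_cancel e),
    Set.ncard_insert_of_notMem (fun hm => he₀T hm.2) (Set.toFinite _)] at h1
  omega

end Sym

end CfsgLib.LocalEven.MovesFixed
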