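import Cfsg.Agent.Lib.LocalEven.MovesFixed.SymShape

/-!
The degree of a component of transvections is `2ⁿ + 1`.
-/

set_option autoImplicit false
set_option linter.unusedSectionVars false
set_option linter.style.haveILetI false

namespace CfsgLib.LocalEven.MovesFixed

open CfsgLib.LocalEven.RankOneFF CfsgLib.LocalEven.SylowIn

variable {H : Type*} [Group H] [Finite H] {W : Type*} [AddCommGroup W] [Finite W] {p : ℕ} [Fact p.Prime]
  {ρ : H →* AddMonoid.End W} {T : Sylow p H} {N : Subgroup H} {m : ℕ} {k : Fin m → H}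

set_option maxRecDepth 4000 in
set_option synthInstance.maxSize 2000 in
/-- Any two disjoint edges on four points form one of the three matchings. -/
theorem matching_three : ∀ x y u v : Option (Fin 3), x ≠ y → x ≠ u → x ≠ v → y ≠ u → y ≠ v → u ≠ v →
    ∃ i : Fin 3,
      ((x = none ∧ y = some i ∨ x = some i ∧ y = none) ∧
        (u = some (i + 1) ∧ v = some (i + 2) ∨ u = some (i + 2) ∧ v = some (i + 1))) ∨
      ((u = none ∧ v = some i ∨ u = some i ∧ v = none) ∧
        (x = some (i + 1) ∧ y = some (i + 2) ∨ x = some (i + 2) ∧ y = some (i + 1))) := by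
  decide

theorem other_three : ∀ i : Fin 3, i + 1 ≠ i + 2 ∧ i ≠ i + 1 ∧ i ≠ i + 2 := by decide

theorem double_swap_three : ∀ i l : Fin 3,
    let σ : Option (Fin 3) → Option (Fin 3) := fun x =>
      Equiv.swap none (some i) (Equiv.swap (some (i + 1)) (some (i + 2)) x)
    ((σ none = none ∧ σ (some l) = some l ∨ σ none = some l ∧ σ (some l) = none) ∧
        (σ (some (l + 1)) = some (l + 1) ∧ σ (some (l + 2)) = some (l + 2) ∨
          σ (some (l + 1)) = some (l + 2) ∧ σ (some (l + 2)) = some (l + 1))) ∨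
      ((σ none = some (l + 1) ∧ σ (some l) = some (l + 2) ∨ σ none = some (l + 2) ∧ σ (some l) = some (l + 1)) ∧
        (σ (some (l + 1)) = none ∧ σ (some (l + 2)) = some l ∨ σ (some (l + 1)) = some l ∧ σ (some (l + 2)) = none)) := by
  decide

/-- The product of the two edges of a matching on four points. -/
def quad (k : Fin 3 → H) (i : Fin 3) : H := k i * edge k (some (i + 1)) (some (i + 2))

/-- No component is a symmetric group of degree four. -/
theorem Sym.ne_three {k : Fin 3 → H} (h : Sym ρ T N k) : False := by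
  classical
  have hT := h.trans
  have hs := h.star.toStar
  set E := Subgroup.closure (Set.range k)
  have hcomm : ∀ {x y u v : Option (Fin 3)}, x ≠ y → x ≠ u → x ≠ v → y ≠ u → y ≠ v → u ≠ v →
      edge k x y * edge k u v = edge k u v * edge k x y := fun {x y u v} h1 h2 h3 h4 h5 h6 => by
    refine (hT.comm_iff (hs.tv_edge hT x y h1) (hs.tv_edge hT u v h6)).2 ?_
    rw [hs.lam_edge_cen hT h6 h1, ind_ne h2.symm, ind_ne h4.symm, ind_ne h3.symm, ind_ne h5.symm]
    decide
  have hq : ∀ i, quad k i = edge k none (some i) * edge k (some (i + 1)) (some (i + 2)) := fun i => rfl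
  have hsq : ∀ i, quad k i * quad k i = 1 := fun i => by
    obtain ⟨h12, h01, h02⟩ := other_three i
    have hc := hcomm (x := none) (y := some i) (u := some (i + 1)) (v := some (i + 2)) (by simp) (by simp) (by simp)
      (by simpa using h01) (by simpa using h02) (by simpa using h12)
    rw [hq, mul_assoc, ← mul_assoc (edge k (some (i + 1)) _), ← hc, mul_assoc, hT.mul_self (hs.tv_edge hT _ _
      (by simpa using h12)), mul_one, hT.mul_self (hs.tv_edge hT _ _ (by simp))]
  have hmove : ∀ i (j : Fin 3), ∃ l, k j * quad k i * (k j)⁻¹ = quad k l := fun i j => by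
    obtain ⟨h12, h01, h02⟩ := other_three i
    have hne1 : (none : Option (Fin 3)) ≠ some i := by simp
    have hne2 : (some (i + 1) : Option (Fin 3)) ≠ some (i + 2) := by simpa using h12
    have hnej : (none : Option (Fin 3)) ≠ some j := by simp
    rw [hq, show k j * (edge k none (some i) * edge k (some (i + 1)) (some (i + 2))) * (k j)⁻¹ =
      (edge k none (some j) * edge k none (some i) * (edge k none (some j))⁻¹) *
        (edge k none (some j) * edge k (some (i + 1)) (some (i + 2)) * (edge k none (some j))⁻¹) by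
      show _ = (k j * _ * (k j)⁻¹) * (k j * _ * (k j)⁻¹); group,
      hs.edge_conj hT hne1 hnej, hs.edge_conj hT hne2 hnej]
    set σ := Equiv.swap (none : Option (Fin 3)) (some j)
    obtain ⟨l, hl⟩ := matching_three (σ none) (σ (some i)) (σ (some (i + 1))) (σ (some (i + 2)))
      (σ.injective.ne hne1) (σ.injective.ne (by simp)) (σ.injective.ne (by simp))
      (σ.injective.ne (by simpa using h01)) (σ.injective.ne (by simpa using h02)) (σ.injective.ne hne2)
    obtain ⟨l12, l01, l02⟩ := other_three l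
    refine ⟨l, ?_⟩
    have e1 : (none : Option (Fin 3)) ≠ some l := by simp
    have e2 : (some (l + 1) : Option (Fin 3)) ≠ some (l + 2) := by simpa using l12
    rcases hl with ⟨ha, hb⟩ | ⟨ha, hb⟩
    · rw [(hs.edge_eq_iff hT (σ.injective.ne hne1) e1).2 ha, (hs.edge_eq_iff hT (σ.injective.ne hne2) e2).2 hb]
      rfl
    · rw [(hs.edge_eq_iff hT (σ.injective.ne hne2) e1).2 ha, (hs.edge_eq_iff hT (σ.injective.ne hne1) e2).2 hb,
        hcomm e2 (by simp) (by simpa using l01.symm) (by simp) (by simpa using l02.symm) e1]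
      rfl
  have hfix : ∀ i l, quad k i * quad k l = quad k l * quad k i := fun i l => by
    obtain ⟨h12, h01, h02⟩ := other_three i
    obtain ⟨l12, l01, l02⟩ := other_three l
    have hne1 : (none : Option (Fin 3)) ≠ some i := by simp
    have hne2 : (some (i + 1) : Option (Fin 3)) ≠ some (i + 2) := by simpa using h12
    have e1 : (none : Option (Fin 3)) ≠ some l := by simp
    have e2 : (some (l + 1) : Option (Fin 3)) ≠ some (l + 2) := by simpa using l12
    refine mul_inv_eq_iff_eq_mul.1 ?_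
    have hgrp : quad k i * quad k l * (quad k i)⁻¹ =
        (edge k none (some i) * (edge k (some (i + 1)) (some (i + 2)) * edge k none (some l) *
            (edge k (some (i + 1)) (some (i + 2)))⁻¹) * (edge k none (some i))⁻¹) *
        (edge k none (some i) * (edge k (some (i + 1)) (some (i + 2)) * edge k (some (l + 1)) (some (l + 2)) *
            (edge k (some (i + 1)) (some (i + 2)))⁻¹) * (edge k none (some i))⁻¹) := by
      rw [hq, hq]; group
    rw [hgrp, hs.edge_conj hT e1 hne2, hs.edge_conj hT ((Equiv.injective _).ne e1) hne1,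
      hs.edge_conj hT e2 hne2, hs.edge_conj hT ((Equiv.injective _).ne e2) hne1]
    rcases double_swap_three i l with ⟨ha, hb⟩ | ⟨ha, hb⟩
    · rw [(hs.edge_eq_iff hT ((Equiv.injective _).ne ((Equiv.injective _).ne e1)) e1).2 ha,
        (hs.edge_eq_iff hT ((Equiv.injective _).ne ((Equiv.injective _).ne e2)) e2).2 hb]
      rfl
    · rw [(hs.edge_eq_iff hT ((Equiv.injective _).ne ((Equiv.injective _).ne e1)) e2).2 ha,
        (hs.edge_eq_iff hT ((Equiv.injective _).ne ((Equiv.injective _).ne e2)) e1).2 hb,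
        hcomm e2 (by simp) (by simpa using l01.symm) (by simp) (by simpa using l02.symm) e1]
      rfl
  set K := Subgroup.zpowers (quad k 0) ⊔ Subgroup.zpowers (quad k 1) ⊔ Subgroup.zpowers (quad k 2) with hK
  have hKmem : ∀ i, quad k i ∈ K := by
    intro i
    fin_cases i
    · exact Subgroup.mem_sup_left (Subgroup.mem_sup_left (Subgroup.mem_zpowers _))
    · exact Subgroup.mem_sup_left (Subgroup.mem_sup_right (Subgroup.mem_zpowers _))
    · exact Subgroup.mem_sup_right (Subgroup.mem_zpowers _)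
  have hKle : ∀ {L : Subgroup H}, (∀ i, quad k i ∈ L) → K ≤ L := fun hL =>
    sup_le (sup_le (Subgroup.zpowers_le.2 (hL 0)) (Subgroup.zpowers_le.2 (hL 1))) (Subgroup.zpowers_le.2 (hL 2))
  have hKp : IsPGroup p K := by
    have hp := hT.two (hs.tv 0).2
    have hz : ∀ i, IsPGroup p (Subgroup.zpowers (quad k i)) := fun i g => ⟨1, Subtype.ext (by
      obtain ⟨n, hn⟩ := Subgroup.mem_zpowers_iff.1 g.2
      rw [hp, pow_one, Subgroup.coe_pow, ← hn, Subgroup.coe_one, ← zpow_natCast, ← zpow_mul, mul_comm, zpow_mul,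
        zpow_natCast, pow_two, hsq, one_zpow])⟩
    refine IsPGroup.to_sup_of_normal_left' (IsPGroup.to_sup_of_normal_left' (hz 0) (hz 1) ?_) (hz 2) ?_
    · refine le_trans ?_ (Subgroup.centralizer_le_normalizer _)
      rw [Subgroup.le_centralizer_iff, Subgroup.zpowers_le, Subgroup.mem_centralizer_iff]
      rintro x hx
      obtain ⟨n, rfl⟩ := Subgroup.mem_zpowers_iff.1 hx
      exact (Commute.zpow_left (hfix 1 0) n).eq
    · refine le_trans ?_ (Subgroup.centralizer_le_normalizer _)
      rw [Subgroup.le_centralizer_iff, sup_le_iff, Subgroup.zpowers_le, Subgroup.zpowers_le,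
        Subgroup.mem_centralizer_iff, Subgroup.mem_centralizer_iff]
      constructor <;>
      · rintro x hx
        obtain ⟨n, rfl⟩ := Subgroup.mem_zpowers_iff.1 hx
        exact (Commute.zpow_left (hfix 2 _) n).eq
  have hKE : K ≤ E := hKle fun i => mul_mem (Subgroup.subset_closure ⟨i, rfl⟩) (edge_mem_closure k _ _)
  have hEK : E ≤ Subgroup.normalizer (K : Set H) := (Subgroup.closure_le _).2 fun _ ⟨j, e⟩ => by
    subst e
    refine map_conj_eq_iff.1 (Subgroup.eq_of_le_of_card_ge ?_ (card_cj (k j) K).ge)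
    rw [Subgroup.map_le_iff_le_comap]
    refine hKle fun i => ?_
    obtain ⟨l, hl⟩ := hmove i j
    exact Subgroup.mem_comap.2 (hl ▸ hKmem l : k j * quad k i * (k j)⁻¹ ∈ K)
  have hKZ : K ≤ blockSup T k :=
    hKE.trans (le_iSup_of_le (1 : (T : Subgroup H)) (le_of_eq (by rw [closure_cjk, Subgroup.coe_one, cj_one])))
  have hbot := h.no_normal_p hKp hKZ (iSup_le fun t => ?_)
  · have h1 := hKmem 0
    rw [hbot, Subgroup.mem_bot, hq, mul_eq_one_iff_eq_inv, hT.inv_eq (hs.tv_edge hT _ _ (by simp)),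
      hs.edge_eq_iff hT (by simp) (by simp)] at h1
    exact absurd h1 (by simp)
  · by_cases he : edges (cjk (t : H) k) = edges k
    · rw [← closure_edges, he, closure_edges]
      exact hEK
    · refine (h.closure_le_centralizer t.2 he).trans ?_
      exact (Subgroup.centralizer_le hKE).trans (Subgroup.centralizer_le_normalizer _)

namespace Sym

variable (h : Sym ρ T N k)

include h

theorem card_points [Fintype {e // e ∈ inT T k}] :
    Fintype.card (Option (Fin m)) = 2 * Fintype.card {e // e ∈ inT T k} +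
      ((Finset.univ : Finset (Option (Fin m))).filter fun x => mate T k x = x).card := by
  classical
  rw [← Finset.card_univ,
    ← Finset.card_filter_add_card_filter_not (s := (Finset.univ : Finset (Option (Fin m))))
      (fun x => mate T k x = x), add_comm]
  congr 1
  rw [Finset.card_eq_sum_card_fiberwise (t := (inT T k).toFinset) (f := pairAt T k) (fun x hx =>
    by simpa using h.pairAt_mem (by simpa using hx)), Finset.sum_congr rfl (g := fun _ => 2) fun f hf => ?_,
    Finset.sum_const, smul_eq_mul, Set.toFinset_card, mul_comm]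
  obtain ⟨a, ha, rfl⟩ := h.exists_pairAt (by simpa using hf)
  rw [show (Finset.filter (fun x => pairAt T k x = pairAt T k a)
      (Finset.univ.filter fun x => ¬mate T k x = x)) = {a, mate T k a} from ?_, Finset.card_pair (Ne.symm ha)]
  ext x
  simp only [Finset.mem_filter, Finset.mem_univ, true_and, Finset.mem_insert, Finset.mem_singleton]
  constructor
  · rintro ⟨hx, he⟩
    exact (h.pairAt_eq_iff ha hx).1 he.symm
  · intro hx
    have hx' : mate T k x ≠ x := by
      rcases hx with rfl | rfl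
      exacts [ha, by rw [h.mate_mate]; exact Ne.symm ha]
    exact ⟨hx', ((h.pairAt_eq_iff ha hx').2 hx).symm⟩

/-- The degree. -/
theorem degree : ∃ n, 1 ≤ n ∧ m = 2 ^ n := by
  classical
  haveI := Fintype.ofFinite {e // e ∈ inT T k}
  have hcard := h.card_points
  rw [Fintype.card_option, Fintype.card_fin] at hcard
  letI : MulAction (stabT T k) {e // e ∈ inT T k} :=
    { smul := fun t e => ⟨(t : H) * e.1 * (t : H)⁻¹, h.stabT_inT t.2 e.2⟩
      one_smul := fun e => Subtype.ext (show (1 : H) * e.1 * (1 : H)⁻¹ = e.1 by group)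
      mul_smul := fun s t e => Subtype.ext
        (show (s : H) * t * e.1 * ((s : H) * t)⁻¹ = (s : H) * ((t : H) * e.1 * (t : H)⁻¹) * (s : H)⁻¹ by group) }
  have hGp : IsPGroup p (stabT T k) := T.2.to_le inf_le_left
  have hp : p = 2 := h.trans.two (h.star.tv ⟨0, by have := h.two_le; omega⟩).2
  obtain ⟨e₀, he₀⟩ := h.inT_nonempty
  let P : H → Prop := fun f => ∃ t ∈ stabT T k, t * e₀ * t⁻¹ = f
  have hP0 : P e₀ := ⟨1, one_mem _, by group⟩
  have hPinv : ∀ t ∈ stabT T k, ∀ f, P (t * f * t⁻¹) ↔ P f := fun t ht f => by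
    constructor
    · rintro ⟨s, hs, e⟩
      refine ⟨t⁻¹ * s, mul_mem (inv_mem ht) hs, ?_⟩
      rw [show t⁻¹ * s * e₀ * (t⁻¹ * s)⁻¹ = t⁻¹ * (s * e₀ * s⁻¹) * t by group, e]
      group
    · rintro ⟨s, hs, rfl⟩
      exact ⟨t * s, mul_mem ht hs, by group⟩
  have horbit : (∀ f ∈ inT T k, P f) → ∃ j, Fintype.card {e // e ∈ inT T k} = 2 ^ j := by
    intro hall
    obtain ⟨j, hj⟩ := hGp.card_orbit (⟨e₀, he₀⟩ : {e // e ∈ inT T k})
    refine ⟨j, ?_⟩
    rw [← Nat.card_eq_fintype_card, ← hj.trans (congrArg (· ^ j) hp)]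
    refine (Nat.card_eq_of_bijective (fun z => (z.1 : {e // e ∈ inT T k})) ⟨fun a b e => Subtype.ext e, fun e => ?_⟩).symm
    obtain ⟨t, ht, he⟩ := hall e.1 e.2
    exact ⟨⟨e, ⟨⟨t, ht⟩, Subtype.ext he⟩⟩, rfl⟩
  by_cases hex : ∃ z, mate T k z = z
  · obtain ⟨z₀, hz₀⟩ := hex
    have h1 : ((Finset.univ : Finset (Option (Fin m))).filter fun x => mate T k x = x).card = 1 :=
      Finset.card_eq_one.2 ⟨z₀, Finset.eq_singleton_iff_unique_mem.2
        ⟨by simpa using hz₀, fun x hx => h.fixed_unique (by simpa using hx) hz₀⟩⟩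
    by_cases hall : ∀ f ∈ inT T k, P f
    · obtain ⟨j, hj⟩ := horbit hall
      exact ⟨j + 1, by omega, by rw [pow_succ]; omega⟩
    exfalso
    push Not at hall
    obtain ⟨g₀, hg₀, hPg⟩ := hall
    obtain ⟨c, hc, hce⟩ := h.exists_pairAt he₀
    have hcz : c ≠ z₀ := fun e => hc (e ▸ hz₀)
    refine h.no_partition (fun f g => P f ∧ P g) (fun _ _ h => ⟨h.2, h.1⟩) (fun _ _ _ h h' => ⟨h.1, h'.2⟩)
      (fun t ht f g h => ⟨(hPinv t ht f).2 h.1, (hPinv t ht g).2 h.2⟩) (fun _ _ _ h h' => ⟨h.1, h'.2⟩)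
      ⟨e₀, he₀, g₀, hg₀, fun e => hPg (e ▸ hP0), fun h => hPg h.2⟩ hc hcz (by rwa [hz₀])
      ((h.mem_linked_iff hcz.symm).2 (Or.inr ?_)) fun z hz => h.fixed_unique hz hz₀
    intro u v hu hv hu' hv'
    obtain rfl : u = c := hu.resolve_left fun e => hu' (e ▸ hz₀)
    obtain rfl : v = u := hv.resolve_left fun e => hv' (e ▸ hz₀)
    rw [hce]
    exact ⟨hP0, hP0⟩
  exfalso
  have h0 : ((Finset.univ : Finset (Option (Fin m))).filter fun x => mate T k x = x).card = 0 :=
    Finset.card_eq_zero.2 (Finset.filter_eq_empty_iff.2 fun x _ hx => hex ⟨x, hx⟩)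
  have hm := h.two_le
  by_cases hl : Fintype.card {e // e ∈ inT T k} = 2
  · obtain rfl : m = 3 := by omega
    exact h.ne_three
  have hl3 : 3 ≤ Fintype.card {e // e ∈ inT T k} := by omega
  suffices hR : ∃ R : H → H → Prop, (∀ f g, R f g → R g f) ∧ (∀ f g l, R f g → R g l → R f l) ∧
      (∀ t ∈ stabT T k, ∀ f g, R f g → R (t * f * t⁻¹) (t * g * t⁻¹)) ∧
      (∃ f ∈ inT T k, ∃ g ∈ inT T k, f ≠ g ∧ ¬ R f g) ∧ ∃ f ∈ inT T k, ∃ g ∈ inT T k, f ≠ g ∧ R f g by
    obtain ⟨R, hsymm, htrans, hinv, hsplit, f, hf, g, hg, hfg, hR⟩ := hR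
    obtain ⟨a, ha, rfl⟩ := h.exists_pairAt hf
    obtain ⟨c, hc, rfl⟩ := h.exists_pairAt hg
    have hca : c ≠ a := fun e => hfg (by rw [e])
    refine h.no_partition R hsymm htrans hinv (fun h => absurd h hex) hsplit hc hca
      (fun e => hfg ((h.pairAt_eq_iff ha hc).2 (Or.inr e)))
      ((h.mem_linked_iff hca.symm).2 (Or.inr ?_)) fun z hz => absurd ⟨z, hz⟩ hex
    intro u v hu hv _ _
    have haa : R (pairAt T k a) (pairAt T k a) := htrans _ _ _ hR (hsymm _ _ hR)
    have hcc : R (pairAt T k c) (pairAt T k c) := htrans _ _ _ (hsymm _ _ hR) hR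
    rcases hu with rfl | rfl <;> rcases hv with rfl | rfl
    exacts [haa, hR, hsymm _ _ hR, hcc]
  by_cases hall : ∀ f ∈ inT T k, P f
  · -- an invariant partition into two halves
    obtain ⟨j, hj⟩ := horbit hall
    set x₀ : {e // e ∈ inT T k} := ⟨e₀, he₀⟩
    set S := MulAction.stabilizer (stabT T k) x₀
    have hidx : S.index = 2 ^ j := by
      rw [MulAction.index_stabilizer, ← hj, ← Nat.card_eq_fintype_card, ← Set.ncard_univ]
      congr 1
      refine Set.eq_univ_of_forall fun e => ?_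
      obtain ⟨t, ht, he⟩ := hall e.1 e.2
      exact ⟨⟨t, ht⟩, Subtype.ext he⟩
    obtain ⟨a, ha⟩ := IsPGroup.iff_card.1 (hGp.to_subgroup S)
    replace ha := ha.trans (congrArg (· ^ a) hp)
    have hG := Subgroup.card_mul_index S
    rw [ha, hidx, ← pow_add] at hG
    have hj2 : 2 ≤ j := by
      by_contra hj2
      interval_cases j <;> omega
    haveI : Fact (Nat.Prime 2) := ⟨Nat.prime_two⟩
    obtain ⟨M, hMc, hSM⟩ := Sylow.exists_subgroup_card_pow_prime_le 2
      (m := a + j - 1) (hG ▸ pow_dvd_pow 2 (by omega)) S ha (by omega)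
    have hMi : M.index = 2 := by
      have := Subgroup.card_mul_index M
      rw [hMc, ← hG] at this
      refine Nat.eq_of_mul_eq_mul_left (pow_pos two_pos (a + j - 1)) (this.trans ?_)
      rw [← pow_succ]
      congr 1
      omega
    haveI := Subgroup.normal_of_index_eq_two hMi
    obtain ⟨x, hxM, hxS⟩ := SetLike.exists_of_lt (lt_of_le_of_ne hSM fun e => by
      rw [← e, ha] at hMc
      have := Nat.pow_right_injective le_rfl hMc
      omega)
    refine ⟨fun f g => ∃ s : stabT T k, s ∈ M ∧ (s : H) * f * (s : H)⁻¹ = g, ?_, ?_, ?_, ?_, ?_⟩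
    · rintro f g ⟨s, hs, rfl⟩
      exact ⟨s⁻¹, inv_mem hs, by rw [Subgroup.coe_inv]; group⟩
    · rintro f g l ⟨s, hs, rfl⟩ ⟨t, ht, rfl⟩
      exact ⟨t * s, mul_mem ht hs, by rw [Subgroup.coe_mul]; group⟩
    · rintro t ht f g ⟨s, hs, rfl⟩
      refine ⟨⟨t, ht⟩ * s * ⟨t, ht⟩⁻¹, ‹M.Normal›.conj_mem s hs _, ?_⟩
      rw [Subgroup.coe_mul, Subgroup.coe_mul, Subgroup.coe_inv]
      group
    · by_contra hno
      push Not at hno
      have hMtop : M = ⊤ := eq_top_iff.2 fun y _ => by
        by_cases hy : y • x₀ = x₀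
        · exact hSM hy
        obtain ⟨s, hs, hse⟩ := hno e₀ he₀ _ (y • x₀).2 fun e => hy (Subtype.ext e.symm)
        have hmem : y⁻¹ * s ∈ S := by
          show (y⁻¹ * s) • x₀ = x₀
          rw [mul_smul, inv_smul_eq_iff]
          exact Subtype.ext hse
        have := mul_mem hs (inv_mem (hSM hmem))
        rwa [mul_inv_rev, inv_inv, mul_inv_cancel_left] at this
      rw [hMtop, Subgroup.index_top] at hMi
      omega
    · exact ⟨e₀, he₀, _, (x • x₀).2, fun e => hxS (Subtype.ext e.symm), x, hxM, rfl⟩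
  · push Not at hall
    obtain ⟨g₀, hg₀, hPg⟩ := hall
    refine ⟨fun f g => P f ↔ P g, fun _ _ h => h.symm, fun _ _ _ h h' => h.trans h',
      fun t ht f g h => (hPinv t ht f).trans (h.trans (hPinv t ht g).symm),
      ⟨e₀, he₀, g₀, hg₀, fun e => hPg (e ▸ hP0), fun h => hPg (h.1 hP0)⟩, ?_⟩
    by_contra hno
    push Not at hno
    obtain ⟨a, b, c, hab, hac, hbc⟩ := Fintype.two_lt_card_iff.1 (show 2 < Fintype.card {e // e ∈ inT T k} by omega)
    have h1 := hno a.1 a.2 b.1 b.2 fun e => hab (Subtype.ext e)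
    have h2 := hno a.1 a.2 c.1 c.2 fun e => hac (Subtype.ext e)
    have h3 := hno b.1 b.2 c.1 c.2 fun e => hbc (Subtype.ext e)
    rcases h1 with ⟨_, _⟩ | ⟨_, _⟩ <;> rcases h2 with ⟨_, _⟩ | ⟨_, _⟩ <;> rcases h3 with ⟨_, _⟩ | ⟨_, _⟩ <;>
      contradiction

end Sym

end CfsgLib.LocalEven.MovesFixed
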