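import Cfsg.Agent.Lib.LocalEven.MovesFixed.SymDegree
import Cfsg.Agent.Lib.LocalEven.MovesFixed.Offender

/-!
The family of blocks in the transvection case, and in general.
-/

set_option autoImplicit false
set_option linter.unusedSectionVars false
set_option linter.style.haveILetI false

namespace CfsgLib.LocalEven.MovesFixed

open CfsgLib.LocalEven.RankOneFF CfsgLib.LocalEven.SylowIn

variable {H : Type*} [Group H] [Finite H] {W : Type*} [AddCommGroup W] [Finite W] {p : ℕ} [Fact p.Prime]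
  {ρ : H →* AddMonoid.End W} {T : Sylow p H} {N : Subgroup H} {m : ℕ} {k : Fin m → H}

namespace Star

variable (hs : Star ρ k) (hT : Trans ρ T N) (heven : Even m) (h2 : 2 ≤ m)

include hs hT

theorem cenSpan_le_commSub : cenSpan ρ k ≤ commSub ρ (Subgroup.closure (Set.range k)) :=
  (AddSubgroup.closure_le _).2 fun _ ⟨i, e⟩ => e ▸ hs.cen_mem_commSub hT i

include heven

theorem card_split :
    Nat.card W = Nat.card (cenSpan ρ k) * Nat.card (fx ρ (Subgroup.closure (Set.range k))) := by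
  rw [← Nat.card_prod]
  refine (Nat.card_eq_of_bijective (fun z : cenSpan ρ k × fx ρ (Subgroup.closure (Set.range k)) =>
    (z.1 : W) + (z.2 : W)) ⟨fun z z' e => ?_, fun v => ?_⟩).symm
  · have he : (z.1 : W) + (z.2 : W) = z'.1 + z'.2 := e
    have h1 : (z.1 : W) = z'.1 := hs.cenSpan_ext hT heven z.1.2 z'.1.2 fun x => by
      have h := congrArg (fun v => coord ρ k v x) he
      simpa [hs.coord_add hT, (hs.coord_eq_zero_iff hT heven _).2 z.2.2, (hs.coord_eq_zero_iff hT heven _).2 z'.2.2]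
        using h
    refine Prod.ext (Subtype.ext h1) (Subtype.ext ?_)
    rw [h1] at he
    exact add_left_cancel he
  · obtain ⟨u, hu, hd⟩ := hs.exists_split hT heven v
    exact ⟨(⟨u, hu⟩, ⟨v - u, hd⟩), add_sub_cancel u v⟩

include h2

/-- An offender permuting the edges splits over the block. -/
theorem step {D : Subgroup H} (hcomm : ∀ a ∈ D, ∀ b ∈ D, a * b = b * a) (hpow : ∀ a ∈ D, a ^ p = 1)
    (hwt : Nat.card W ≤ Nat.card D * Nat.card (fx ρ D))
    (hnorm : ∀ d ∈ D, ∀ f ∈ edges k, d * f * d⁻¹ ∈ edges k)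
    {a : H} (haD : a ∈ D) (haE : a ∈ Subgroup.closure (Set.range k)) (ha : a ≠ 1) :
    ∃ D₁ : Subgroup H, (∀ x ∈ D₁, ∀ y ∈ D₁, x * y = y * x) ∧ (∀ x ∈ D₁, x ^ p = 1) ∧
      Nat.card D₁ < Nat.card D ∧ Nat.card W ≤ Nat.card D₁ * Nat.card (fx ρ D₁) ∧
      D ≤ Subgroup.closure (Set.range k) ⊔ D₁ := by
  classical
  set E := Subgroup.closure (Set.range k) with hE
  choose g hgE hgz using fun d : D => hs.exists_decomp hT heven h2 (hnorm d d.2)
  set z : D → H := fun d => (g d)⁻¹ * (d : H) with hz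
  have hprod : ∀ d : D, g d * z d = (d : H) := fun d => mul_inv_cancel_left _ _
  have huniq : ∀ {x y x' y' : H}, x ∈ E → x' ∈ E → y ∈ centFix ρ E → y' ∈ centFix ρ E → x * y = x' * y' →
      x = x' ∧ y = y' := by
    intro x y x' y' hx hx' hy hy' e
    have h1 : x'⁻¹ * x = y' * y⁻¹ := by
      rw [eq_mul_inv_iff_mul_eq, mul_assoc, e, inv_mul_cancel_left]
    have h3 : x'⁻¹ * x = 1 := hs.eq_one_of_fix hT heven h2 (mul_mem (inv_mem hx') hx)
      (h1 ▸ mul_mem hy' (inv_mem hy) : x'⁻¹ * x ∈ centFix ρ E).2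
    obtain rfl := inv_mul_eq_one.1 h3
    exact ⟨rfl, mul_left_cancel e⟩
  have hhom : ∀ d d' : D, g (d * d') = g d * g d' ∧ z (d * d') = z d * z d' := fun d d' =>
    huniq (hgE _) (mul_mem (hgE d) (hgE d')) (hgz _) (mul_mem (hgz d) (hgz d')) (by
      show g (d * d') * z (d * d') = _
      rw [hprod, Subgroup.coe_mul, ← hprod d, ← hprod d', mul_assoc, ← mul_assoc (z d), (hgz d).1 _ (hgE d'),
        mul_assoc, mul_assoc, mul_assoc])
  let G₁ : D →* H := MonoidHom.mk' g fun d d' => (hhom d d').1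
  let G₂ : D →* H := MonoidHom.mk' z fun d d' => (hhom d d').2
  have hab : ∀ (F : D →* H), (∀ x ∈ F.range, ∀ y ∈ F.range, x * y = y * x) ∧ ∀ x ∈ F.range, x ^ p = 1 := by
    intro F
    refine ⟨?_, ?_⟩
    · rintro _ ⟨d, rfl⟩ _ ⟨d', rfl⟩
      rw [← map_mul, ← map_mul, show d * d' = d' * d from Subtype.ext (hcomm d d.2 d' d'.2)]
    · rintro _ ⟨d, rfl⟩
      rw [← map_pow, show d ^ p = 1 from Subtype.ext (by simpa using hpow d d.2), map_one]
  refine ⟨G₂.range, (hab G₂).1, (hab G₂).2, ?_, ?_, fun d hd => ?_⟩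
  · refine lt_of_le_of_ne (Nat.card_le_card_of_surjective _ G₂.rangeRestrict_surjective) fun e => ha ?_
    have hinj := ((Nat.bijective_iff_surjective_and_card _).2 ⟨G₂.rangeRestrict_surjective, e.symm⟩).1
    have h1 : z ⟨a, haD⟩ = 1 := (huniq (hgE _) haE (hgz _) (one_mem _) (by
      show g ⟨a, haD⟩ * z ⟨a, haD⟩ = a * 1
      rw [hprod, mul_one])).2
    exact congrArg Subtype.val (hinj (Subtype.ext (h1.trans (map_one G₂).symm) :
      G₂.rangeRestrict ⟨a, haD⟩ = G₂.rangeRestrict 1))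
  · set X := cenSpan ρ k
    set C := fx ρ E
    have hzX : ∀ y ∈ centFix ρ E, ∀ u ∈ X, ρ y u = u := fun y hy u hu =>
      commSub_mem_fx (X := E) (Y := centFix ρ E) (fun x hx y hy w => by
        have h1 : ρ x (ρ y w - w) = ρ y w - w := hy.2 w x hx
        have h2 := act_comm_sub (ρ := ρ) (hy.1 x hx).symm w
        rw [h1, sub_self] at h2
        exact sub_eq_zero.1 h2) (hs.cenSpan_le_commSub hT hu) y hy
    have hzC : ∀ y ∈ centFix ρ E, ∀ c ∈ C, ρ y c ∈ C := fun y hy c hc x hx => by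
      rw [← act_mul, ← hy.1 x hx, act_mul, hc x hx]
    have hfix : ∀ v ∈ fx ρ D, ∃ u ∈ X ⊓ fx ρ G₁.range, ∃ c ∈ C ⊓ fx ρ G₂.range, v = u + c := by
      intro v hv
      obtain ⟨u, hu, hd⟩ := hs.exists_split hT heven v
      have hboth : ∀ d : D, ρ (g d) u = u ∧ ρ (z d) (v - u) = v - u := by
        intro d
        have h1 : ρ (g d) u + ρ (z d) (v - u) = u + (v - u) := by
          calc ρ (g d) u + ρ (z d) (v - u) = ρ (g d) (ρ (z d) u) + ρ (g d) (ρ (z d) (v - u)) := by
                rw [hzX _ (hgz d) u hu, hzC _ (hgz d) _ hd _ (hgE d)]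
            _ = ρ (d : H) v := by rw [← map_add, ← map_add, add_sub_cancel, ← act_mul, hprod]
            _ = _ := by rw [hv d d.2, add_sub_cancel]
        have h2 : ρ (g d) u = u := hs.cenSpan_ext hT heven (hs.act_cenSpan hT heven (hgE d) hu) hu fun x => by
          have h : coord ρ k (ρ (g d) u + ρ (z d) (v - u)) x = coord ρ k (u + (v - u)) x := by rw [h1]
          rwa [hs.coord_add hT, hs.coord_add hT, (hs.coord_eq_zero_iff hT heven _).2 (hzC _ (hgz d) _ hd),
            (hs.coord_eq_zero_iff hT heven _).2 hd, add_zero, add_zero] at h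
        exact ⟨h2, by rw [h2] at h1; exact add_left_cancel h1⟩
      exact ⟨u, ⟨hu, by rintro _ ⟨d, rfl⟩; exact (hboth d).1⟩, v - u,
        ⟨hd, by rintro _ ⟨d, rfl⟩; exact (hboth d).2⟩, (add_sub_cancel u v).symm⟩
    choose u hu c hc hv using hfix
    have hD : Nat.card (fx ρ D) ≤
        Nat.card (X ⊓ fx ρ G₁.range : AddSubgroup W) * Nat.card (C ⊓ fx ρ G₂.range : AddSubgroup W) := by
      rw [← Nat.card_prod]
      refine Nat.card_le_card_of_injective (fun v : fx ρ D => ((⟨_, hu v v.2⟩, ⟨_, hc v v.2⟩) :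
        (X ⊓ fx ρ G₁.range : AddSubgroup W) × (C ⊓ fx ρ G₂.range : AddSubgroup W))) fun v v' e => Subtype.ext ?_
      obtain ⟨e1, e2⟩ := Prod.ext_iff.1 e
      rw [hv v v.2, hv v' v'.2, show u v v.2 = u v' v'.2 from congrArg Subtype.val e1,
        show c v v.2 = c v' v'.2 from congrArg Subtype.val e2]
    have hsum : ∀ {P Q R : AddSubgroup W}, P ≤ X → Q ≤ C → P ≤ R → Q ≤ R →
        Nat.card P * Nat.card Q ≤ Nat.card R := by
      intro P Q R hP hQ hPR hQR
      rw [← Nat.card_prod]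
      refine Nat.card_le_card_of_injective
        (fun v : P × Q => (⟨(v.1 : W) + v.2, add_mem (hPR v.1.2) (hQR v.2.2)⟩ : R)) fun v v' e => ?_
      have e' : (v.1 : W) + v.2 = v'.1 + v'.2 := congrArg Subtype.val e
      have h1 : (v.1 : W) = v'.1 := hs.cenSpan_ext hT heven (hP v.1.2) (hP v'.1.2) fun x => by
        have h := congrArg (fun w => coord ρ k w x) e'
        simpa [hs.coord_add hT, (hs.coord_eq_zero_iff hT heven _).2 (hQ v.2.2),
          (hs.coord_eq_zero_iff hT heven _).2 (hQ v'.2.2)] using h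
      refine Prod.ext (Subtype.ext h1) (Subtype.ext ?_)
      rw [h1] at e'
      exact add_left_cancel e'
    have hG₁ : G₁.range ≤ E := by rintro _ ⟨d, rfl⟩; exact hgE d
    have hG₂ : G₂.range ≤ centFix ρ E := by rintro _ ⟨d, rfl⟩; exact hgz d
    have k1 : Nat.card (X ⊓ fx ρ G₁.range : AddSubgroup W) * Nat.card C ≤ Nat.card (fx ρ G₁.range) :=
      hsum inf_le_left le_rfl inf_le_right (fx_anti ρ hG₁)
    have k2 : Nat.card X * Nat.card (C ⊓ fx ρ G₂.range : AddSubgroup W) ≤ Nat.card (fx ρ G₂.range) :=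
      hsum le_rfl inf_le_left (fun u hu y hy => hzX y (hG₂ hy) u hu) inf_le_right
    have hno := no_over_abelian hT.base G₁.range (hab G₁).1 (hab G₁).2
    have hW := hs.card_split hT heven
    have k3 : Nat.card G₁.range * Nat.card (X ⊓ fx ρ G₁.range : AddSubgroup W) ≤ Nat.card X := by
      refine Nat.le_of_mul_le_mul_right ?_ (Nat.card_pos (α := C))
      rw [mul_assoc]
      exact ((Nat.mul_le_mul_left _ k1).trans hno).trans hW.le
    have k4 : Nat.card D ≤ Nat.card G₁.range * Nat.card G₂.range := by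
      rw [← Nat.card_prod]
      refine Nat.card_le_card_of_injective (fun d => (G₁.rangeRestrict d, G₂.rangeRestrict d)) fun d d' e => ?_
      obtain ⟨e1, e2⟩ := Prod.ext_iff.1 e
      refine Subtype.ext ?_
      rw [← hprod d, ← hprod d', show g d = g d' from congrArg Subtype.val e1,
        show z d = z d' from congrArg Subtype.val e2]
    calc Nat.card W ≤ Nat.card D * Nat.card (fx ρ D) := hwt
      _ ≤ Nat.card G₁.range * Nat.card G₂.range * (Nat.card (X ⊓ fx ρ G₁.range : AddSubgroup W) *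
            Nat.card (C ⊓ fx ρ G₂.range : AddSubgroup W)) := Nat.mul_le_mul k4 hD
      _ = Nat.card G₁.range * Nat.card (X ⊓ fx ρ G₁.range : AddSubgroup W) *
            (Nat.card G₂.range * Nat.card (C ⊓ fx ρ G₂.range : AddSubgroup W)) := by ring
      _ ≤ Nat.card X * (Nat.card G₂.range * Nat.card (C ⊓ fx ρ G₂.range : AddSubgroup W)) :=
            Nat.mul_le_mul_right _ k3
      _ = Nat.card G₂.range * (Nat.card X * Nat.card (C ⊓ fx ρ G₂.range : AddSubgroup W)) := by ring
      _ ≤ _ := Nat.mul_le_mul_left _ k2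
  · have := mul_mem (Subgroup.mem_sup_left (T := G₂.range) (hgE ⟨d, hd⟩))
      (Subgroup.mem_sup_right (⟨⟨d, hd⟩, rfl⟩ : z ⟨d, hd⟩ ∈ G₂.range))
    rwa [hprod] at this

end Star

namespace Sym

variable (h : Sym ρ T N k)

include h

/-- Another component centralises this one, with commutators fixed by it. -/
theorem pair {m' : ℕ} {k' : Fin m' → H} (h' : MaxStar ρ k') (hne : edges k' ≠ edges k) :
    Subgroup.closure (Set.range k') ≤ centFix ρ (Subgroup.closure (Set.range k)) := by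
  refine (Subgroup.closure_le _).2 ?_
  rintro _ ⟨i, rfl⟩
  have hni : k' i ∉ edges k := fun hm => hne (h.edges_eq h' hm (mem_edges k' i))
  have hzero : ∀ j, lam ρ (k j) (cen ρ (k' i)) = 0 := fun j =>
    (h.trans.lam_symm (h.star.tv j) (h'.tv i)).trans
      (((h.star.dichotomy h.trans (h'.tv i)).resolve_left hni) _ (mem_edges k j))
  refine mem_centFix.2 ⟨fun l hl => ?_, fun v => ?_⟩
  · have hle : Subgroup.closure (Set.range k) ≤ Subgroup.centralizer ({k' i} : Set H) :=
      (Subgroup.closure_le _).2 fun _ ⟨j, e⟩ => Subgroup.mem_centralizer_singleton_iff.2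
        (e ▸ ((h.trans.comm_iff (h.star.tv j) (h'.tv i)).2 (hzero j)))
    exact (Subgroup.mem_centralizer_singleton_iff.1 (hle hl)).symm
  · rw [h.trans.comm_cases (h'.tv i)]
    split_ifs
    · exact zero_mem _
    · exact (h.star.toStar.mem_fx_closure h.trans _).2 hzero

theorem edges_le_normal {J : Subgroup H} (hJ : J.Normal) {f : H} (hf : f ∈ edges k) (hfJ : f ∈ J) :
    ∀ e ∈ edges k, e ∈ J := by
  obtain ⟨a, b, hab, rfl⟩ := hf
  rintro _ ⟨x, y, hxy, rfl⟩
  refine h.star.toStar.spread h.trans (P := fun e => e ∈ J) hab hfJ (fun x y z hxy hxz hyz hP => ?_) x y hxy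
  have := hJ.conj_mem _ hP (edge k y z)
  rwa [h.star.toStar.edge_conj h.trans hxy hyz, Equiv.swap_apply_left,
    Equiv.swap_apply_of_ne_of_ne hxy hxz] at this

/-- The family of the components. -/
theorem exists_family : ∃ (r : ℕ) (E : Fin r → Subgroup H), Family ρ T E := by
  classical
  let ι := {S : Set H // ∃ t ∈ (T : Subgroup H), edges (cjk t k) = S}
  choose τ hτT hτ using fun X : ι => X.2
  let e : Fin (Nat.card ι) ≃ ι := (Finite.equivFin ι).symm
  let kk : ι → Fin m → H := fun X => cjk (τ X) k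
  let B : ι → Subgroup H := fun X => Subgroup.closure (Set.range (kk X))
  have hsym : ∀ X : ι, Sym ρ T N (kk X) := fun X => h.transport (hτT X)
  have hBe : ∀ (X : ι) (t : H), edges (cjk t k) = X.1 → Subgroup.closure (Set.range (cjk t k)) = B X :=
    fun X t he => by
      show _ = Subgroup.closure (Set.range (kk X))
      rw [← closure_edges (cjk t k), ← closure_edges (kk X), he, hτ X]
  obtain ⟨n, hn, hm⟩ := h.degree
  have heven : Even m := hm ▸ Nat.even_pow.2 ⟨even_two, by omega⟩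
  have hpair : ∀ X Y : ι, X ≠ Y → B Y ≤ centFix ρ (B X) := fun X Y hne =>
    (hsym X).pair (hsym Y).star fun e' => hne (Subtype.ext ((hτ X).symm.trans (e'.symm.trans (hτ Y))))
  have hcover : ∀ f, Tv ρ f → ∃ X : ι, f ∈ edges (kk X) := fun f hf => by
    obtain ⟨t, ht, hft⟩ := h.cover hf
    exact ⟨⟨_, t, ht, rfl⟩, (hτ ⟨_, t, ht, rfl⟩).symm ▸ hft⟩
  refine ⟨_, fun i => B (e i), ?_, ?_, ?_, ?_, ?_, ?_, ?_, ?_, ?_⟩
  · intro i j
    refine ⟨τ (e j) * (τ (e i))⁻¹, mul_mem (hτT _) (inv_mem (hτT _)), ?_⟩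
    show RankOneFF.cj _ (Subgroup.closure (Set.range (cjk (τ (e i)) k))) = Subgroup.closure (Set.range (cjk (τ (e j)) k))
    rw [closure_cjk, closure_cjk, cj_cj, inv_mul_cancel_right]
  · exact fun i j hij x hx y hy => (hpair (e j) (e i) (fun e' => hij (e.injective e').symm) hx).1 y hy
  · exact fun i j hij x hx y hy v => (hpair (e j) (e i) (fun e' => hij (e.injective e').symm) hx).2 v y hy
  · intro i
    rw [eq_bot_iff]
    intro x hx
    have hx' : x ∈ centFix ρ (B (e i)) :=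
      (iSup_le fun j => iSup_le fun hj => hpair (e i) (e j) fun e' => hj (e.injective e').symm :
        (⨆ j ∈ {j | j ≠ i}, B (e j)) ≤ centFix ρ (B (e i))) (Subgroup.mem_inf.1 hx).2
    exact (Subgroup.mem_bot).2 ((hsym (e i)).star.toStar.eq_one_of_fix h.trans heven h.two_le
      (Subgroup.mem_inf.1 hx).1 hx'.2)
  · refine eq_top_iff.2 (h.sup_T.ge.trans (sup_le_sup_right ?_ _))
    refine le_iSup_of_le (e.symm ⟨_, 1, one_mem _, rfl⟩) ?_
    rw [e.apply_symm_apply, ← hBe _ 1 rfl, closure_cjk, cj_one]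
  · intro J hJ Y hY hYJ i
    obtain ⟨f, hf, rfl⟩ := h.trans.exists_tv hY
    obtain ⟨X, hfX⟩ := hcover f hf
    have h1 := (hsym X).edges_le_normal hJ hfX (hYJ (Subgroup.mem_zpowers f))
    refine (Subgroup.closure_le _).2 ?_
    rintro _ ⟨j, rfl⟩
    have := hJ.conj_mem _ (h1 _ (mem_edges (kk X) j)) (τ (e i) * (τ X)⁻¹)
    rwa [show τ (e i) * (τ X)⁻¹ * kk X j * (τ (e i) * (τ X)⁻¹)⁻¹ = kk (e i) j by
      show _ * (τ X * k j * (τ X)⁻¹) * _ = τ (e i) * k j * (τ (e i))⁻¹
      group] at this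
  · refine offender_le h.trans.base fun D hcomm hpow hwt Y hYD hY => ?_
    obtain ⟨a, ha, rfl⟩ := h.trans.exists_tv hY
    obtain ⟨X, haX⟩ := hcover a ha
    have haD := hYD (Subgroup.mem_zpowers a)
    obtain ⟨D₁, h1, h2, h3, h4, h5⟩ := (hsym X).star.toStar.step h.trans heven h.two_le hcomm hpow hwt
      (fun d hd f hf => by
        have hfix : a ∈ edges (cjk d (kk X)) := by
          rw [mem_edges_cjk, mul_assoc, ← hcomm d hd a haD, inv_mul_cancel_left]
          exact haX
        exact (hsym X).edges_eq ((hsym X).star.cjk h.trans d) haX hfix ▸ conj_mem_edges_cjk hf)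
      haD (closure_edges (kk X) ▸ Subgroup.subset_closure haX) ha.1
    exact ⟨D₁, h1, h2, h3, h4, h5.trans (sup_le_sup_right (le_iSup_of_le (e.symm X) (by rw [e.apply_symm_apply])) _)⟩
  · intro i v
    obtain ⟨u, hu, hd⟩ := (hsym (e i)).star.toStar.exists_split h.trans heven v
    exact ⟨u, (hsym (e i)).star.toStar.cenSpan_le_commSub h.trans hu, hd⟩
  · exact fun i => ⟨n, hn, Or.inr ⟨h.trans.two (h.star.tv ⟨0, by have := h.two_le; omega⟩).2,
      (hsym (e i)).star.toStar.symModel h.trans hn hm⟩⟩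

end Sym

/-- Good offenders give a family of blocks. -/
theorem exists_family (hc : Base ρ T N) {A₀ : Subgroup H} (hA₀ : Good ρ A₀) :
    ∃ (r : ℕ) (E : Fin r → Subgroup H), Family ρ T E := by
  by_cases h3 : ∃ A, Good ρ A ∧ 3 ≤ Nat.card A
  · obtain ⟨A, hA, h3⟩ := h3
    exact exists_family_of_linear hc hA h3
  push Not at h3
  have hT : Trans ρ T N := ⟨hc, fun A hA => le_antisymm (Nat.le_of_lt_succ (h3 A hA))
    ((Subgroup.one_lt_card_iff_ne_bot _).2 hA.off.ne_bot)⟩
  obtain ⟨m, k, h⟩ := exists_sym hT hA₀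
  exact h.exists_family

end CfsgLib.LocalEven.MovesFixed
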