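import Cfsg.Agent.Lib.LocalEven.MovesFixed.SymBlock
import Mathlib.GroupTheory.GroupAction.Quotient

/-!
A component of transvections has degree `2ⁿ + 1`: its matching in `T` misses exactly one point and `T` permutes
the pairs transitively.
-/

set_option autoImplicit false
set_option linter.unusedSectionVars false
set_option linter.style.haveILetI false

namespace CfsgLib.LocalEven.MovesFixed

open CfsgLib.LocalEven.RankOneFF CfsgLib.LocalEven.SylowIn

variable {H : Type*} [Group H] [Finite H] {W : Type*} [AddCommGroup W] [Finite W] {p : ℕ} [Fact p.Prime]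
  {ρ : H →* AddMonoid.End W} {T : Sylow p H} {N : Subgroup H} {m : ℕ} {k : Fin m → H}

/-- The edge in `T` at a point. -/
noncomputable def pairAt (T : Sylow p H) (k : Fin m → H) (x : Option (Fin m)) : H := edge k x (mate T k x)

/-- The edges meeting only related pairs. -/
def linked (ρ : H →* AddMonoid.End W) (T : Sylow p H) (k : Fin m → H) (R : H → H → Prop) : Set H :=
  {e | e ∈ edges k ∧ ∀ f ∈ inT T k, ∀ g ∈ inT T k, lam ρ f (cen ρ e) = 1 → lam ρ g (cen ρ e) = 1 → R f g}

namespace Sym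

variable (h : Sym ρ T N k)

include h

theorem two_le : 2 ≤ m := by
  by_contra hm
  refine h.outside ((Subgroup.closure_le _).2 ?_)
  rintro _ ⟨i, rfl⟩
  obtain ⟨e, ⟨x, y, hxy, rfl⟩, heT⟩ := h.inT_nonempty
  have hall : ∀ z : Option (Fin m), z = none ∨ z = some i := by
    rintro (_ | j)
    · exact Or.inl rfl
    · exact Or.inr (congrArg some (Fin.ext (by omega)))
  rcases hall x with rfl | rfl <;> rcases hall y with rfl | rfl
  exacts [absurd rfl hxy, h.trans.base.le heT, h.trans.base.le heT, absurd rfl hxy]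

theorem mate_injective : Function.Injective (mate T k) := fun x y e => by
  rw [← h.mate_mate x, e, h.mate_mate]

theorem pairAt_mem {x : Option (Fin m)} (hx : mate T k x ≠ x) : pairAt T k x ∈ inT T k :=
  ⟨⟨x, _, hx.symm, rfl⟩, mate_mem T k hx⟩

theorem exists_pairAt {f : H} (hf : f ∈ inT T k) : ∃ x, mate T k x ≠ x ∧ pairAt T k x = f := by
  obtain ⟨⟨x, y, hxy, rfl⟩, hT⟩ := hf
  have := h.mate_spec hxy hT
  exact ⟨x, by rw [this]; exact hxy.symm, by rw [pairAt, this]⟩

theorem pairAt_eq_iff {x y : Option (Fin m)} (hx : mate T k x ≠ x) (hy : mate T k y ≠ y) :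
    pairAt T k x = pairAt T k y ↔ y = x ∨ y = mate T k x := by
  rw [pairAt, pairAt, h.star.edge_eq_iff h.trans hx.symm hy.symm]
  constructor
  · rintro (⟨e, -⟩ | ⟨-, e⟩)
    exacts [Or.inl e.symm, Or.inr e.symm]
  · rintro (rfl | rfl)
    exacts [Or.inl ⟨rfl, rfl⟩, Or.inr ⟨(h.mate_mate _).symm, rfl⟩]

theorem mem_N_inT {f : H} (hf : f ∈ inT T k) : f ∈ N := h.trans.base.le hf.2

theorem closure_le_centralizer {t : H} (ht : t ∈ (T : Subgroup H)) (hne : edges (cjk t k) ≠ edges k) :
    Subgroup.closure (Set.range (cjk t k)) ≤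
      Subgroup.centralizer (Subgroup.closure (Set.range k) : Set H) := by
  refine (Subgroup.closure_le _).2 ?_
  rintro _ ⟨i, rfl⟩
  have hi := mem_edges (cjk t k) i
  rw [SetLike.mem_coe, Subgroup.centralizer_closure, Subgroup.mem_centralizer_iff]
  rintro _ ⟨j, rfl⟩
  exact (h.comm_of_notMem ((h.star.cjk h.trans t).tv_of_mem h.trans hi)
    (fun hm => hne (h.edges_eq (h.star.cjk h.trans t) hm hi)) (mem_edges k j)).symm

/-- A set of edges closed under its own conjugation and not under all lies in `N`, and so does its normalizer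
in the component. -/
theorem le_N_of_closed {S₀ : Set H} (hS : S₀ ⊆ edges k)
    (hinv : ∀ t ∈ stabT T k, ∀ w ∈ S₀, t * w * t⁻¹ ∈ S₀) (hclosed : ∀ e ∈ S₀, ∀ f ∈ S₀, e * f * e⁻¹ ∈ S₀)
    (hbad : ∃ e ∈ edges k, ∃ w ∈ S₀, e * w * e⁻¹ ∉ S₀) :
    S₀ ⊆ N ∧ ∀ g ∈ Subgroup.closure (Set.range k), (∀ w ∈ S₀, g * w * g⁻¹ ∈ S₀) → g ∈ N := by
  set S : Set H := {x | ∃ t ∈ (T : Subgroup H), ∃ w ∈ S₀, x = t * w * t⁻¹}
  have hSk : ∀ x ∈ S, x ∈ edges k → x ∈ S₀ := by
    rintro _ ⟨t, ht, w, hw, rfl⟩ hx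
    exact hinv t (h.mem_stabT ht (hS hw) hx) w hw
  have hsub : ∀ w ∈ S₀, w ∈ S := fun w hw => ⟨1, one_mem _, w, hw, by group⟩
  have hmove : ∀ g ∈ Subgroup.closure (Set.range k), (∀ w ∈ S₀, g * w * g⁻¹ ∈ S₀) →
      g ∈ Subgroup.normalizer S := by
    intro g hg hgS
    refine Subgroup.mem_normalizer_fintype fun x hx => ?_
    by_cases hxk : x ∈ edges k
    · exact hsub _ (hgS x (hSk x hx hxk))
    obtain ⟨t, ht, w, hw, rfl⟩ := hx
    have hne : edges (cjk t k) ≠ edges k := fun e => hxk (e ▸ conj_mem_edges_cjk (hS hw))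
    have hc := Subgroup.mem_centralizer_iff.1 (h.closure_le_centralizer ht hne
      (closure_edges (cjk t k) ▸ Subgroup.subset_closure (conj_mem_edges_cjk (hS hw)))) g hg
    exact ⟨t, ht, w, hw, by rw [hc, mul_inv_cancel_right]⟩
  have hle : (T : Subgroup H) ≤ Subgroup.normalizer S := by
    intro s hs
    refine Subgroup.mem_normalizer_fintype ?_
    rintro _ ⟨t, ht, w, hw, rfl⟩
    exact ⟨s * t, mul_mem hs ht, w, hw, by group⟩
  obtain ⟨e, he, w, hw, hbad⟩ := hbad
  have hN : Subgroup.normalizer S ≤ N := h.trans.base.overgroup _ hle fun htop => hbad (hSk _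
    ((Subgroup.mem_set_normalizer_iff.1 (htop ▸ Subgroup.mem_top e : e ∈ Subgroup.normalizer S) w).1 (hsub w hw))
    (h.star.edges_conj h.trans he (hS hw)))
  refine ⟨fun f hf => hN (hmove f ?_ (hclosed f hf)), fun g hg hgS => hN (hmove g hg hgS)⟩
  exact closure_edges k ▸ Subgroup.subset_closure (hS hf)

/-- A double swap of two pairs lies in `N`. -/
theorem swap_mem_N {a c : Option (Fin m)} (ha : mate T k a ≠ a) (hc : mate T k c ≠ c) (hca : c ≠ a)
    (hca' : c ≠ mate T k a) :
    ∃ g ∈ N, ∀ x y, x ≠ y → g * edge k x y * g⁻¹ =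
      edge k (Equiv.swap a c (Equiv.swap (mate T k a) (mate T k c) x))
        (Equiv.swap a c (Equiv.swap (mate T k a) (mate T k c) y)) := by
  classical
  have hs := h.star.toStar
  set a' := mate T k a with ha'
  set c' := mate T k c with hc'
  have haa : mate T k a' = a := h.mate_mate a
  have hcc : mate T k c' = c := h.mate_mate c
  have hac' : a ≠ c' := fun e => hca' (by rw [ha', e, hcc])
  have ha'c' : a' ≠ c' := fun e => hca (h.mate_injective e).symm
  set σ : Equiv.Perm (Option (Fin m)) := Equiv.swap a c * Equiv.swap a' c' with hσ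
  set g := edge k a c * edge k a' c' with hg
  have hconj : ∀ x y, x ≠ y → g * edge k x y * g⁻¹ = edge k (σ x) (σ y) := by
    intro x y hxy
    rw [hg, show edge k a c * edge k a' c' * edge k x y * (edge k a c * edge k a' c')⁻¹ =
        edge k a c * (edge k a' c' * edge k x y * (edge k a' c')⁻¹) * (edge k a c)⁻¹ by group,
      hs.edge_conj h.trans hxy ha'c', hs.edge_conj h.trans (fun e => hxy ((Equiv.swap a' c').injective e)) hca.symm]
    rfl
  have hσm : ∀ x, mate T k (σ x) = σ (mate T k x) := by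
    have e1 : σ a = c := by
      rw [hσ, Equiv.Perm.mul_apply, Equiv.swap_apply_of_ne_of_ne ha.symm hac', Equiv.swap_apply_left]
    have e2 : σ c = a := by
      rw [hσ, Equiv.Perm.mul_apply, Equiv.swap_apply_of_ne_of_ne hca' hc.symm, Equiv.swap_apply_right]
    have e3 : σ a' = c' := by
      rw [hσ, Equiv.Perm.mul_apply, Equiv.swap_apply_left, Equiv.swap_apply_of_ne_of_ne hac'.symm hc]
    have e4 : σ c' = a' := by
      rw [hσ, Equiv.Perm.mul_apply, Equiv.swap_apply_right, Equiv.swap_apply_of_ne_of_ne ha hca'.symm]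
    intro x
    by_cases x1 : x = a
    · rw [x1, e1, ← hc', ← ha', e3]
    by_cases x2 : x = c
    · rw [x2, e2, ← ha', ← hc', e4]
    by_cases x3 : x = a'
    · rw [x3, e3, hcc, haa, e1]
    by_cases x4 : x = c'
    · rw [x4, e4, haa, hcc, e2]
    have y1 : mate T k x ≠ a := fun e => x3 (by rw [← h.mate_mate x, e])
    have y2 : mate T k x ≠ c := fun e => x4 (by rw [← h.mate_mate x, e])
    have y3 : mate T k x ≠ a' := fun e => x1 (h.mate_injective e)
    have y4 : mate T k x ≠ c' := fun e => x2 (h.mate_injective e)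
    rw [hσ, Equiv.Perm.mul_apply, Equiv.Perm.mul_apply, Equiv.swap_apply_of_ne_of_ne x3 x4,
      Equiv.swap_apply_of_ne_of_ne x1 x2, Equiv.swap_apply_of_ne_of_ne y3 y4, Equiv.swap_apply_of_ne_of_ne y1 y2]
  refine ⟨g, (h.le_N_of_closed (S₀ := inT T k) (fun _ hf => hf.1) (fun t ht w hw => h.stabT_inT ht hw)
    (fun e he f hf => ⟨hs.edges_conj h.trans he.1 hf.1, mul_mem (mul_mem he.2 hf.2) (inv_mem he.2)⟩) ?_).2 g
      (mul_mem (edge_mem_closure k _ _) (edge_mem_closure k _ _)) ?_, hconj⟩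
  · refine ⟨edge k a c, ⟨a, c, hca.symm, rfl⟩, _, h.pairAt_mem ha, fun hm => ?_⟩
    rw [pairAt, ← ha', hs.edge_conj h.trans ha.symm hca.symm, Equiv.swap_apply_left,
      Equiv.swap_apply_of_ne_of_ne ha hca'.symm] at hm
    have e := h.mate_spec hca' hm.2
    exact ha'c' e.symm
  · intro w hw
    obtain ⟨x, hx, rfl⟩ := h.exists_pairAt hw
    rw [pairAt, hconj _ _ hx.symm, ← hσm]
    exact h.pairAt_mem fun e => hx (σ.injective ((hσm x).symm.trans e))

/-- One more edge in `N` is too much. -/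
theorem no_link {a c : Option (Fin m)} (hc : mate T k c ≠ c) (hca : c ≠ a) (hca' : c ≠ mate T k a)
    (hN : edge k a c ∈ N) (hfix : ∀ z, mate T k z = z → z = a) : False := by
  classical
  have hs := h.star.toStar
  let rel : Option (Fin m) → Prop := fun z => z = a ∨ edge k a z ∈ N
  have htr : ∀ z w, z ≠ w → rel z → edge k z w ∈ N → rel w := by
    intro z w hzw hz hm
    by_cases hwa : w = a
    · exact Or.inl hwa
    refine Or.inr ?_
    rcases hz with rfl | hz
    · exact hm
    by_cases hza : z = a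
    · exact hza ▸ hm
    have := mul_mem (mul_mem hm hz) (inv_mem hm)
    rwa [hs.edge_conj h.trans (Ne.symm hza) hzw, Equiv.swap_apply_left,
      Equiv.swap_apply_of_ne_of_ne (Ne.symm hza) (Ne.symm hwa)] at this
  have hall : ∀ z, rel z := by
    intro z
    by_cases hza : z = a
    · exact Or.inl hza
    by_cases hzm : z = mate T k a
    · exact Or.inr (hzm ▸ h.trans.base.le (mate_mem T k fun e => hza (hzm.trans e)))
    by_cases hz : mate T k z = z
    · exact Or.inl (hfix z hz)
    by_cases hzc : z = c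
    · exact Or.inr (hzc ▸ hN)
    by_cases hzc' : z = mate T k c
    · exact htr c z (Ne.symm hzc) (Or.inr hN) (hzc' ▸ h.trans.base.le (mate_mem T k hc))
    obtain ⟨g, hg, hconj⟩ := h.swap_mem_N hc hz hzc hzc'
    refine Or.inr ?_
    have := mul_mem (mul_mem hg hN) (inv_mem hg)
    rwa [hconj a c hca.symm, Equiv.swap_apply_of_ne_of_ne
        (show a ≠ mate T k c from fun e => hca' (by rw [e, h.mate_mate]))
        (show a ≠ mate T k z from fun e => hzm (by rw [e, h.mate_mate])),
      Equiv.swap_apply_of_ne_of_ne hca.symm (Ne.symm hza),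
      Equiv.swap_apply_of_ne_of_ne hc.symm (show c ≠ mate T k z from fun e => hzc' (by rw [e, h.mate_mate])),
      Equiv.swap_apply_left] at this
  refine h.outside ((Subgroup.closure_le _).2 ?_)
  rintro _ ⟨i, rfl⟩
  show edge k none (some i) ∈ N
  rcases hall none with h0 | h0 <;> rcases hall (some i) with h1 | h1
  · exact absurd (h0.trans h1.symm) (by simp)
  · exact h0 ▸ h1
  · rw [hs.edge_symm h.trans (by simp), h1]
    exact h0
  · by_cases e0 : (none : Option (Fin m)) = a
    · exact e0 ▸ h1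
    by_cases e1 : some i = a
    · rw [hs.edge_symm h.trans (by simp), e1]; exact h0
    have := mul_mem (mul_mem h0 h1) (inv_mem h0)
    rwa [hs.edge_conj h.trans (Ne.symm e1) (Ne.symm e0), Equiv.swap_apply_left,
      Equiv.swap_apply_of_ne_of_ne e1 (by simp)] at this

theorem pairAt_hit {f : H} (hf : f ∈ inT T k) {x y : Option (Fin m)} (hxy : x ≠ y)
    (h1 : lam ρ f (cen ρ (edge k x y)) = 1) :
    ∃ u, (u = x ∨ u = y) ∧ mate T k u ≠ u ∧ pairAt T k u = f := by
  obtain ⟨z, hz, rfl⟩ := h.exists_pairAt hf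
  rw [pairAt, h.star.lam_edge_cen h.trans hxy hz.symm] at h1
  by_contra hno
  push Not at hno
  have aux : ∀ u, (u = x ∨ u = y) → ind u z = 0 ∧ ind u (mate T k z) = 0 := fun u hu =>
    ⟨ind_ne fun e => hno u hu (e ▸ hz) (by rw [e]), ind_ne fun e => by
      have hu' : mate T k u ≠ u := by rw [e, h.mate_mate]; exact hz.symm
      exact hno u hu hu' ((h.pairAt_eq_iff hz hu').2 (Or.inr e)).symm⟩
  rw [(aux x (Or.inl rfl)).1, (aux x (Or.inl rfl)).2, (aux y (Or.inr rfl)).1, (aux y (Or.inr rfl)).2] at h1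
  exact absurd h1 (by decide)

theorem mem_linked_iff {R : H → H → Prop} {x y : Option (Fin m)} (hxy : x ≠ y) :
    edge k x y ∈ linked ρ T k R ↔ y = mate T k x ∨
      ∀ u v, (u = x ∨ u = y) → (v = x ∨ v = y) → mate T k u ≠ u → mate T k v ≠ v →
        R (pairAt T k u) (pairAt T k v) := by
  constructor
  · intro hm
    refine or_iff_not_imp_left.2 fun hne u v hu hv hu' hv' => ?_
    have key : ∀ u, (u = x ∨ u = y) → mate T k u ≠ u → lam ρ (pairAt T k u) (cen ρ (edge k x y)) = 1 := by
      rintro u (rfl | rfl) hu'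
      · rw [pairAt, h.star.lam_edge_cen h.trans hxy hu'.symm, ind_self, ind_ne hu'.symm, ind_ne hxy.symm,
          ind_ne hne]
        decide
      · rw [pairAt, h.star.lam_edge_cen h.trans hxy hu'.symm, ind_ne hxy, ind_self,
          ind_ne fun e => hne (by rw [e, h.mate_mate]), ind_ne hu'.symm]
        decide
    exact hm.2 _ (h.pairAt_mem hu') _ (h.pairAt_mem hv') (key u hu hu') (key v hv hv')
  · intro hcase
    refine ⟨⟨x, y, hxy, rfl⟩, fun f hf g hg hf1 hg1 => ?_⟩
    rcases hcase with e | hR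
    · exfalso
      subst e
      have hx : mate T k x ≠ x := hxy.symm
      have he := h.pairAt_mem hx
      have := (h.trans.comm_iff (h.star.tv_of_mem h.trans hf.1) (h.star.tv_of_mem h.trans he.1)).1
        (h.comm_inT (h.star.tv_of_mem h.trans hf.1) (h.star.tv_of_mem h.trans he.1) hf.2 he.2)
      rw [pairAt] at this
      rw [hf1] at this
      exact one_ne_zero this
    · obtain ⟨u, hu, hu', rfl⟩ := h.pairAt_hit hf hxy hf1
      obtain ⟨v, hv, hv', rfl⟩ := h.pairAt_hit hg hxy hg1
      exact hR u v hu hv hu' hv'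

/-- No invariant partition of the pairs. -/
theorem no_partition (R : H → H → Prop) (hsymm : ∀ f g, R f g → R g f)
    (htrans : ∀ f g l, R f g → R g l → R f l)
    (hinv : ∀ t ∈ stabT T k, ∀ f g, R f g → R (t * f * t⁻¹) (t * g * t⁻¹))
    (hsquare : (∃ z, mate T k z = z) → ∀ f g, R f f → R g g → R f g)
    (hsplit : ∃ f ∈ inT T k, ∃ g ∈ inT T k, f ≠ g ∧ ¬ R f g)
    {a c : Option (Fin m)} (hc : mate T k c ≠ c) (hca : c ≠ a) (hca' : c ≠ mate T k a)
    (hac : edge k a c ∈ linked ρ T k R) (hfix : ∀ z, mate T k z = z → z = a) : False := by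
  classical
  have hs := h.star.toStar
  refine h.no_link hc hca hca' ((h.le_N_of_closed (S₀ := linked ρ T k R) (fun _ he => he.1) ?_ ?_ ?_).1 hac) hfix
  · intro t ht e he
    refine ⟨(Subgroup.mem_set_normalizer_iff.1 ht.2 e).1 he.1, fun f hf g hg hf1 hg1 => ?_⟩
    have hback : ∀ f ∈ inT T k, lam ρ f (cen ρ (t * e * t⁻¹)) = 1 →
        t⁻¹ * f * t ∈ inT T k ∧ lam ρ (t⁻¹ * f * t) (cen ρ e) = 1 := fun f hf hf1 => by
      refine ⟨by simpa using h.stabT_inT (inv_mem ht) hf, ?_⟩
      rw [show t⁻¹ * f * t = t⁻¹ * f * t⁻¹⁻¹ by rw [inv_inv], Trans.lam_conj h.trans, inv_inv,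
        ← h.trans.cen_conj t (h.star.tv_of_mem h.trans he.1)]
      exact hf1
    obtain ⟨hf', hf1'⟩ := hback f hf hf1
    obtain ⟨hg', hg1'⟩ := hback g hg hg1
    have := hinv t ht _ _ (he.2 _ hf' _ hg' hf1' hg1')
    rwa [show t * (t⁻¹ * f * t) * t⁻¹ = f by group, show t * (t⁻¹ * g * t) * t⁻¹ = g by group] at this
  · intro e he f hf
    obtain ⟨u, v, huv, rfl⟩ := he.1
    obtain ⟨x, y, hxy, rfl⟩ := hf.1
    have main : ∀ z a b, z ≠ a → z ≠ b → a ≠ b → edge k z a ∈ linked ρ T k R → edge k z b ∈ linked ρ T k R →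
        edge k a b ∈ linked ρ T k R := by
      intro z a b hza hzb hab h1 h2
      refine (h.mem_linked_iff hab).2 ?_
      by_cases hb : b = mate T k a
      · exact Or.inl hb
      refine Or.inr ?_
      have c1 := (h.mem_linked_iff hza).1 h1
      have c2 := (h.mem_linked_iff hzb).1 h2
      rcases c1 with e1 | c1
      · -- the first edge is a pair
        have hz : mate T k z ≠ z := e1 ▸ hza.symm
        have ha : mate T k a ≠ a := by rw [e1, h.mate_mate]; exact hz.symm
        have hsame : pairAt T k a = pairAt T k z := ((h.pairAt_eq_iff hz ha).2 (Or.inr e1)).symm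
        have c2 := c2.resolve_left fun e2 => hab (e1.trans e2.symm)
        intro u v hu hv hu' hv'
        have conv : ∀ u, (u = a ∨ u = b) → mate T k u ≠ u →
            ∃ u', (u' = z ∨ u' = b) ∧ mate T k u' ≠ u' ∧ pairAt T k u = pairAt T k u' := fun u hu hu' => by
          rcases hu with rfl | rfl
          exacts [⟨z, Or.inl rfl, hz, hsame⟩, ⟨u, Or.inr rfl, hu', rfl⟩]
        obtain ⟨u₁, hu₁, hu₁', eu⟩ := conv u hu hu'
        obtain ⟨v₁, hv₁, hv₁', ev⟩ := conv v hv hv'
        rw [eu, ev]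
        exact c2 u₁ v₁ hu₁ hv₁ hu₁' hv₁'
      rcases c2 with e2 | c2
      · have hz : mate T k z ≠ z := e2 ▸ hzb.symm
        have hb' : mate T k b ≠ b := by rw [e2, h.mate_mate]; exact hz.symm
        have hsame : pairAt T k b = pairAt T k z := ((h.pairAt_eq_iff hz hb').2 (Or.inr e2)).symm
        intro u v hu hv hu' hv'
        have conv : ∀ u, (u = a ∨ u = b) → mate T k u ≠ u →
            ∃ u', (u' = z ∨ u' = a) ∧ mate T k u' ≠ u' ∧ pairAt T k u = pairAt T k u' := fun u hu hu' => by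
          rcases hu with rfl | rfl
          exacts [⟨u, Or.inr rfl, hu', rfl⟩, ⟨z, Or.inl rfl, hz, hsame⟩]
        obtain ⟨u₁, hu₁, hu₁', eu⟩ := conv u hu hu'
        obtain ⟨v₁, hv₁, hv₁', ev⟩ := conv v hv hv'
        rw [eu, ev]
        exact c1 u₁ v₁ hu₁ hv₁ hu₁' hv₁'
      intro u v hu hv hu' hv'
      have refl : ∀ u, (u = a ∨ u = b) → mate T k u ≠ u → R (pairAt T k u) (pairAt T k u) := fun u hu hu' =>
        hu.elim (fun e => c1 u u (Or.inr e) (Or.inr e) hu' hu') fun e => c2 u u (Or.inr e) (Or.inr e) hu' hu'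
      by_cases hz : mate T k z = z
      · exact hsquare ⟨z, hz⟩ _ _ (refl u hu hu') (refl v hv hv')
      · have toz : ∀ u, (u = a ∨ u = b) → mate T k u ≠ u → R (pairAt T k u) (pairAt T k z) := fun u hu hu' =>
          hu.elim (fun e => c1 u z (Or.inr e) (Or.inl rfl) hu' hz) fun e => c2 u z (Or.inr e) (Or.inl rfl) hu' hz
        exact htrans _ _ _ (toz u hu hu') (hsymm _ _ (toz v hv hv'))
    rw [hs.edge_conj h.trans hxy huv]
    by_cases hxu : x = u
    · subst hxu
      by_cases hyv : y = v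
      · subst hyv
        rw [Equiv.swap_apply_left, Equiv.swap_apply_right, hs.edge_symm h.trans hxy.symm]
        exact he
      · rw [Equiv.swap_apply_left, Equiv.swap_apply_of_ne_of_ne hxy.symm hyv]
        exact main x v y huv hxy (Ne.symm hyv) he hf
    by_cases hxv : x = v
    · subst hxv
      by_cases hyu : y = u
      · subst hyu
        rw [Equiv.swap_apply_left, Equiv.swap_apply_right]
        exact he
      · rw [Equiv.swap_apply_right, Equiv.swap_apply_of_ne_of_ne hyu hxy.symm]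
        exact main x u y huv.symm hxy (Ne.symm hyu) (hs.edge_symm h.trans huv ▸ he) hf
    rw [Equiv.swap_apply_of_ne_of_ne hxu hxv]
    by_cases hyu : y = u
    · subst hyu
      rw [Equiv.swap_apply_left]
      exact main y x v hxy.symm huv hxv (hs.edge_symm h.trans hxy ▸ hf) he
    by_cases hyv : y = v
    · subst hyv
      rw [Equiv.swap_apply_right]
      exact main y x u hxy.symm huv.symm hxu (hs.edge_symm h.trans hxy ▸ hf) (hs.edge_symm h.trans huv ▸ he)
    rw [Equiv.swap_apply_of_ne_of_ne hyu hyv]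
    exact hf
  · obtain ⟨f, hf, g, hg, hfg, hR⟩ := hsplit
    obtain ⟨a, ha, rfl⟩ := h.exists_pairAt hf
    obtain ⟨c, hc, rfl⟩ := h.exists_pairAt hg
    have hca : c ≠ a := fun e => hfg (by rw [e])
    have hca' : c ≠ mate T k a := fun e => hfg ((h.pairAt_eq_iff ha hc).2 (Or.inr e))
    refine ⟨edge k a c, ⟨a, c, hca.symm, rfl⟩, pairAt T k a,
      (h.mem_linked_iff ha.symm).2 (Or.inl rfl), fun hm => ?_⟩
    rw [pairAt, hs.edge_conj h.trans ha.symm hca.symm, Equiv.swap_apply_left,
      Equiv.swap_apply_of_ne_of_ne ha hca'.symm, h.mem_linked_iff hca', h.mate_injective.eq_iff] at hm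
    rcases hm with e | hm
    · exact hca e.symm
    · have ha' : mate T k (mate T k a) ≠ mate T k a := by rw [h.mate_mate]; exact ha.symm
      have hR' := hm _ c (Or.inr rfl) (Or.inl rfl) ha' hc
      rw [(h.pairAt_eq_iff ha' ha).2 (Or.inr (h.mate_mate a).symm)] at hR'
      exact hR hR'

end Sym

end CfsgLib.LocalEven.MovesFixed
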