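import Cfsg.Agent.Lib.LocalEven.MovesFixed.Independent
import Cfsg.Agent.Lib.LocalEven.MovesFixed.Section
import Mathlib.Data.ZMod.Basic

/-!
All good offenders of order two: transvections over `F₂`, their centres and functionals; there is no claw.
-/

set_option autoImplicit false
set_option linter.unusedSectionVars false
set_option linter.style.haveILetI false

namespace CfsgLib.LocalEven.MovesFixed

open CfsgLib.LocalEven.RankOneFF CfsgLib.LocalEven.SylowIn

variable {H : Type*} [Group H] [Finite H] {W : Type*} [AddCommGroup W] [Finite W] {p : ℕ} [Fact p.Prime]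
  {ρ : H →* AddMonoid.End W} {T : Sylow p H} {N : Subgroup H} {d e : H}

/-- Every good offender has order two. -/
structure Trans (ρ : H →* AddMonoid.End W) (T : Sylow p H) (N : Subgroup H) : Prop where
  base : Base ρ T N
  small : ∀ A : Subgroup H, Good ρ A → Nat.card A = 2

/-- An element generating a good offender. -/
def Tv (ρ : H →* AddMonoid.End W) (d : H) : Prop := d ≠ 1 ∧ Good ρ (Subgroup.zpowers d)

open Classical in
/-- The functional of a transvection. -/
noncomputable def lam (ρ : H →* AddMonoid.End W) (d : H) (v : W) : ZMod 2 := if ρ d v = v then 0 else 1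

open Classical in
/-- The centre of a transvection. -/
noncomputable def cen (ρ : H →* AddMonoid.End W) (d : H) : W :=
  if h : ∃ v, ρ d v ≠ v then ρ d h.choose - h.choose else 0

theorem lam_eq_zero_iff {v : W} : lam ρ d v = 0 ↔ ρ d v = v := by
  unfold lam
  split_ifs with h <;> simp [h]

theorem zmod2_cases (a : ZMod 2) : a = 0 ∨ a = 1 := by revert a; decide

theorem lam_eq_one_iff {v : W} : lam ρ d v = 1 ↔ ρ d v ≠ v := by
  unfold lam
  split_ifs with h <;> simp [h]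

namespace Trans

variable (hT : Trans ρ T N)

include hT

theorem two {A : Subgroup H} (hA : Good ρ A) : p = 2 := by
  obtain ⟨k, hk⟩ := IsPGroup.iff_card.1 (hA.isPGroup hT.base.amb)
  rw [hT.small A hA] at hk
  have hk0 : k ≠ 0 := by rintro rfl; simp at hk
  exact (Nat.prime_dvd_prime_iff_eq Fact.out Nat.prime_two).1 (hk ▸ dvd_pow_self p hk0)

theorem orderOf_eq (hd : Tv ρ d) : orderOf d = 2 := by rw [← Nat.card_zpowers]; exact hT.small _ hd.2

theorem mul_self (hd : Tv ρ d) : d * d = 1 := by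
  rw [← pow_two, ← hT.orderOf_eq hd]
  exact pow_orderOf_eq_one d

theorem inv_eq (hd : Tv ρ d) : d⁻¹ = d := inv_eq_of_mul_eq_one_right (hT.mul_self hd)

theorem zpowers_eq (hd : Tv ρ d) {x : H} (hx : x ∈ Subgroup.zpowers d) : x = 1 ∨ x = d := by
  by_contra h
  push Not at h
  have h2 := hT.small _ hd.2
  obtain ⟨y, -, hy⟩ := (Nat.card_eq_two_iff' (1 : Subgroup.zpowers d)).1 h2
  have h1 := hy ⟨x, hx⟩ fun e => h.1 (congrArg Subtype.val e)
  have h3 := hy ⟨d, Subgroup.mem_zpowers d⟩ fun e => hd.1 (congrArg Subtype.val e)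
  exact h.2 (congrArg Subtype.val (h1.trans h3.symm))

theorem exists_tv {A : Subgroup H} (hA : Good ρ A) : ∃ d, Tv ρ d ∧ A = Subgroup.zpowers d := by
  obtain ⟨d, hd, hd1⟩ := exists_ne_one hA.off.ne_bot
  have e : A = Subgroup.zpowers d := by
    refine (Subgroup.eq_of_le_of_card_ge (Subgroup.zpowers_le.2 hd) ?_).symm
    rw [hT.small A hA]
    exact (Subgroup.one_lt_card_iff_ne_bot _).2 fun h => hd1 (Subgroup.zpowers_eq_bot.1 h)
  exact ⟨d, ⟨hd1, e ▸ hA⟩, e⟩

theorem cen_ne (hd : Tv ρ d) : cen ρ d ≠ 0 := by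
  have h : ∃ v, ρ d v ≠ v := by
    by_contra hall
    push Not at hall
    exact hd.1 (hT.base.amb.faithful (AddMonoidHom.ext fun v => by
      show ρ d v = ρ 1 v; rw [RankOneFF.act_one, hall v]))
  rw [cen, dif_pos h, sub_ne_zero]
  exact h.choose_spec

theorem comm_cases (hd : Tv ρ d) (v : W) : ρ d v - v = if lam ρ d v = 0 then 0 else cen ρ d := by
  split_ifs with h
  · rw [lam_eq_zero_iff.1 h, sub_self]
  have hv : ρ d v ≠ v := fun e => h (lam_eq_zero_iff.2 e)
  have h' : ∃ v, ρ d v ≠ v := ⟨v, hv⟩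
  have hc := hT.cen_ne hd
  have hp := hT.two hd.2
  rw [cen, dif_pos h'] at hc ⊢
  obtain ⟨k, hk⟩ := AddSubgroup.mem_zmultiples_iff.1 (mem_zmultiples_comm hT.base hd.2
    ((hT.small _ hd.2).trans hp.symm) (Subgroup.mem_zpowers d) hc (Subgroup.mem_zpowers d) v)
  have h0 : (2 : ℤ) • (ρ d h'.choose - h'.choose) = 0 := by
    rw [show (2 : ℤ) = ((p : ℕ) : ℤ) by rw [hp]; rfl, natCast_zsmul, hT.base.amb.exponent]
  rw [← Int.emod_add_mul_ediv k 2, add_zsmul, mul_comm (2 : ℤ), ← smul_smul, h0, zsmul_zero, add_zero] at hk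
  rcases Int.emod_two_eq k with h2 | h2
  · exact absurd (hk.symm.trans (by rw [h2, zero_zsmul])) (sub_ne_zero.2 hv)
  · rw [← hk, h2, one_zsmul]

theorem act_of_zero {v : W} (h : lam ρ d v = 0) : ρ d v = v := lam_eq_zero_iff.1 h

theorem act_of_one (hd : Tv ρ d) {v : W} (h : lam ρ d v = 1) : ρ d v = v + cen ρ d := by
  have := hT.comm_cases hd v
  rw [if_neg (by rw [h]; decide)] at this
  rw [← this, add_sub_cancel]

theorem lam_cen_self (hd : Tv ρ d) : lam ρ d (cen ρ d) = 0 := by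
  refine lam_eq_zero_iff.2 ?_
  unfold cen
  split_ifs with h
  · exact hd.2.off.quad d (Subgroup.mem_zpowers d) d (Subgroup.mem_zpowers d) _
  · exact map_zero _

theorem cen_add (hd : Tv ρ d) : cen ρ d + cen ρ d = 0 := by
  rw [← two_nsmul, ← hT.two hd.2, hT.base.amb.exponent]

theorem lam_add (hd : Tv ρ d) (v w : W) : lam ρ d (v + w) = lam ρ d v + lam ρ d w := by
  rcases zmod2_cases (lam ρ d v) with hv | hv <;> rcases zmod2_cases (lam ρ d w) with hw | hw <;> rw [hv, hw]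
  · exact lam_eq_zero_iff.2 (by rw [map_add, act_of_zero hT hv, act_of_zero hT hw])
  · refine lam_eq_one_iff.2 fun e => lam_eq_one_iff.1 hw ?_
    rwa [map_add, act_of_zero hT hv, add_left_cancel_iff] at e
  · refine lam_eq_one_iff.2 fun e => lam_eq_one_iff.1 hv ?_
    rwa [map_add, act_of_zero hT hw, add_right_cancel_iff] at e
  · refine lam_eq_zero_iff.2 ?_
    rw [map_add, hT.act_of_one hd hv, hT.act_of_one hd hw, add_add_add_comm, hT.cen_add hd, add_zero]

/-- The functional as a homomorphism. -/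
theorem lam_hom (hd : Tv ρ d) : ∃ l : W →+ ZMod 2, ∀ v, l v = lam ρ d v :=
  ⟨AddMonoidHom.mk' (lam ρ d) (hT.lam_add hd), fun _ => rfl⟩

theorem lam_sub (hd : Tv ρ d) (v w : W) : lam ρ d (v - w) = lam ρ d v - lam ρ d w := by
  obtain ⟨l, hl⟩ := hT.lam_hom hd
  rw [← hl, map_sub, hl, hl]

theorem lam_sum (hd : Tv ρ d) {ι : Type*} (s : Finset ι) (u : ι → W) :
    lam ρ d (∑ i ∈ s, u i) = ∑ i ∈ s, lam ρ d (u i) := by
  obtain ⟨l, hl⟩ := hT.lam_hom hd
  rw [← hl, map_sum]
  exact Finset.sum_congr rfl fun i _ => hl _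

theorem conj (g : H) (hd : Tv ρ d) : Tv ρ (g * d * g⁻¹) :=
  ⟨fun e => hd.1 (conj_eq_one_iff.1 e), by
    have := hd.2.cj g
    rwa [RankOneFF.cj, MonoidHom.map_zpowers] at this⟩

theorem lam_conj (g : H) (v : W) : lam ρ (g * d * g⁻¹) v = lam ρ d (ρ g⁻¹ v) := by
  have hiff : ρ (g * d * g⁻¹) v = v ↔ ρ d (ρ g⁻¹ v) = ρ g⁻¹ v := by
    rw [act_mul, act_mul]
    exact ⟨fun h => by
      conv_rhs => rw [← h]
      rw [RankOneFF.act_inv], fun h => by rw [h, act_inv']⟩
  rcases zmod2_cases (lam ρ d (ρ g⁻¹ v)) with h | h <;> rw [h]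
  · exact lam_eq_zero_iff.2 (hiff.2 (lam_eq_zero_iff.1 h))
  · exact lam_eq_one_iff.2 fun e => lam_eq_one_iff.1 h (hiff.1 e)

theorem cen_conj (g : H) (hd : Tv ρ d) : cen ρ (g * d * g⁻¹) = ρ g (cen ρ d) := by
  obtain ⟨v, hv⟩ : ∃ v, lam ρ d v = 1 := by
    by_contra hall
    push Not at hall
    exact hd.1 (hT.base.amb.faithful (AddMonoidHom.ext fun v => by
      show ρ d v = ρ 1 v
      rw [RankOneFF.act_one]
      exact act_of_zero hT ((zmod2_cases _).resolve_right (hall v))))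
  have h1 := hT.act_of_one (hT.conj g hd) (v := ρ g v) (by rw [lam_conj hT, RankOneFF.act_inv]; exact hv)
  rw [act_mul, act_mul, RankOneFF.act_inv, hT.act_of_one hd hv, map_add] at h1
  exact (add_left_cancel h1).symm

theorem eq_of_data (hd : Tv ρ d) (he : Tv ρ e) (hc : cen ρ d = cen ρ e) (hl : ∀ v, lam ρ d v = lam ρ e v) :
    d = e := by
  refine hT.base.amb.faithful (AddMonoidHom.ext fun v => ?_)
  rcases zmod2_cases (lam ρ d v) with h | h
  · exact (act_of_zero hT h).trans (act_of_zero hT ((hl v).symm.trans h)).symm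
  · show ρ d v = ρ e v
    rw [hT.act_of_one hd h, hT.act_of_one he ((hl v).symm.trans h), hc]

theorem cen_mem (he : Tv ρ e) (hd : Tv ρ d) (h : lam ρ d (cen ρ e) = 0) :
    ∀ a ∈ Subgroup.zpowers e, ∀ v, ρ a v - v ∈ fx ρ (Subgroup.zpowers d) := by
  intro a ha v
  rcases hT.zpowers_eq he ha with rfl | rfl
  · rw [RankOneFF.act_one, sub_self]; exact zero_mem _
  · rw [hT.comm_cases he]
    split_ifs
    · exact zero_mem _
    · exact (mem_fx_zpowers ρ).2 (act_of_zero hT h)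

/-- Commuting is vanishing of the functional on the centre. -/
theorem comm_iff (hd : Tv ρ d) (he : Tv ρ e) : d * e = e * d ↔ lam ρ d (cen ρ e) = 0 := by
  constructor
  · intro h
    by_cases hde : d = e
    · exact hde ▸ hT.lam_cen_self hd
    have hne : Subgroup.zpowers e ≠ Subgroup.zpowers d := fun h' => hde (by
      rcases hT.zpowers_eq hd (h' ▸ Subgroup.mem_zpowers e) with h1 | h1
      · exact absurd h1 he.1
      · exact h1.symm)
    obtain ⟨v, hv⟩ : ∃ v, lam ρ e v ≠ 0 := by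
      by_contra hall
      push Not at hall
      exact he.1 (hT.base.amb.faithful (AddMonoidHom.ext fun v => by
        show ρ e v = ρ 1 v
        rw [RankOneFF.act_one]
        exact act_of_zero hT (hall v)))
    have h1 := (comm_pair hT.base he.2 hd.2 hne fun a ha b hb => by
      rcases hT.zpowers_eq he ha with rfl | rfl
      · rw [one_mul, mul_one]
      rcases hT.zpowers_eq hd hb with rfl | rfl
      · rw [one_mul, mul_one]
      exact h.symm).2 e (Subgroup.mem_zpowers e) v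
    rw [hT.comm_cases he, if_neg hv, mem_fx_zpowers] at h1
    exact lam_eq_zero_iff.2 h1
  · intro h
    exact (comm_of_comm_mem hT.base he.2 hd.2 (hT.cen_mem he hd h) e (Subgroup.mem_zpowers e) d
      (Subgroup.mem_zpowers d)).symm

theorem lam_symm (hd : Tv ρ d) (he : Tv ρ e) : lam ρ d (cen ρ e) = lam ρ e (cen ρ d) := by
  rcases zmod2_cases (lam ρ d (cen ρ e)) with h | h <;> rw [h]
  · exact ((hT.comm_iff he hd).1 ((hT.comm_iff hd he).2 h).symm).symm
  · refine ((zmod2_cases _).resolve_left fun h0 => ?_).symm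
    rw [(hT.comm_iff hd he).1 ((hT.comm_iff he hd).2 h0).symm] at h
    exact zero_ne_one h

/-- The centre of the conjugate. -/
theorem cen_conj_one (hd : Tv ρ d) (he : Tv ρ e) (h : lam ρ d (cen ρ e) = 1) :
    cen ρ (d * e * d) = cen ρ e + cen ρ d := by
  rw [show d * e * d = d * e * d⁻¹ by rw [hT.inv_eq hd], hT.cen_conj d he, hT.act_of_one hd h]

theorem braid (hd : Tv ρ d) (he : Tv ρ e) (h : lam ρ d (cen ρ e) = 1) : d * e * d = e * d * e := by
  have h' : lam ρ e (cen ρ d) = 1 := (hT.lam_symm he hd).trans h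
  have t1 : Tv ρ (d * e * d) := by simpa [hT.inv_eq hd] using hT.conj d he
  have t2 : Tv ρ (e * d * e) := by simpa [hT.inv_eq he] using hT.conj e hd
  refine hT.eq_of_data t1 t2 (by rw [hT.cen_conj_one hd he h, hT.cen_conj_one he hd h', add_comm]) fun v => ?_
  have e1 : d * e * d = d * e * d⁻¹ := by rw [hT.inv_eq hd]
  have e2 : e * d * e = e * d * e⁻¹ := by rw [hT.inv_eq he]
  rw [e1, e2, lam_conj hT, lam_conj hT, hT.inv_eq hd, hT.inv_eq he]
  rcases zmod2_cases (lam ρ d v) with h1 | h1 <;> rcases zmod2_cases (lam ρ e v) with h2 | h2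
  · rw [act_of_zero hT h1, act_of_zero hT h2, h1, h2]
  · rw [act_of_zero hT h1, hT.act_of_one he h2, hT.lam_add hd, h1, h2, h, zero_add]
  · rw [act_of_zero hT h2, hT.act_of_one hd h1, hT.lam_add he, h1, h2, h', zero_add]
  · rw [hT.act_of_one hd h1, hT.act_of_one he h2, hT.lam_add he, hT.lam_add hd, h1, h2, h, h']

theorem conj_of_one (hd : Tv ρ d) (he : Tv ρ e) (h : lam ρ d (cen ρ e) = 1) : ∃ g, e = g * d * g⁻¹ := by
  refine ⟨d * e, ?_⟩
  rw [mul_inv_rev, hT.inv_eq hd, hT.inv_eq he]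
  have hb := hT.braid hd he h
  calc e = d * (d * e * d) * d := by
        rw [← mul_assoc, ← mul_assoc, hT.mul_self hd, one_mul, mul_assoc, hT.mul_self hd, mul_one]
    _ = d * (e * d * e) * d := by rw [hb]
    _ = _ := by group

/-- Centres of pairwise commuting conjugates have nonzero sum. -/
theorem no_dependent (hd : Tv ρ d) (s : Finset H) (hne : s.Nonempty) (hconj : ∀ x ∈ s, ∃ g, x = g * d * g⁻¹)
    (hcom : ∀ x ∈ s, ∀ y ∈ s, x * y = y * x) (hsum : ∑ x ∈ s, cen ρ x = 0) : False := by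
  classical
  have hb := hT.base
  have hq : Ctx (quotAct p ρ) T N := ctx_quotAct hb.amb hb.le hb.ne_top hb.overgroup hb.core
  obtain ⟨A, hAle, hA, -⟩ := exists_good hq.base (off_quotAct hq hd.2.off).1
  have h2 : Nat.card (Subgroup.zpowers d) = 2 := hT.small _ hd.2
  have hAe : A = Subgroup.zpowers d := Subgroup.eq_of_le_of_card_ge hAle
    (h2.trans_le ((Subgroup.one_lt_card_iff_ne_bot _).2 hA.off.ne_bot))
  subst hAe
  set u : H → OpQuot p ρ := fun x =>
    if h : ∃ w, quotAct p ρ x w - w ≠ 0 then h.choose else 0 with hu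
  have hmem : ∀ x ∈ s, Member (Subgroup.zpowers d) x ∧ quotAct p ρ x (u x) - u x ≠ 0 := fun x hx => by
    obtain ⟨g, rfl⟩ := hconj x hx
    have hx1 : g * d * g⁻¹ ≠ 1 := (hT.conj g hd).1
    have h : ∃ w, quotAct p ρ (g * d * g⁻¹) w - w ≠ 0 := by
      by_contra hall
      push Not at hall
      exact hx1 (hq.amb.faithful (AddMonoidHom.ext fun w => by
        show quotAct p ρ _ w = quotAct p ρ 1 w
        rw [RankOneFF.act_one, sub_eq_zero.1 (hall w)]))
    refine ⟨⟨hx1, g, conj_mem_cj g (Subgroup.mem_zpowers d)⟩, ?_⟩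
    simp only [hu, dif_pos h]
    exact h.choose_spec
  refine sum_centres_ne_zero hq hA h2 u s hne hmem hcom ?_
  have key : ∀ x ∈ s, ∃ r : opComm p ρ,
      toQuot p ρ r = quotAct p ρ x (u x) - u x ∧ (r : W) = cen ρ x := fun x hx => by
    obtain ⟨g, rfl⟩ := hconj x hx
    obtain ⟨r, hr⟩ := toQuot_surjective (p := p) (ρ₀ := ρ) (u (g * d * g⁻¹))
    refine ⟨commAct p ρ (g * d * g⁻¹) r - r, by rw [map_sub, toQuot_equiv, hr], ?_⟩
    have hne0 := (hmem _ hx).2
    show ρ (g * d * g⁻¹) (r : W) - r = _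
    rw [hT.comm_cases (hT.conj g hd), if_neg fun h0 => hne0 ?_]
    rw [← hr, ← toQuot_equiv, ← map_sub, show commAct p ρ (g * d * g⁻¹) r - r = 0 from
      Subtype.ext (sub_eq_zero.2 (act_of_zero hT h0)), map_zero]
  choose! r hr hrc using key
  rw [← Finset.sum_congr rfl hr, ← map_sum, show ∑ x ∈ s, r x = 0 from Subtype.ext ?_, map_zero]
  rw [AddSubmonoidClass.coe_finsetSum, Finset.sum_congr rfl hrc, hsum]
  rfl

/-- A transvection moves at most one centre in each class of commuting ones. -/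
theorem eq_of_cen {e' : H} (hd : Tv ρ d) (he : Tv ρ e) (he' : Tv ρ e') (h : cen ρ e = cen ρ e')
    (h1 : lam ρ d (cen ρ e) = 1) : e = e' := by
  classical
  by_contra hne
  have hcom : e * e' = e' * e := (hT.comm_iff he he').2 (h ▸ hT.lam_cen_self he)
  refine hT.no_dependent hd {e, e'} (Finset.insert_nonempty _ _) ?_ ?_ ?_
  · simp only [Finset.mem_insert, Finset.mem_singleton]
    rintro x (rfl | rfl)
    exacts [hT.conj_of_one hd he h1, hT.conj_of_one hd he' (h ▸ h1)]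
  · simp only [Finset.mem_insert, Finset.mem_singleton]
    rintro x (rfl | rfl) y (rfl | rfl)
    exacts [rfl, hcom, hcom.symm, rfl]
  · rw [Finset.sum_pair hne, ← h, hT.cen_add he]

/-- No transvection fails to commute with three pairwise commuting ones. -/
theorem no_claw {e₁ e₂ e₃ : H} (hd : Tv ρ d) (h₁ : Tv ρ e₁) (h₂ : Tv ρ e₂) (h₃ : Tv ρ e₃)
    (n12 : e₁ ≠ e₂) (n13 : e₁ ≠ e₃) (n23 : e₂ ≠ e₃)
    (c12 : lam ρ e₁ (cen ρ e₂) = 0) (c13 : lam ρ e₁ (cen ρ e₃) = 0) (c23 : lam ρ e₂ (cen ρ e₃) = 0)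
    (d1 : lam ρ d (cen ρ e₁) = 1) (d2 : lam ρ d (cen ρ e₂) = 1) (d3 : lam ρ d (cen ρ e₃) = 1) : False := by
  classical
  have c21 := (hT.lam_symm h₂ h₁).trans c12
  have c31 := (hT.lam_symm h₃ h₁).trans c13
  have c32 := (hT.lam_symm h₃ h₂).trans c23
  have d1' := (hT.lam_symm h₁ hd).trans d1
  have d2' := (hT.lam_symm h₂ hd).trans d2
  have d3' := (hT.lam_symm h₃ hd).trans d3
  -- the conjugate by the three
  set x := e₃ * (e₂ * (e₁ * d * e₁⁻¹) * e₂⁻¹) * e₃⁻¹ with hxdef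
  have hy₁ := hT.conj e₁ hd
  have hy₂ := hT.conj e₂ hy₁
  have hx : Tv ρ x := hT.conj e₃ hy₂
  have hxc : cen ρ x = cen ρ d + cen ρ e₁ + cen ρ e₂ + cen ρ e₃ := by
    rw [hxdef, hT.cen_conj _ hy₂, hT.cen_conj _ hy₁, hT.cen_conj _ hd, hT.act_of_one h₁ d1',
      hT.act_of_one h₂ (by rw [hT.lam_add h₂, d2', c21, add_zero]),
      hT.act_of_one h₃ (by rw [hT.lam_add h₃, hT.lam_add h₃, d3', c31, c32, add_zero, add_zero])]
  have hdx : lam ρ d (cen ρ x) = 1 := by
    rw [hxc, hT.lam_add hd, hT.lam_add hd, hT.lam_add hd, hT.lam_cen_self hd, d1, d2, d3]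
    decide
  set f := x * d * x⁻¹ with hfdef
  have hf : Tv ρ f := hT.conj x hd
  have hfc : cen ρ f = cen ρ e₁ + cen ρ e₂ + cen ρ e₃ := by
    rw [hfdef, hT.cen_conj _ hd, hT.act_of_one hx ((hT.lam_symm hx hd).trans hdx), hxc]
    have := hT.cen_add hd
    rw [← sub_eq_zero]
    rw [← this]
    abel
  have hfi : ∀ e', Tv ρ e' → lam ρ e' (cen ρ e₁) = 0 → lam ρ e' (cen ρ e₂) = 0 → lam ρ e' (cen ρ e₃) = 0 →
      lam ρ e' (cen ρ f) = 0 := fun e' he' h1 h2 h3 => by
    rw [hfc, hT.lam_add he', hT.lam_add he', h1, h2, h3]; decide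
  have f1 := hfi e₁ h₁ (hT.lam_cen_self h₁) c12 c13
  have f2 := hfi e₂ h₂ c21 (hT.lam_cen_self h₂) c23
  have f3 := hfi e₃ h₃ c31 c32 (hT.lam_cen_self h₃)
  have fd : lam ρ d (cen ρ f) = 1 := by
    rw [hfc, hT.lam_add hd, hT.lam_add hd, d1, d2, d3]; decide
  have hsum23 : ∀ {a b c : W}, a + a = 0 → a = a + b + c → b + b = 0 → c = b := fun {a b c} ha hab hb => by
    rw [add_assoc, left_eq_add] at hab
    rw [eq_neg_of_add_eq_zero_right hab, neg_eq_of_add_eq_zero_left hb]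
  have n14 : f ≠ e₁ := fun e' => n23 (hT.eq_of_cen hd h₃ h₂
    (hsum23 (hT.cen_add h₁) (by rw [← hfc, e']) (hT.cen_add h₂)) d3).symm
  have n24 : f ≠ e₂ := fun e' => n13 (hT.eq_of_cen hd h₃ h₁
    (hsum23 (hT.cen_add h₂) (by rw [add_comm (cen ρ e₂), ← hfc, e']) (hT.cen_add h₁)) d3).symm
  have n34 : f ≠ e₃ := fun e' => n12 (hT.eq_of_cen hd h₂ h₁
    (hsum23 (hT.cen_add h₃) (by rw [add_assoc, add_comm, ← hfc, e']) (hT.cen_add h₁)) d2).symm
  refine hT.no_dependent hd {e₁, e₂, e₃, f} (Finset.insert_nonempty _ _) ?_ ?_ ?_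
  · simp only [Finset.mem_insert, Finset.mem_singleton]
    rintro y (rfl | rfl | rfl | rfl)
    exacts [hT.conj_of_one hd h₁ d1, hT.conj_of_one hd h₂ d2, hT.conj_of_one hd h₃ d3, ⟨x, rfl⟩]
  · have k12 := (hT.comm_iff h₁ h₂).2 c12
    have k13 := (hT.comm_iff h₁ h₃).2 c13
    have k23 := (hT.comm_iff h₂ h₃).2 c23
    have k14 := (hT.comm_iff h₁ hf).2 f1
    have k24 := (hT.comm_iff h₂ hf).2 f2
    have k34 := (hT.comm_iff h₃ hf).2 f3
    simp only [Finset.mem_insert, Finset.mem_singleton]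
    rintro y (rfl | rfl | rfl | rfl) z (rfl | rfl | rfl | rfl)
    exacts [rfl, k12, k13, k14, k12.symm, rfl, k23, k24, k13.symm, k23.symm, rfl, k34, k14.symm, k24.symm,
      k34.symm, rfl]
  · rw [Finset.sum_insert (by simp [n12, n13, n14.symm]), Finset.sum_insert (by simp [n23, n24.symm]),
      Finset.sum_pair n34.symm, hfc]
    rw [show cen ρ e₁ + (cen ρ e₂ + (cen ρ e₃ + (cen ρ e₁ + cen ρ e₂ + cen ρ e₃))) =
      (cen ρ e₁ + cen ρ e₁) + (cen ρ e₂ + cen ρ e₂) + (cen ρ e₃ + cen ρ e₃) by abel,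
      hT.cen_add h₁, hT.cen_add h₂, hT.cen_add h₃, add_zero, add_zero]

end Trans

end CfsgLib.LocalEven.MovesFixed
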