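import Cfsg.Agent.Lib.LocalEven.MovesFixed.Centres
import Cfsg.Agent.Lib.LocalEven.MovesFixed.Twin

/-!
Fixed points of a good offender lift through an extension by vectors fixed by the offenders and by the elements
of order prime to `p`.
-/

set_option autoImplicit false
set_option linter.unusedSectionVars false
set_option linter.style.haveILetI false

namespace CfsgLib.LocalEven.MovesFixed

open CfsgLib.LocalEven.RankOneFF CfsgLib.LocalEven.SylowIn

variable {H : Type*} [Group H] [Finite H] {W : Type*} [AddCommGroup W] [Finite W] {p : ℕ} [Fact p.Prime]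
  {R : Type*} [AddCommGroup R] [Finite R]
  {ρ : H →* AddMonoid.End W} {σ : H →* AddMonoid.End R} {π : R →+ W} {T : Sylow p H} {N : Subgroup H}
  {A : Subgroup H}

/-- An extension of the module with kernel fixed by `A` and by the elements of order prime to `p`. -/
structure Cover (p : ℕ) (ρ : H →* AddMonoid.End W) (σ : H →* AddMonoid.End R) (π : R →+ W) (A : Subgroup H) :
    Prop where
  surj : Function.Surjective π
  equiv : ∀ g r, π (σ g r) = ρ g (π r)
  ker_A : ∀ a ∈ A, ∀ r, π r = 0 → σ a r = r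
  ker_coprime : ∀ x : H, (orderOf x).Coprime p → ∀ r, π r = 0 → σ x r = r
  quad : ∀ a ∈ A, ∀ b ∈ A, ∀ r, σ a (σ b r - r) = σ b r - r

theorem Cover.comm_fixed (hK : Cover p ρ σ π A) {a : H} (ha : a ∈ A) (v : W) :
    ρ a v - v ∈ (fx σ A).map π := by
  obtain ⟨r, rfl⟩ := hK.surj v
  exact ⟨σ a r - r, fun b hb => hK.quad b hb a ha r, by rw [map_sub, hK.equiv]⟩

/-- The case of prime order. -/
theorem lift_prime (hc : Ctx ρ T N) (hA : Good ρ A) (hcard : Nat.card A = p) (hK : Cover p ρ σ π A) :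
    fx ρ A ≤ (fx σ A).map π := by
  classical
  set Z := (fx σ A).map π with hZ
  -- centres inside the fixed points
  have step1 : ∀ u ∈ centres ρ A, u ∈ fx ρ A → u ∈ Z := by
    rintro _ ⟨g, a', ha', v, rfl⟩ he
    set x := g * a' * g⁻¹ with hx
    set X := cj g A
    have hxX : x ∈ X := conj_mem_cj g ha'
    by_cases h0 : ρ x v - v = 0
    · rw [h0]; exact zero_mem _
    by_cases hXA : X = A
    · exact hK.comm_fixed (hXA ▸ hxX) v
    have hXcard : Nat.card X = p := (card_cj g A).trans hcard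
    have hcom := comm_of_comm_mem hc.base (hA.cj g) hA fun y hy w =>
      (AddSubgroup.zmultiples_le_of_mem he) (mem_zmultiples_comm hc.base (hA.cj g) hXcard hxX h0 hy w)
    obtain ⟨y, hyA, hyX⟩ : ∃ y ∈ fx ρ A, y ∉ fx ρ X := by
      by_contra hall
      push Not at hall
      exact hXA ((hA.cj g).eq_of_fx_eq hc.base hA (AddSubgroup.eq_of_le_of_card_ge hall
        (card_fx_cj ρ g A).le).symm)
    have hx1 : x ≠ 1 := fun e => h0 (by rw [e, RankOneFF.act_one, sub_self])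
    have hy0 : ρ x y - y ≠ 0 := fun e => hyX ((hA.cj g).fix x hxX hx1 y (sub_eq_zero.1 e))
    refine (AddSubgroup.zmultiples_le_of_mem (?_ : ρ x y - y ∈ Z))
      (mem_zmultiples_comm hc.base (hA.cj g) hXcard hxX hy0 hxX v)
    obtain ⟨r, rfl⟩ := hK.surj y
    refine ⟨σ x r - r, fun a ha => sub_eq_zero.1 ?_, by rw [map_sub, hK.equiv]⟩
    rw [act_comm_sub (hcom x hxX a ha), sub_eq_zero]
    have hker : π (σ a r - r) = 0 := by rw [map_sub, hK.equiv, hyA a ha, sub_self]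
    rw [hx, act_mul, act_mul, hK.ker_A a' ha' _ (by rw [hK.equiv, hker, map_zero]), act_inv']
  -- a centre outside
  obtain ⟨e₀, he₀, he₀A⟩ : ∃ u ∈ centres ρ A, u ∉ fx ρ A := by
    by_contra hall
    push Not at hall
    exact hA.fx_ne_top hc.amb (eq_top_iff.2 ((span_centres hc hA).ge.trans ((AddSubgroup.closure_le _).2 hall)))
  obtain ⟨a, ha, ha1⟩ := exists_ne_one hA.off.ne_bot
  have hquot : Nat.card (W ⧸ fx ρ A) = p := by
    have h := AddSubgroup.card_eq_card_quotient_mul_card_addSubgroup (fx ρ A)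
    rw [hA.exact, hcard] at h
    exact (Nat.eq_of_mul_eq_mul_right Nat.card_pos h).symm
  have hmod : ∀ e₁, e₁ ∉ fx ρ A → ∀ e : W, ∃ k : ℤ, e - k • e₁ ∈ fx ρ A := by
    intro e₁ he₁ e
    have h := zmultiples_eq_top_of_prime_card (G := W ⧸ fx ρ A) (g := (e₁ : W ⧸ fx ρ A)) hquot
      fun h0 => he₁ ((QuotientAddGroup.eq_zero_iff _).1 h0)
    obtain ⟨k, hk⟩ := AddSubgroup.mem_zmultiples_iff.1 (h ▸ AddSubgroup.mem_top (e : W ⧸ fx ρ A))
    refine ⟨k, (QuotientAddGroup.eq_zero_iff _).1 ?_⟩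
    rw [QuotientAddGroup.mk_sub, QuotientAddGroup.mk_zsmul, hk, sub_self]
  -- moving a centre into the fixed points
  have step3 : ∀ g₁ a₁ v₁, a₁ ∈ A → ρ (g₁ * a₁ * g₁⁻¹) v₁ - v₁ ∉ fx ρ A → ∀ e ∈ centres ρ A,
      ρ (g₁ * a₁ * g₁⁻¹) e ≠ e → e ∈ Z ⊔ AddSubgroup.zmultiples (ρ (g₁ * a₁ * g₁⁻¹) v₁ - v₁) := by
    intro g₁ a₁ v₁ ha₁ he₁ e he hne
    set x := g₁ * a₁ * g₁⁻¹
    set e₁ := ρ x v₁ - v₁
    have hxX : x ∈ cj g₁ A := conj_mem_cj g₁ ha₁
    have hXcard : Nat.card (cj g₁ A) = p := (card_cj g₁ A).trans hcard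
    set d := ρ x e - e with hd
    have hd0 : d ≠ 0 := sub_ne_zero.2 hne
    obtain ⟨k, hk⟩ := hmod e₁ he₁ e
    have hmem : -(k • e₁) ∈ AddSubgroup.zmultiples d :=
      neg_mem (zsmul_mem (mem_zmultiples_comm hc.base (hA.cj g₁) hXcard hxX hd0 hxX v₁) k)
    rw [← mem_multiples_iff_mem_zmultiples] at hmem
    obtain ⟨j, hj : j • d = -(k • e₁)⟩ := hmem
    have hpow : ρ (x ^ j) e = e - k • e₁ := by
      rw [act_pow_sub ((hA.cj g₁).off.comm_mem_fx ρ hxX e x hxX) j, ← hd, hj, sub_eq_add_neg]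
    have hz : e - k • e₁ ∈ Z := step1 _ (hpow ▸ act_centres _ he) hk
    rw [← sub_add_cancel e (k • e₁)]
    exact add_mem (AddSubgroup.mem_sup_left hz)
      (AddSubgroup.mem_sup_right (zsmul_mem (AddSubgroup.mem_zmultiples e₁) k))
  have hall : ∀ e ∈ centres ρ A, e ∈ Z ⊔ AddSubgroup.zmultiples e₀ := by
    intro e he
    by_cases heA : e ∈ fx ρ A
    · exact AddSubgroup.mem_sup_left (step1 e he heA)
    obtain ⟨g₀, a₀, ha₀, v₀, rfl⟩ := he₀
    set x₀ := g₀ * a₀ * g₀⁻¹ with hx₀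
    set e₀ := ρ x₀ v₀ - v₀ with he₀'
    by_cases hfix : ρ x₀ e = e
    · have hx₁ : a * g₀ * a₀ * (a * g₀)⁻¹ = a * x₀ * a⁻¹ := by rw [hx₀]; group
      have he₁ : ρ (a * g₀ * a₀ * (a * g₀)⁻¹) (ρ a v₀) - ρ a v₀ = ρ a e₀ := by
        rw [hx₁, he₀', map_sub, act_mul, act_mul, act_inv]
      have h := step3 (a * g₀) a₀ (ρ a v₀) ha₀ (fun hm => he₀A ?_) e he fun hcon => ?_
      · rw [he₁] at h
        have hdiff : ρ a e₀ - e₀ ∈ Z := hK.comm_fixed ha e₀
        refine (sup_le le_sup_left (AddSubgroup.zmultiples_le_of_mem ?_) :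
          Z ⊔ AddSubgroup.zmultiples (ρ a e₀) ≤ Z ⊔ AddSubgroup.zmultiples e₀) h
        rw [← sub_add_cancel (ρ a e₀) e₀]
        exact add_mem (AddSubgroup.mem_sup_left hdiff) (AddSubgroup.mem_sup_right (AddSubgroup.mem_zmultiples _))
      · rw [he₁] at hm
        have h' := hm a⁻¹ (inv_mem ha)
        rw [RankOneFF.act_inv] at h'
        rwa [h']
      · rw [hx₁, act_mul, act_mul] at hcon
        have hcon' : ρ x₀ (ρ a⁻¹ e) = ρ a⁻¹ e := act_inj ρ a (hcon.trans (act_inv' ρ a e).symm)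
        have hX := hA.cj g₀
        have hx₀1 : x₀ ≠ 1 := fun h1 => he₀A (by rw [he₀', h1, RankOneFF.act_one, sub_self]; exact zero_mem _)
        set c := ρ a⁻¹ e - e with hcdef
        have hc0 : c ≠ 0 := fun h0 => heA (hA.fix a⁻¹ (inv_mem ha) (inv_ne_one.2 ha1) e (sub_eq_zero.1 h0))
        have hcX : c ∈ fx ρ (cj g₀ A) :=
          hX.fix x₀ (conj_mem_cj g₀ ha₀) hx₀1 c (by rw [hcdef, map_sub, hcon', hfix])
        have hcom := comm_of_comm_mem hc.base hA hX fun b hb w =>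
          (AddSubgroup.zmultiples_le_of_mem hcX) (mem_zmultiples_comm hc.base hA hcard (inv_mem ha) hc0 hb w)
        by_cases hXA : cj g₀ A = A
        · exact he₀A (hXA ▸ hX.off.comm_mem_fx ρ (conj_mem_cj g₀ ha₀) v₀)
        · exact he₀A ((comm_pair hc.base hX hA hXA fun x hx b hb => (hcom b hb x hx).symm).2 x₀
            (conj_mem_cj g₀ ha₀) v₀)
    · exact step3 g₀ a₀ v₀ ha₀ he₀A e he hfix
  intro n hn
  obtain ⟨z, hz, w, hw, rfl⟩ := AddSubgroup.mem_sup.1
    (((span_centres hc hA).ge.trans ((AddSubgroup.closure_le _).2 hall)) (AddSubgroup.mem_top n))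
  obtain ⟨k, rfl⟩ := AddSubgroup.mem_zmultiples_iff.1 hw
  refine add_mem hz ?_
  have hzA : z ∈ fx ρ A := by
    obtain ⟨r, hr, rfl⟩ := hz
    intro b hb
    rw [← hK.equiv, hr b hb]
  have hke : k • e₀ ∈ fx ρ A := by simpa using sub_mem hn hzA
  by_cases hk : (p : ℤ) ∣ k
  · obtain ⟨m, rfl⟩ := hk
    rw [mul_comm, ← smul_smul, natCast_zsmul, hc.amb.exponent, zsmul_zero]
    exact zero_mem _
  · exfalso
    obtain ⟨s, t, hst⟩ := ((Nat.prime_iff_prime_int.1 (Fact.out : p.Prime)).coprime_iff_not_dvd.2 hk)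
    refine he₀A ?_
    have h1 : (s * (p : ℤ) + t * k) • e₀ = e₀ := by rw [hst, one_zsmul]
    rw [add_zsmul, ← smul_smul, natCast_zsmul, hc.amb.exponent, zsmul_zero, zero_add,
      ← smul_smul] at h1
    rw [← h1]
    exact zsmul_mem hke t

/-- The case of at least four elements. -/
theorem lift_torus (hc : Ctx ρ T N) (hA : Good ρ A) {F : Type} [Field F] [Fintype F] (S : Frame ρ A F)
    (h4 : 4 ≤ Nat.card A) (hK : Cover p ρ σ π A) : fx ρ A ≤ (fx σ A).map π := by
  classical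
  obtain ⟨μ, hμ⟩ : ∃ μ : Fˣ, (μ : F) * μ ≠ 1 := by
    by_contra hall
    push Not at hall
    have hsub : (Finset.univ : Finset F) ⊆ {0, 1, -1} := fun x _ => by
      by_cases hx : x = 0
      · simp [hx]
      · rcases mul_self_eq_one_iff.1 (hall (Units.mk0 x hx)) with h | h <;> simp_all
    have h := (Finset.card_le_card hsub).trans Finset.card_le_three
    rw [Finset.card_univ, S.card_F] at h
    omega
  have hμ1 : (μ : F) ≠ 1 := fun e => hμ (by rw [e, one_mul])
  set Z := (fx σ A).map π with hZ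
  intro n hn
  obtain ⟨t, c, hcC, rfl⟩ := (S.mem_fx_iff n).1 hn
  refine add_mem ?_ ?_
  · set r := t / ((μ : F) - 1) with hr
    have h1 : ∀ s r, ρ (S.a s) (S.f r) - S.f r ∈ Z := fun s r => hK.comm_fixed (S.a_mem s) _
    have h2 := sub_mem (h1 ((μ : F) * μ * 1) (((μ⁻¹ : Fˣ) : F) * r)) (h1 1 r)
    rwa [S.act_eq, S.act_eq, S.nu_torus, Units.mul_inv_cancel_left, add_sub_add_right_eq_sub, ← map_sub,
      show (μ : F) * μ * 1 * (((μ⁻¹ : Fˣ) : F) * r) = (μ : F) * r by
        rw [mul_one, mul_assoc, Units.mul_inv_cancel_left],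
      show (μ : F) * r - 1 * r = t by rw [← sub_mul, hr, mul_div_cancel₀ _ (sub_ne_zero.2 hμ1)]] at h2
  obtain ⟨r, rfl⟩ := hK.surj c
  refine ⟨r, fun a ha => ?_, rfl⟩
  obtain ⟨s, rfl⟩ := S.a_surj a ha
  let χ : F → R := fun s => σ (S.a s) r - r
  have hχadd : ∀ s u, χ (s + u) = χ s + χ u := fun s u => by
    have h := hK.quad _ (S.a_mem s) _ (S.a_mem u) r
    show σ (S.a (s + u)) r - r = (σ (S.a s) r - r) + (σ (S.a u) r - r)
    rw [map_sub] at h
    rw [S.a_add, act_mul, eq_add_of_sub_eq h]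
    abel
  have hord : (orderOf (S.h μ)).Coprime p := by
    obtain ⟨k, hk⟩ := IsPGroup.iff_card.1 (hA.isPGroup hc.amb)
    have hk0 : k ≠ 0 := by rintro rfl; rw [hk, pow_zero] at h4; omega
    refine Nat.Coprime.coprime_dvd_left ((orderOf_map_dvd S.h μ).trans (orderOf_dvd_card)) ?_
    rw [Fintype.card_units, S.card_F, hk]
    refine Nat.Coprime.coprime_dvd_right (dvd_pow_self p hk0) ?_
    exact (Nat.coprime_self_sub_left (Nat.one_le_pow _ _ (Fact.out : p.Prime).pos)).2 (Nat.coprime_one_left _)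
  have hker : ∀ u, π (χ u) = 0 := fun u => by
    show π (σ (S.a u) r - r) = 0
    rw [map_sub, hK.equiv, S.C0_le hcC _ (S.a_mem u), sub_self]
  have hχμ : ∀ u, χ ((μ : F) * μ * u) = χ u := by
    intro u
    set η := σ (S.h μ) r - r with hη
    have hη0 : π η = 0 := by rw [hη, map_sub, hK.equiv, S.h_C0 μ _ hcC, sub_self]
    have h1 : σ (S.a ((μ : F) * μ * u)) (σ (S.h μ) r) = σ (S.h μ) r + χ u := by
      have he : S.a ((μ : F) * μ * u) * S.h μ = S.h μ * S.a u := by rw [← S.h_a, inv_mul_cancel_right]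
      rw [← act_mul, he, act_mul, show σ (S.a u) r = r + χ u from (add_sub_cancel r _).symm, map_add,
        hK.ker_coprime _ hord _ (hker u)]
    rw [show σ (S.h μ) r = r + η from (add_sub_cancel r _).symm, map_add, hK.ker_A _ (S.a_mem _) η hη0] at h1
    show σ (S.a ((μ : F) * μ * u)) r - r = χ u
    rw [eq_sub_of_add_eq h1]
    abel
  set u := s / ((μ : F) * μ - 1) with hu
  have h1 := hχμ u
  rw [show (μ : F) * μ * u = u + s by
      rw [hu, mul_div_assoc', eq_comm, div_add' _ _ _ (sub_ne_zero.2 hμ)]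
      congr 1
      ring, hχadd, add_eq_left] at h1
  exact sub_eq_zero.1 h1

/-- Fixed points lift. -/
theorem lift_fixed (hc : Ctx ρ T N) (hA : Good ρ A) (hK : Cover p ρ σ π A) :
    ∀ a ∈ A, ∀ r, π r ∈ fx ρ A → σ a r = r := by
  have hle : fx ρ A ≤ (fx σ A).map π := by
    obtain ⟨k, hk⟩ := IsPGroup.iff_card.1 (hA.isPGroup hc.amb)
    have h1 : 1 < Nat.card A := (Subgroup.one_lt_card_iff_ne_bot _).2 hA.off.ne_bot
    have hp2 := (Fact.out : p.Prime).two_le
    by_cases hk1 : k = 1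
    · exact lift_prime hc hA (by rw [hk, hk1, pow_one]) hK
    have h4 : 4 ≤ Nat.card A := by
      have hk2 : 2 ≤ k := by
        rcases Nat.eq_zero_or_pos k with rfl | h
        · rw [hk, pow_zero] at h1; omega
        · omega
      rw [hk]
      calc 4 ≤ p ^ 2 := by nlinarith
        _ ≤ p ^ k := Nat.pow_le_pow_right (by omega) hk2
    obtain ⟨F, iF, iFF, ⟨S⟩⟩ := (nice_of_strict hc.base hA.off hA.strict).2 (by omega)
    exact lift_torus hc hA S h4 hK
  intro a ha r hr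
  obtain ⟨r', hr', he⟩ := hle hr
  have h := hK.ker_A a ha (r - r') (by rw [map_sub, he, sub_self])
  rwa [map_sub, hr' a ha, sub_left_inj] at h

end CfsgLib.LocalEven.MovesFixed
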